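import Mathlib.GroupTheory.IsSubnormal
import Cfsg.Prelude.Def_Local
import Cfsg.Prelude.Def_LocalEven
import Cfsg.Agent.Lib.Lie.Suz.Sub.Solv
import Cfsg.Agent.Lib.Lie.Suz.Twisted
import Cfsg.Agent.Lib.Perm.Dickson.Minimal
import Cfsg.Agent.Lib.Perm.Dickson.Finite

/-!
# Simple sections in the list "Suzuki group or `PSL₂(3^odd)`"

The list is closed under simple sections, so a group all of whose composition factors lie in it
has all its simple sections in it.
-/

set_option autoImplicit false
set_option linter.style.haveILetI false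

open Subgroup

namespace CfsgLib.FourFree

universe u

/-- All non-abelian simple sections are Suzuki groups or `PSL₂(3^odd)`. -/
abbrev KS (G : Type u) [Group G] : Prop :=
  Cfsg.IsKGroupWith Cfsg.IsSuzukiOrPSL2OddPowerThree G

variable {G G' X X' : Type u} [Group G] [Group G'] [Group X] [Group X']

theorem isListed_congr (e : X ≃* X') (h : Cfsg.IsSuzukiOrPSL2OddPowerThree X) :
    Cfsg.IsSuzukiOrPSL2OddPowerThree X' := by
  rcases h with ⟨F, i1, i2, m, h1, h2, ⟨f⟩⟩ | ⟨F, i1, i2, n, h2, ⟨f⟩⟩
  · exact Or.inl ⟨F, i1, i2, m, h1, h2, ⟨e.symm.trans f⟩⟩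
  · exact Or.inr ⟨F, i1, i2, n, h2, ⟨e.symm.trans f⟩⟩

theorem not_solvable_of_simple [IsSimpleGroup X] (h : ¬ IsMulCommutative X) :
    ¬ Group.IsSolvable X := fun hs => h ⟨⟨fun a b => IsSimpleGroup.comm_iff_isSolvable.2 hs a b⟩⟩

theorem not_comm_congr (e : X ≃* X') (h : ¬ IsMulCommutative X) : ¬ IsMulCommutative X' := by
  intro hc
  exact h ⟨⟨fun a b => e.injective (by rw [map_mul, map_mul]; exact hc.is_comm.comm _ _)⟩⟩

/-- A surjection from a group in which a property of simple quotients is known. -/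
theorem KS.of_quot (h : KS G) {H : Subgroup G} (f : H →* X) (hf : Function.Surjective f)
    [IsSimpleGroup X] (hX : ¬ IsMulCommutative X) : Cfsg.IsSuzukiOrPSL2OddPowerThree X := by
  let e : H ⧸ f.ker ≃* X := QuotientGroup.quotientKerEquivOfSurjective f hf
  haveI : Nontrivial (H ⧸ f.ker) := e.toEquiv.nontrivial
  haveI : IsSimpleGroup (H ⧸ f.ker) :=
    IsSimpleGroup.isSimpleGroup_of_surjective e.symm.toMonoidHom e.symm.surjective
  exact isListed_congr e (h H f.ker inferInstance (not_comm_congr e.symm hX))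

theorem KS.of_injective (h : KS G) (φ : G' →* G) (hφ : Function.Injective φ) : KS G' := by
  intro H N _ hs hc
  let e : H ≃* H.map φ := H.equivMapOfInjective φ hφ
  haveI := hs
  exact KS.of_quot h ((QuotientGroup.mk' N).comp e.symm.toMonoidHom)
    ((QuotientGroup.mk'_surjective N).comp e.symm.surjective) hc

theorem KS.of_surjective (h : KS G) (φ : G →* G') (hφ : Function.Surjective φ) : KS G' := by
  intro H N _ hs hc
  haveI := hs
  exact KS.of_quot h ((QuotientGroup.mk' N).comp (φ.subgroupComap H))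
    ((QuotientGroup.mk'_surjective N).comp
      (MonoidHom.subgroupComap_surjective_of_surjective φ H hφ)) hc

theorem KS.subgroup (h : KS G) (H : Subgroup G) : KS H := h.of_injective _ H.subtype_injective

theorem KS.quotient (h : KS G) (N : Subgroup G) [N.Normal] : KS (G ⧸ N) :=
  h.of_surjective _ (QuotientGroup.mk'_surjective N)

/-- A group with a normal subgroup and quotient in the class is in the class. -/
theorem KS.extension (M : Subgroup G) [M.Normal] (hM : KS M) (hQ : KS (G ⧸ M)) : KS G := by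
  intro H N _ hs hc
  haveI := hs
  set M' := M.subgroupOf H
  set q := QuotientGroup.mk' N
  haveI hn : (M'.map q).Normal := (inferInstance : M'.Normal).map q (QuotientGroup.mk'_surjective N)
  rcases hn.eq_bot_or_eq_top with h | h
  · have hle : M' ≤ N := by rwa [Subgroup.map_eq_bot_iff, QuotientGroup.ker_mk'] at h
    set π := (QuotientGroup.mk' M).comp H.subtype
    have hker : π.rangeRestrict.ker ≤ N := by
      intro x hx
      rw [MonoidHom.ker_rangeRestrict] at hx
      exact hle ((QuotientGroup.eq_one_iff (x : G)).1 hx)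
    let f : π.range →* H ⧸ N :=
      (MonoidHom.liftOfSurjective π.rangeRestrict π.rangeRestrict_surjective)
        ⟨q, by rwa [QuotientGroup.ker_mk']⟩
    refine KS.of_quot hQ f ?_ hc
    intro y
    obtain ⟨x, rfl⟩ := QuotientGroup.mk'_surjective N y
    exact ⟨π.rangeRestrict x, MonoidHom.liftOfRightInverse_comp_apply _ _ _ _ x⟩
  · let incl : (H.subgroupOf M) →* H :=
      { toFun := fun x => ⟨((x : M) : G), x.2⟩
        map_one' := rfl
        map_mul' := fun _ _ => rfl }
    refine KS.of_quot hM (q.comp incl) ?_ hc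
    intro y
    obtain ⟨x, hx, rfl⟩ := h.ge (mem_top y)
    exact ⟨⟨⟨(x : G), hx⟩, x.2⟩, rfl⟩

section Suzuki

open CfsgLib.Lie.Suz

variable {F : Type} [Field F] [Fintype F] {m : ℕ}

theorem ks_suzuki (hm : 1 ≤ m) (hF : Fintype.card F = 2 ^ (2 * m + 1)) : KS (Cfsg.Sz F m) := by
  intro M N _ hs hc
  haveI := hs
  have hns : ¬ Group.IsSolvable M := fun h => not_solvable_of_simple hc
    (Group.isSolvable_of_surjective (QuotientGroup.mk'_surjective N))
  rcases subgroup_cases hm hF M with ⟨a, ha⟩ | ⟨x, hx, hM⟩ | ⟨c, n, h3, hn, hcM⟩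
  · exact absurd (solvable_of_fix hm hF ha) hns
  · haveI := solvable_NC hm hF hx
    exact absurd (Group.isSolvable_of_isSolvable_injective (Subgroup.inclusion_injective hM)) hns
  · obtain ⟨k, rfl, hk1, -, -⟩ := SubSz_card' hF hm h3 hn
    let K := GaloisField 2 (2 * k + 1)
    letI : Fintype K := Fintype.ofFinite K
    have hK : Fintype.card K = 2 ^ (2 * k + 1) := by
      rw [Fintype.card_eq_nat_card]; exact GaloisField.card 2 _ (by omega)
    obtain ⟨φ, hφ, hr⟩ := exists_embed hm hF hK hn hk1
    let e : M ≃* Cfsg.Sz K k :=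
      (M.equivMapOfInjective _ (MulAut.conj c).injective).trans
        ((MulEquiv.subgroupCongr (hcM.trans hr.symm)).trans (MonoidHom.ofInjective hφ).symm)
    haveI := CfsgLib.Lie.Suz.simple hk1 hK
    obtain ⟨tw⟩ := exists_twEquiv (F := K) (m := k) hk1 hK
    haveI : IsSimpleGroup M :=
      @IsSimpleGroup.isSimpleGroup_of_surjective _ _ _ _ _ e.toEquiv.nontrivial e.symm.toMonoidHom
        e.symm.surjective
    rcases (inferInstance : N.Normal).eq_bot_or_eq_top with h | h
    · exact Or.inl ⟨K, inferInstance, inferInstance, k, hk1, hK,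
        ⟨((QuotientGroup.quotientMulEquivOfEq h).trans QuotientGroup.quotientBot).trans
          (e.trans tw)⟩⟩
    · refine absurd ⟨⟨fun a b => ?_⟩⟩ hc
      haveI : Subsingleton (M ⧸ N) := by
        rw [h]; exact QuotientGroup.subsingleton_quotient_top
      exact Subsingleton.elim _ _

end Suzuki

section PSL

open CfsgLib.Perm.Dickson

variable {F : Type} [Field F] [Fintype F] {n : ℕ}

theorem ks_psl (hF : Fintype.card F = 3 ^ (2 * n + 1)) :
    KS (Matrix.ProjectiveSpecialLinearGroup (Fin 2) F) := by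
  intro M N _ hs hc
  haveI := hs
  haveI : Fact (Nat.Prime 3) := ⟨Nat.prime_three⟩
  haveI : CharP F 3 := by
    obtain ⟨p, hp⟩ := CharP.exists F
    obtain ⟨e, hpp, he⟩ := FiniteField.card F p
    rw [hF] at he
    have : p ∣ 3 ^ (2 * n + 1) := he ▸ dvd_pow_self p e.ne_zero
    rwa [← (Nat.prime_dvd_prime_iff_eq hpp Nat.prime_three).1 (hpp.dvd_of_dvd_pow this)]
  haveI := finite_G2 (F := F)
  have hns : ¬ Group.IsSolvable M := fun h => not_solvable_of_simple hc
    (Group.isSolvable_of_surjective (QuotientGroup.mk'_surjective N))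
  have hns' : ¬ Group.IsSolvable (up M) := fun h => hns
    (Group.isSolvable_of_isSolvable_injective (f := (upEquiv M).toMonoidHom) (upEquiv M).injective)
  have hq : Nat.card F = 3 ^ (2 * n + 1) := by rw [Nat.card_eq_fintype_card, hF]
  have hodd : Odd (Nat.card F) := hq ▸ Odd.pow (by decide)
  rcases classify_finite 3 (up M) with ⟨x, hx⟩ | ⟨a, b, hg, h, -⟩ | ⟨a, b, hg, h, -, -⟩ |
    ⟨-, -, h3, -⟩ | ⟨-, -, h3, -⟩ | ⟨hN, -, -, -⟩ | ⟨σ, F1, h3, h⟩
  · exact absurd (solvable_of_fixed hx) hns'
  · exact absurd (solvable_of_pairSet hg.1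
      (fun g hg' => mem_pairSet.2 (Or.inl (mem_pairFix.1 (h hg'))))) hns'
  · exact absurd (solvable_of_pairSet hg.1 h) hns'
  · exact absurd rfl h3
  · exact absurd rfl h3
  · exfalso
    have h5 : 5 ∣ Nat.card (psl F) := by
      refine dvd_trans ?_ (Subgroup.card_dvd_of_le (up_le M))
      rw [hN]; norm_num
    have := h5.trans (Dvd.intro_left _ (card_psl F))
    rw [hq] at this
    have hz : ((3 ^ (2 * n + 1) * ((3 ^ (2 * n + 1) - 1) * (3 ^ (2 * n + 1) + 1)) : ℕ) : ZMod 5) = 0 :=
      (ZMod.natCast_eq_zero_iff _ _).2 this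
    have hd : ∀ j : ℕ, (3 : ZMod 5) ^ (2 * j + 1) = 3 ∨ (3 : ZMod 5) ^ (2 * j + 1) = 2 := by
      intro j
      induction j with
      | zero => left; rfl
      | succ j ih =>
        rw [show 2 * (j + 1) + 1 = 2 * j + 1 + 2 by ring, pow_add]
        rcases ih with e | e <;> rw [e] <;> decide
    rw [Nat.cast_mul, Nat.cast_mul, Nat.cast_sub (Nat.one_le_pow _ _ (by norm_num)),
      Nat.cast_add, Nat.cast_pow, Nat.cast_one] at hz
    rcases hd n with e | e <;> norm_num [e] at hz <;> exact absurd hz (by decide)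
  · obtain ⟨d, hd⟩ : ∃ d, Nat.card F1 = 3 ^ d := by
      obtain ⟨d, -, hd⟩ := card_eq_pow (F := F1) 3
      exact ⟨d, hd⟩
    have hdn : d ∣ 2 * n + 1 := by
      have h1 := Module.natCard_eq_pow_finrank (K := F1) (V := F)
      rw [hq, hd, ← pow_mul] at h1
      exact Dvd.intro _ (Nat.pow_right_injective (by norm_num : 2 ≤ 3) h1).symm
    obtain ⟨j, rfl⟩ : Odd d := Odd.of_dvd_nat ⟨n, rfl⟩ hdn
    have ho1 : Odd (Nat.card F1) := hd ▸ Odd.pow (by decide)
    rcases h with h | ⟨-, h⟩
    · -- `PGL₂` of a subfield is too large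
      exfalso
      have h1 : Nat.card (G2 F1) ∣ Nat.card (psl F) := by
        rw [show Nat.card (G2 F1) = Nat.card (conjG σ (up M)) by
          rw [h]; exact Nat.card_congr (MonoidHom.ofInjective (mapG_injective _)).toEquiv,
          show Nat.card (conjG σ (up M)) = Nat.card (up M) from
            Subgroup.card_map_of_injective (MulAut.conj σ).injective]
        exact Subgroup.card_dvd_of_le (up_le M)
      have h2 := card_psl F
      rw [gcd_odd hodd, hq] at h2
      rw [card_G2 F1, hd] at h1
      -- both `q ± 1` have two-part two or four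
      have key : ∀ i : ℕ, ∃ a b, 3 ^ (2 * i + 1) = 8 * a + 3 ∧ b = a := by
        intro i
        induction i with
        | zero => exact ⟨0, 0, rfl, rfl⟩
        | succ i ih =>
          obtain ⟨a, -, ha, -⟩ := ih
          refine ⟨9 * a + 3, _, ?_, rfl⟩
          rw [show 2 * (i + 1) + 1 = 2 * i + 1 + 2 by ring, pow_add, ha]; ring
      obtain ⟨a, -, ha, -⟩ := key j
      obtain ⟨c, -, hc', -⟩ := key n
      rw [ha] at h1
      rw [hc'] at h2
      have h8 : 8 ∣ Nat.card (psl F) := by
        refine dvd_trans ⟨(8 * a + 3) * ((4 * a + 1) * (2 * a + 1)), ?_⟩ h1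
        rw [show 8 * a + 3 - 1 = 2 * (4 * a + 1) by omega]; ring
      obtain ⟨e, he⟩ := h8
      rw [he, show 8 * c + 3 - 1 = 2 * (4 * c + 1) by omega,
        show 2 * (8 * e) = 8 * (2 * e) by ring,
        show (8 * c + 3) * (2 * (4 * c + 1) * (8 * c + 3 + 1)) =
          8 * ((8 * c + 3) * (4 * c + 1) * (2 * c + 1)) by ring] at h2
      have h3' := Nat.eq_of_mul_eq_mul_left (by norm_num) h2
      have hev : Odd (2 * e) := h3' ▸ (Odd.mul (Odd.mul ⟨4 * c + 1, by ring⟩ ⟨2 * c, by ring⟩) ⟨c, rfl⟩)
      exact (Nat.not_odd_iff_even.2 ⟨e, by ring⟩) hev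
    · let e : M ≃* Matrix.ProjectiveSpecialLinearGroup (Fin 2) F1 :=
        (upEquiv M).trans (((up M).equivMapOfInjective _ (MulAut.conj σ).injective).trans
          ((MulEquiv.subgroupCongr h).trans (((psl F1).equivMapOfInjective _
            (mapG_injective F1.subtype)).symm.trans (pslEquiv F1).symm)))
      letI : Fintype F1 := Fintype.ofFinite F1
      have h4 : 4 ≤ Nat.card F1 := by
        by_contra hlt
        refine hns ?_
        have hj : Nat.card F1 = 3 := by omega
        haveI : Group.IsSolvable (S2P F1) := solvable_of_card_dvd_24 (by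
          have := card_psl F1
          rw [gcd_odd ho1, hj] at this
          rw [card_S2P]
          exact ⟨2, by omega⟩)
        exact Group.isSolvable_of_isSolvable_injective (f := e.toMonoidHom) e.injective
      haveI := (psl_simple_noncomm h4).1
      haveI : IsSimpleGroup M :=
        @IsSimpleGroup.isSimpleGroup_of_surjective _ _ _ _ _ e.toEquiv.nontrivial e.symm.toMonoidHom
          e.symm.surjective
      rcases (inferInstance : N.Normal).eq_bot_or_eq_top with hb | ht
      · exact Or.inr ⟨F1, inferInstance, inferInstance, j, by rw [← Nat.card_eq_fintype_card, hd],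
          ⟨((QuotientGroup.quotientMulEquivOfEq hb).trans QuotientGroup.quotientBot).trans e⟩⟩
      · refine absurd ⟨⟨fun a b => ?_⟩⟩ hc
        haveI : Subsingleton (M ⧸ N) := by
          rw [ht]; exact QuotientGroup.subsingleton_quotient_top
        exact Subsingleton.elim _ _

end PSL

/-- A listed group has all simple sections listed. -/
theorem ks_of_listed (h : Cfsg.IsSuzukiOrPSL2OddPowerThree X) : KS X := by
  rcases h with ⟨F, _, _, m, hm, hF, ⟨f⟩⟩ | ⟨F, _, _, n, hF, ⟨f⟩⟩
  · obtain ⟨tw⟩ := CfsgLib.Lie.Suz.exists_twEquiv (F := F) (m := m) hm hF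
    intro H N _ hs hc
    haveI := hs
    let g : X →* Cfsg.Sz F m := (f.trans tw.symm).toMonoidHom
    let e := H.equivMapOfInjective g (f.trans tw.symm).injective
    obtain h' := ks_suzuki hm hF
    let q : H.map g →* H ⧸ N := (QuotientGroup.mk' N).comp e.symm.toMonoidHom
    let e' : (H.map g) ⧸ q.ker ≃* H ⧸ N := QuotientGroup.quotientKerEquivOfSurjective q
      ((QuotientGroup.mk'_surjective N).comp e.symm.surjective)
    haveI : Nontrivial ((H.map g) ⧸ q.ker) := e'.toEquiv.nontrivial
    haveI := IsSimpleGroup.isSimpleGroup_of_surjective e'.symm.toMonoidHom e'.symm.surjective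
    have := h' (H.map g) q.ker inferInstance (fun hc' => hc ⟨⟨fun a b => e'.symm.injective (by
      rw [map_mul, map_mul]; exact hc'.is_comm.comm _ _)⟩⟩)
    rcases this with ⟨K, i1, i2, k, h1, h2, ⟨w⟩⟩ | ⟨K, i1, i2, k, h2, ⟨w⟩⟩
    · exact Or.inl ⟨K, i1, i2, k, h1, h2, ⟨e'.symm.trans w⟩⟩
    · exact Or.inr ⟨K, i1, i2, k, h2, ⟨e'.symm.trans w⟩⟩
  · intro H N _ hs hc
    haveI := hs
    let g : X →* Matrix.ProjectiveSpecialLinearGroup (Fin 2) F := f.toMonoidHom
    let e := H.equivMapOfInjective g f.injective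
    let q : H.map g →* H ⧸ N := (QuotientGroup.mk' N).comp e.symm.toMonoidHom
    let e' : (H.map g) ⧸ q.ker ≃* H ⧸ N := QuotientGroup.quotientKerEquivOfSurjective q
      ((QuotientGroup.mk'_surjective N).comp e.symm.surjective)
    haveI : Nontrivial ((H.map g) ⧸ q.ker) := e'.toEquiv.nontrivial
    haveI := IsSimpleGroup.isSimpleGroup_of_surjective e'.symm.toMonoidHom e'.symm.surjective
    have := ks_psl hF (H.map g) q.ker inferInstance (fun hc' => hc ⟨⟨fun a b => e'.symm.injective (by
      rw [map_mul, map_mul]; exact hc'.is_comm.comm _ _)⟩⟩)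
    rcases this with ⟨K, i1, i2, k, h1, h2, ⟨w⟩⟩ | ⟨K, i1, i2, k, h2, ⟨w⟩⟩
    · exact Or.inl ⟨K, i1, i2, k, h1, h2, ⟨e'.symm.trans w⟩⟩
    · exact Or.inr ⟨K, i1, i2, k, h2, ⟨e'.symm.trans w⟩⟩

/-- If all composition factors are listed, so are all simple sections. -/
theorem ks_of_composition [Finite G]
    (h : Cfsg.IsCompositionKGroupWith Cfsg.IsSuzukiOrPSL2OddPowerThree G) : KS G := by
  suffices H : ∀ n, ∀ (Y : Type u) [Group Y] [Finite Y], Nat.card Y = n →
      Cfsg.IsCompositionKGroupWith Cfsg.IsSuzukiOrPSL2OddPowerThree Y → KS Y from H _ G rfl h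
  intro n
  induction n using Nat.strong_induction_on with
  | _ n ih =>
  intro Y _ _ hn hY
  by_cases hM : ∃ M : Subgroup Y, M.Normal ∧ M ≠ ⊥ ∧ M ≠ ⊤
  · obtain ⟨M, hMn, hMb, hMt⟩ := hM
    haveI := hMn
    refine KS.extension M (ih _ ?_ M rfl fun H hH N _ hs hc => ?_)
      (ih _ ?_ (Y ⧸ M) rfl fun H hH N _ hs hc => ?_)
    · exact hn ▸ lt_of_le_of_ne (Subgroup.card_le_card_group M)
        fun e => hMt (Subgroup.eq_top_of_card_eq M e)
    · haveI := hs
      have hsub : (H.map M.subtype).IsSubnormal := hH.trans' hMn.isSubnormal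
      let e := H.equivMapOfInjective M.subtype M.subtype_injective
      let q : H.map M.subtype →* H ⧸ N := (QuotientGroup.mk' N).comp e.symm.toMonoidHom
      let e' : (H.map M.subtype) ⧸ q.ker ≃* H ⧸ N := QuotientGroup.quotientKerEquivOfSurjective q
        ((QuotientGroup.mk'_surjective N).comp e.symm.surjective)
      haveI : Nontrivial ((H.map M.subtype) ⧸ q.ker) := e'.toEquiv.nontrivial
      haveI := IsSimpleGroup.isSimpleGroup_of_surjective e'.symm.toMonoidHom e'.symm.surjective
      exact isListed_congr e' (hY _ hsub q.ker inferInstance (not_comm_congr e'.symm hc))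
    · have h1 : 1 < Nat.card M := (Subgroup.one_lt_card_iff_ne_bot M).2 hMb
      rw [← hn, Subgroup.card_eq_card_quotient_mul_card_subgroup M]
      exact lt_mul_of_one_lt_right Nat.card_pos h1
    · haveI := hs
      have hsub := Subgroup.IsSubnormal.comap (QuotientGroup.mk' M) hH
      let q : H.comap (QuotientGroup.mk' M) →* H ⧸ N :=
        (QuotientGroup.mk' N).comp ((QuotientGroup.mk' M).subgroupComap H)
      let e' : H.comap (QuotientGroup.mk' M) ⧸ q.ker ≃* H ⧸ N :=
        QuotientGroup.quotientKerEquivOfSurjective q ((QuotientGroup.mk'_surjective N).comp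
          (MonoidHom.subgroupComap_surjective_of_surjective _ H (QuotientGroup.mk'_surjective M)))
      haveI : Nontrivial (H.comap (QuotientGroup.mk' M) ⧸ q.ker) := e'.toEquiv.nontrivial
      haveI := IsSimpleGroup.isSimpleGroup_of_surjective e'.symm.toMonoidHom e'.symm.surjective
      exact isListed_congr e' (hY _ hsub q.ker inferInstance (not_comm_congr e'.symm hc))
  · push Not at hM
    intro H N _ hs hc
    haveI := hs
    have hns : ¬ Group.IsSolvable H := fun h' => not_solvable_of_simple hc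
      (Group.isSolvable_of_surjective (QuotientGroup.mk'_surjective N))
    have hYc : ¬ IsMulCommutative Y := fun hc' => hns (by
      letI : CommGroup H := { mul_comm := fun a b => Subtype.ext (hc'.is_comm.comm (a : Y) b) }
      infer_instance)
    haveI : Nontrivial Y := by
      by_contra hY'
      rw [not_nontrivial_iff_subsingleton] at hY'
      exact hYc ⟨⟨fun a b => Subsingleton.elim _ _⟩⟩
    haveI : IsSimpleGroup Y := ⟨fun M hM' => or_iff_not_imp_left.2 fun hb => hM M hM' hb⟩
    let q : (⊤ : Subgroup Y) →* Y := Subgroup.topEquiv.toMonoidHom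
    let e' : (⊤ : Subgroup Y) ⧸ q.ker ≃* Y :=
      QuotientGroup.quotientKerEquivOfSurjective q Subgroup.topEquiv.surjective
    haveI : Nontrivial ((⊤ : Subgroup Y) ⧸ q.ker) := e'.toEquiv.nontrivial
    haveI := IsSimpleGroup.isSimpleGroup_of_surjective e'.symm.toMonoidHom e'.symm.surjective
    exact ks_of_listed (isListed_congr e' (hY ⊤ Subgroup.IsSubnormal.top q.ker inferInstance
      (not_comm_congr e'.symm hYc))) H N inferInstance hc

end CfsgLib.FourFree
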