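import Cfsg.Agent.Lib.AutPSL.BalanceField
import Cfsg.Agent.Lib.AutPSL.Outer
import Cfsg.Agent.Lib.Perm.Dickson.Bridge

/-!
# `PSL₂(3^odd)`: outer automorphisms of order two, and centralizers of involutions

An automorphism of order two which is not inner comes from a matrix with two eigenvalues in the
field and inverts a unipotent element.  The centralizer of an involution is dihedral: elements with
lifts in the field `F[S]`, inverted by all the others.
-/

set_option autoImplicit false
set_option linter.style.haveILetI false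
set_option linter.unusedSectionVars false

namespace CfsgLib.FourFree.PSL

open Matrix
open CfsgLib.AutPSL

variable {F : Type} [Field F] [Fintype F]

theorem proj_eq_iff {A B : Matrix.SpecialLinearGroup (Fin 2) F} :
    proj A = proj B ↔ A.1 = B.1 ∨ A.1 = -B.1 := by
  constructor
  · intro h
    obtain ⟨c, hc⟩ := proj_eq_imp h
    have hd := A.2
    rw [hc, Matrix.det_smul, B.2, mul_one, Fintype.card_fin] at hd
    rcases sq_eq_one_iff.1 hd with rfl | rfl
    · exact Or.inl (by rw [hc, one_smul])
    · exact Or.inr (by rw [hc, neg_smul, one_smul])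
  · rintro (h | h)
    · rw [Subtype.ext h]
    · have h1 : proj (B⁻¹ * A) = 1 := by
        refine proj_eq_one_of_scalar le_rfl (c := (-1 : F)) ?_
        rw [Matrix.SpecialLinearGroup.coe_mul, h, mul_neg, ← Matrix.SpecialLinearGroup.coe_mul,
          inv_mul_cancel, Matrix.SpecialLinearGroup.coe_one, neg_smul, one_smul]
      rw [map_mul, map_inv] at h1
      exact (inv_mul_eq_one.1 h1).symm

theorem two_ne (h3 : (3 : F) = 0) : (2 : F) ≠ 0 := by
  intro h
  have : (1 : F) = 0 := by linear_combination h3 - h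
  exact one_ne_zero this

theorem three_eq {n : ℕ} (hF : Fintype.card F = 3 ^ (2 * n + 1)) : (3 : F) = 0 := by
  have h := FiniteField.cast_card_eq_zero F
  rw [hF, Nat.cast_pow] at h
  simpa using eq_zero_of_pow_eq_zero h

theorem neg_one_not_square {n : ℕ} (hF : Fintype.card F = 3 ^ (2 * n + 1)) :
    ¬ IsSquare (-1 : F) := by
  rw [FiniteField.isSquare_neg_one_iff, hF]
  intro h
  apply h
  clear h hF
  induction n with
  | zero => rfl
  | succ k ih => rw [show 2 * (k + 1) + 1 = 2 * k + 1 + 2 by ring, pow_add, Nat.mul_mod, ih]; norm_num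

/-- An automorphism with square one inverting no element of order three is inner. -/
theorem inner_of_sq {n : ℕ} (hF : Fintype.card F = 3 ^ (2 * n + 1))
    {β : MulAut (Matrix.ProjectiveSpecialLinearGroup (Fin 2) F)} (hβ : β * β = 1)
    (hfree : ∀ x : Matrix.ProjectiveSpecialLinearGroup (Fin 2) F, x ^ 3 = 1 → β x = x⁻¹ → x = 1) :
    β ∈ (MulAut.conj : Matrix.ProjectiveSpecialLinearGroup (Fin 2) F →* _).range := by
  classical
  haveI : Fact (Nat.Prime 3) := ⟨Nat.prime_three⟩
  have h3 := three_eq hF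
  have h2 := two_ne h3
  obtain ⟨g₀, σ, hg₀ | ⟨h, -⟩⟩ := aut_classify (n := 2) le_rfl β
  swap
  · omega
  obtain ⟨g, hg⟩ : ∃ g : GL (Fin 2) F, β = indHom g := by
    have hb : β ^ (2 * n + 1) = β := by
      rw [pow_succ, pow_mul, pow_two, hβ, one_pow, one_mul]
    rw [hg₀, ind_pow, ← card_ringAut hF, pow_card_eq_one'] at hb
    exact ⟨_, hg₀.trans hb.symm⟩
  subst hg
  rw [← map_mul] at hβ
  obtain ⟨c, hc⟩ := scalar_of_indHom le_rfl hβ
  rw [Units.val_mul] at hc
  have hd0 : g.1.det ≠ 0 := ((Matrix.isUnit_iff_isUnit_det _).1 g.isUnit).ne_zero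
  by_cases hsq : IsSquare g.1.det
  · obtain ⟨u, hu⟩ := hsq
    have hu0 : u ≠ 0 := fun h => hd0 (by rw [hu, h, mul_zero])
    let S : Matrix.SpecialLinearGroup (Fin 2) F := ⟨u⁻¹ • g.1, by
      rw [Matrix.det_smul, Fintype.card_fin, hu]; field_simp⟩
    refine ⟨proj S, ?_⟩
    rw [conj_proj, show Matrix.SpecialLinearGroup.toGL S = scal (Units.mk0 _ (inv_ne_zero hu0)) * g
      from Units.ext (by rw [Units.val_mul, scal_val]; simp [S]; rfl), map_mul,
      indHom_scalar le_rfl (c := u⁻¹) (by rw [scal_val]; rfl), one_mul]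
  exfalso
  have e00 := congrFun (congrFun hc 0) 0
  have e01 := congrFun (congrFun hc 0) 1
  have e10 := congrFun (congrFun hc 1) 0
  have e11 := congrFun (congrFun hc 1) 1
  simp [Matrix.mul_apply, Fin.sum_univ_two] at e00 e01 e10 e11
  have htr : g.1 1 1 = -g.1 0 0 := by
    by_contra hne
    have hτ : g.1 0 0 + g.1 1 1 ≠ 0 := fun e => hne (by linear_combination e)
    have h01 : g.1 0 1 = 0 := (mul_eq_zero.1 (show (g.1 0 0 + g.1 1 1) * g.1 0 1 = 0 by
      linear_combination e01)).resolve_left hτ
    have h10 : g.1 1 0 = 0 := (mul_eq_zero.1 (show (g.1 0 0 + g.1 1 1) * g.1 1 0 = 0 by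
      linear_combination e10)).resolve_left hτ
    have he : g.1 0 0 - g.1 1 1 = 0 := (mul_eq_zero.1
      (show (g.1 0 0 - g.1 1 1) * (g.1 0 0 + g.1 1 1) = 0 by
        linear_combination e00 - e11)).resolve_right hτ
    exact hsq ⟨g.1 0 0, by rw [Matrix.det_fin_two, h01, h10]; linear_combination (-g.1 0 0) * he⟩
  have hdet : g.1.det = -c := by
    rw [Matrix.det_fin_two, htr]; linear_combination -e00
  obtain ⟨s, hs⟩ : IsSquare c := by
    by_contra hcs
    refine neg_one_not_square hF ?_
    rw [hdet] at hsq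
    have hc0 : c ≠ 0 := fun h => hcs (h ▸ IsSquare.zero)
    rw [← quadraticChar_one_iff_isSquare (neg_ne_zero.2 one_ne_zero)]
    have a1 := quadraticChar_neg_one_iff_not_isSquare.2 hcs
    have a2 := quadraticChar_neg_one_iff_not_isSquare.2 hsq
    rw [show (-c) = (-1 : F) * c by ring, map_mul, a1] at a2
    linarith
  have hs0 : s ≠ 0 := fun h => hd0 (by rw [hdet, hs, h, mul_zero, neg_zero])
  set P := g.1 + s • (1 : Matrix (Fin 2) (Fin 2) F) with hP
  set Q := g.1 - s • (1 : Matrix (Fin 2) (Fin 2) F) with hQ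
  have hgg : g.1 * g.1 = (s * s) • 1 := by rw [hc, hs]
  have hQP : Q * P = 0 := by
    rw [hP, hQ, sub_mul, mul_add, mul_add, hgg, smul_mul_assoc, one_mul, mul_smul_comm, mul_one,
      smul_mul_assoc, one_mul, smul_smul]
    abel
  have hgP : g.1 * P = s • P := by
    rw [hP, mul_add, hgg, mul_smul_comm, mul_one, smul_add, smul_smul, add_comm]
  have hQg : Q * g.1 = -(s • Q) := by
    rw [hQ, sub_mul, hgg, smul_mul_assoc, one_mul, smul_sub, smul_smul]; abel
  obtain ⟨N, hN0, hNN, hgN, hNtr⟩ : ∃ N : Matrix (Fin 2) (Fin 2) F,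
      N ≠ 0 ∧ N * N = 0 ∧ g.1 * N = -(N * g.1) ∧ N.trace = 0 := by
    have hnsc : ∀ t : F, g.1 ≠ t • 1 := fun t ht => by
      refine hsq ⟨t, ?_⟩
      rw [ht, Matrix.det_smul, Matrix.det_one, Fintype.card_fin, mul_one, pow_two]
    obtain ⟨i, k, hki⟩ : ∃ i k, P k i ≠ 0 := by
      by_contra hall
      push Not at hall
      refine hnsc (-s) ?_
      have : P = 0 := Matrix.ext fun k i => hall i k
      rw [hP] at this
      rw [neg_smul]
      exact eq_neg_of_add_eq_zero_left this
    obtain ⟨j, l, hjl⟩ : ∃ j l, Q j l ≠ 0 := by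
      by_contra hall
      push Not at hall
      exact hnsc s (sub_eq_zero.1 (Matrix.ext fun a b => hall a b))
    refine ⟨P * Matrix.single i j 1 * Q, fun h => ?_, ?_, ?_, ?_⟩
    · have := congrFun (congrFun h k) l
      simp [Matrix.mul_apply, Fin.sum_univ_two] at this
      fin_cases i <;> fin_cases j <;> simp_all [Matrix.single]
    · calc P * Matrix.single i j 1 * Q * (P * Matrix.single i j 1 * Q)
          = P * Matrix.single i j 1 * (Q * P) * (Matrix.single i j 1 * Q) := by
            simp only [Matrix.mul_assoc]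
        _ = 0 := by rw [hQP, Matrix.mul_zero, Matrix.zero_mul]
    · rw [← Matrix.mul_assoc, ← Matrix.mul_assoc, hgP,
        Matrix.mul_assoc _ Q g.1, hQg]
      simp
    · rw [Matrix.trace_mul_cycle, hQP, Matrix.zero_mul, Matrix.trace_zero]
  have hNdet : N.det = 0 := by
    have := congrArg Matrix.det hNN
    rw [Matrix.det_mul, Matrix.det_zero] at this
    exact mul_self_eq_zero.1 this
  rw [Matrix.det_fin_two] at hNdet
  rw [Matrix.trace_fin_two] at hNtr
  let u : Matrix.SpecialLinearGroup (Fin 2) F := ⟨1 + N, by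
    rw [Matrix.det_fin_two]; simp; linear_combination hNdet + hNtr⟩
  let u' : Matrix.SpecialLinearGroup (Fin 2) F := ⟨1 - N, by
    rw [Matrix.det_fin_two]; simp; linear_combination hNdet - hNtr⟩
  have huu : u' = u⁻¹ := eq_inv_of_mul_eq_one_left (Subtype.ext (by
    show (1 - N) * (1 + N) = 1
    rw [sub_mul, mul_add, mul_add, hNN]; simp))
  have hu3 : u ^ 3 = 1 := Subtype.ext (by
    rw [Matrix.SpecialLinearGroup.coe_pow, Matrix.SpecialLinearGroup.coe_one]
    show (1 + N) ^ 3 = 1
    rw [pow_succ, pow_two]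
    simp only [add_mul, mul_add, one_mul, mul_one, hNN, zero_add, add_zero, Matrix.mul_assoc,
      Matrix.mul_zero]
    rw [show (1 : Matrix (Fin 2) (Fin 2) F) + N + N + N = 1 + (3 : F) • N by
      rw [show (3 : F) = 1 + 1 + 1 by norm_num, add_smul, add_smul, one_smul]; abel, h3, zero_smul,
      add_zero])
  have hu1 : proj u ≠ 1 := fun h => by
    rw [← map_one proj, proj_eq_iff] at h
    rcases h with h | h
    · exact hN0 (by simpa [u] using h)
    · have h' : (1 : Matrix (Fin 2) (Fin 2) F) + N = -1 := h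
      have h'' : N = -(2 : F) • (1 : Matrix (Fin 2) (Fin 2) F) := by
        rw [neg_smul, two_smul, neg_add, eq_add_neg_iff_add_eq, ← h']; abel
      rw [h''] at hNN
      have := congrFun (congrFun hNN 0) 0
      simp at this
      exact h2 this
  refine hu1 (hfree (proj u) (by rw [← map_pow, hu3, map_one]) ?_)
  rw [indHom_apply, ind_proj, map_one, ← map_inv, ← huu]
  refine congrArg proj (Subtype.ext ?_)
  rw [MulAut.one_apply, slConj_val]
  show g.1 * (1 + N) * (g⁻¹).1 = 1 - N
  rw [mul_add, mul_one, hgN, add_mul, Units.mul_inv, neg_mul, Matrix.mul_assoc, Units.mul_inv,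
    mul_one, sub_eq_add_neg]

/-- The lift of an involution. -/
theorem invol_lift (h2 : (2 : F) ≠ 0) {t : Matrix.ProjectiveSpecialLinearGroup (Fin 2) F}
    (ht : t * t = 1) (ht1 : t ≠ 1) :
    ∃ S : Matrix.SpecialLinearGroup (Fin 2) F, proj S = t ∧ S.1 1 1 = -S.1 0 0 := by
  obtain ⟨S, rfl⟩ := QuotientGroup.mk'_surjective _ t
  refine ⟨S, rfl, ?_⟩
  have e : proj (S * S) = proj 1 := by rw [map_mul, map_one]; exact ht
  have hd := S.2
  rw [Matrix.det_fin_two] at hd
  by_contra hne
  have hτ : S.1 0 0 + S.1 1 1 ≠ 0 := fun h => hne (by linear_combination h)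
  have key : ∀ c : F, c * c = 1 → (S * S).1 = c • 1 → False := by
    intro c hcc hc
    rw [Matrix.SpecialLinearGroup.coe_mul] at hc
    have e00 := congrFun (congrFun hc 0) 0
    have e01 := congrFun (congrFun hc 0) 1
    have e10 := congrFun (congrFun hc 1) 0
    have e11 := congrFun (congrFun hc 1) 1
    simp [Matrix.mul_apply, Fin.sum_univ_two] at e00 e01 e10 e11
    have h01 : S.1 0 1 = 0 := (mul_eq_zero.1 (show (S.1 0 0 + S.1 1 1) * S.1 0 1 = 0 by
      linear_combination e01)).resolve_left hτ
    have h10 : S.1 1 0 = 0 := (mul_eq_zero.1 (show (S.1 0 0 + S.1 1 1) * S.1 1 0 = 0 by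
      linear_combination e10)).resolve_left hτ
    have he : S.1 0 0 - S.1 1 1 = 0 := (mul_eq_zero.1
      (show (S.1 0 0 - S.1 1 1) * (S.1 0 0 + S.1 1 1) = 0 by
        linear_combination e00 - e11)).resolve_right hτ
    refine ht1 ?_
    show proj S = 1
    refine proj_eq_one_of_scalar le_rfl (c := S.1 0 0) ?_
    ext i j
    fin_cases i <;> fin_cases j <;> simp [h01, h10]
    linear_combination -he
  rcases proj_eq_iff.1 e with h | h
  · exact key 1 (one_mul 1) (by rw [h, one_smul, Matrix.SpecialLinearGroup.coe_one])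
  · exact key (-1) (by ring) (by rw [h, neg_smul, one_smul, Matrix.SpecialLinearGroup.coe_one])

section Centralizer

variable {t : Matrix.ProjectiveSpecialLinearGroup (Fin 2) F}

/-- Elements with a lift in the algebra of the lift `S` of `t`. -/
def InK (S : Matrix.SpecialLinearGroup (Fin 2) F)
    (g : Matrix.ProjectiveSpecialLinearGroup (Fin 2) F) : Prop :=
  ∃ (A : Matrix.SpecialLinearGroup (Fin 2) F) (x y : F), proj A = g ∧
    A.1 = x • (1 : Matrix (Fin 2) (Fin 2) F) + y • S.1 ∧ x * x + y * y = 1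

variable {S : Matrix.SpecialLinearGroup (Fin 2) F}

theorem sq_lift (htr : S.1 1 1 = -S.1 0 0) : S.1 * S.1 = -(1 : Matrix (Fin 2) (Fin 2) F) := by
  have hd := S.2
  rw [Matrix.det_fin_two, htr] at hd
  ext i j
  fin_cases i <;> fin_cases j <;> simp [Matrix.mul_apply, Fin.sum_univ_two, htr] <;>
    first | ring1 | linear_combination -hd

theorem low_ne (hns : ¬ IsSquare (-1 : F)) (htr : S.1 1 1 = -S.1 0 0) : S.1 0 1 ≠ 0 := by
  intro h
  refine hns ⟨S.1 0 0, ?_⟩
  have hd := S.2
  rw [Matrix.det_fin_two, htr, h] at hd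
  linear_combination hd

theorem det_comb (htr : S.1 1 1 = -S.1 0 0) (x y : F) :
    (x • (1 : Matrix (Fin 2) (Fin 2) F) + y • S.1).det = x * x + y * y := by
  have hd := S.2
  rw [Matrix.det_fin_two, htr] at hd
  rw [Matrix.det_fin_two]
  simp [htr]
  linear_combination (y * y) * hd

/-- An element centralizing `t` has its lift in `F[S]` or is an involution with anticommuting
lift. -/
theorem cent_cases (h2 : (2 : F) ≠ 0) (hns : ¬ IsSquare (-1 : F)) (hS : proj S = t)
    (htr : S.1 1 1 = -S.1 0 0) {g : Matrix.ProjectiveSpecialLinearGroup (Fin 2) F}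
    (hg : g * t = t * g) :
    InK S g ∨ ∃ A : Matrix.SpecialLinearGroup (Fin 2) F, proj A = g ∧
      A.1 * S.1 = -(S.1 * A.1) ∧ g * g = 1 := by
  obtain ⟨A, rfl⟩ := QuotientGroup.mk'_surjective _ g
  rw [← hS] at hg
  have hb := low_ne hns htr
  have e : proj (A * S) = proj (S * A) := by rw [map_mul, map_mul]; exact hg
  rcases proj_eq_iff.1 e with h | h
  · left
    rw [Matrix.SpecialLinearGroup.coe_mul, Matrix.SpecialLinearGroup.coe_mul] at h
    have e00 := congrFun (congrFun h 0) 0
    have e01 := congrFun (congrFun h 0) 1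
    simp [Matrix.mul_apply, Fin.sum_univ_two, htr] at e00 e01
    set y := A.1 0 1 / S.1 0 1 with hy
    have hy' : y * S.1 0 1 = A.1 0 1 := div_mul_cancel₀ _ hb
    have hA : A.1 = (A.1 0 0 - y * S.1 0 0) • (1 : Matrix (Fin 2) (Fin 2) F) + y • S.1 := by
      ext i j
      fin_cases i <;> fin_cases j <;> simp [htr]
      · exact hy'.symm
      · refine mul_left_cancel₀ hb ?_
        linear_combination -e00 - S.1 1 0 * hy'
      · refine mul_left_cancel₀ hb ?_
        linear_combination -e01 + (2 * S.1 0 0) * hy'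
    refine ⟨A, _, y, rfl, hA, ?_⟩
    rw [← det_comb htr, ← hA, A.2]
  · right
    have h' : A.1 * S.1 = -(S.1 * A.1) := by
      rwa [Matrix.SpecialLinearGroup.coe_mul, Matrix.SpecialLinearGroup.coe_mul] at h
    refine ⟨A, rfl, h', ?_⟩
    have e01 := congrFun (congrFun h' 0) 1
    simp [Matrix.mul_apply, Fin.sum_univ_two, htr] at e01
    have htrA : A.1 1 1 = -A.1 0 0 := by
      refine mul_left_cancel₀ hb ?_
      linear_combination e01
    show proj A * proj A = 1
    rw [← map_mul, ← map_one proj, proj_eq_iff]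
    right
    rw [Matrix.SpecialLinearGroup.coe_mul, sq_lift htrA, Matrix.SpecialLinearGroup.coe_one]

/-- Elements of `F[S]` commute with `t`. -/
theorem InK.commute (hS : proj S = t) {g : Matrix.ProjectiveSpecialLinearGroup (Fin 2) F}
    (hg : InK S g) : g * t = t * g := by
  obtain ⟨A, x, y, rfl, hA, -⟩ := hg
  rw [← hS, ← map_mul, ← map_mul]
  refine congrArg proj (Subtype.ext ?_)
  rw [Matrix.SpecialLinearGroup.coe_mul, Matrix.SpecialLinearGroup.coe_mul, hA]
  simp [add_mul, mul_add]

/-- The involutions of `C(t)` other than `t` lift to anticommuting matrices. -/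
theorem anti_of_invol (h2 : (2 : F) ≠ 0) (hns : ¬ IsSquare (-1 : F)) (hS : proj S = t)
    (htr : S.1 1 1 = -S.1 0 0) {s : Matrix.ProjectiveSpecialLinearGroup (Fin 2) F}
    (hs : s * t = t * s) (hss : s * s = 1) (hs1 : s ≠ 1) (hst : s ≠ t) :
    ∃ A : Matrix.SpecialLinearGroup (Fin 2) F, proj A = s ∧ A.1 * S.1 = -(S.1 * A.1) := by
  rcases cent_cases h2 hns hS htr hs with ⟨A, x, y, hAs, hA, hxy⟩ | ⟨A, hAs, h, -⟩
  swap
  · exact ⟨A, hAs, h⟩
  exfalso
  have e : proj (A * A) = proj 1 := by rw [map_mul, map_one, hAs, hss]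
  have hb := low_ne hns htr
  have hcase : x = 0 ∨ y = 0 := by
    have h01 : (A * A).1 0 1 = 0 := by
      rcases proj_eq_iff.1 e with h | h <;> simp [h]
    rw [Matrix.SpecialLinearGroup.coe_mul, hA] at h01
    simp [Matrix.mul_apply, Fin.sum_univ_two, htr] at h01
    have : (2 : F) * (x * y) * S.1 0 1 = 0 := by linear_combination h01
    exact mul_eq_zero.1 ((mul_eq_zero.1 ((mul_eq_zero.1 this).resolve_right hb)).resolve_left h2)
  rcases hcase with h | h <;> subst h
  · apply hst
    rw [← hAs, ← hS, proj_eq_iff]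
    rcases sq_eq_one_iff.1 (show y ^ 2 = 1 by rw [pow_two]; simpa using hxy) with rfl | rfl <;>
      simp [hA]
  · apply hs1
    rw [← hAs]
    exact proj_eq_one_of_scalar le_rfl (c := x) (by simp [hA])

/-- An involution with anticommuting lift inverts the elements of `F[S]`. -/
theorem invert (h2 : (2 : F) ≠ 0) (hns : ¬ IsSquare (-1 : F)) (hS : proj S = t)
    (htr : S.1 1 1 = -S.1 0 0) {s g : Matrix.ProjectiveSpecialLinearGroup (Fin 2) F}
    (hs : s * t = t * s) (hss : s * s = 1) (hs1 : s ≠ 1) (hst : s ≠ t) (hg : InK S g) :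
    s * g * s⁻¹ = g⁻¹ := by
  obtain ⟨A, rfl, hA⟩ := anti_of_invol h2 hns hS htr hs hss hs1 hst
  obtain ⟨B, x, y, rfl, hB, hxy⟩ := hg
  refine eq_inv_of_mul_eq_one_left ?_
  rw [inv_eq_of_mul_eq_one_right hss, ← map_mul, ← map_mul, ← map_mul, ← map_one proj,
    proj_eq_iff]
  have hAA : A.1 * A.1 = 1 ∨ A.1 * A.1 = -1 := by
    have e : proj (A * A) = proj 1 := by rw [map_mul, map_one]; exact hss
    simpa using proj_eq_iff.1 e
  have key : A.1 * B.1 * A.1 * B.1 = A.1 * A.1 * ((x * x + y * y) • 1) := by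
    have hBA : B.1 * A.1 = A.1 * (x • (1 : Matrix (Fin 2) (Fin 2) F) - y • S.1) := by
      rw [hB, add_mul, mul_sub, smul_mul_assoc, smul_mul_assoc, one_mul, mul_smul_comm,
        mul_smul_comm, mul_one, hA, smul_neg, sub_neg_eq_add]
    rw [Matrix.mul_assoc A.1, hBA, ← Matrix.mul_assoc, Matrix.mul_assoc (A.1 * A.1)]
    congr 1
    rw [hB, sub_mul, mul_add, mul_add]
    simp only [smul_mul_assoc, mul_smul_comm, one_mul, mul_one, smul_smul, sq_lift htr, smul_neg]
    rw [add_smul, mul_comm y x]; abel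
  rw [hxy, one_smul, mul_one] at key
  rcases hAA with h | h
  · left; simp [key, h]
  · right; simp [key, h]

/-- There are at most `q + 1` points on the conic. -/
theorem card_conic_le (h2 : (2 : F) ≠ 0) :
    Nat.card {p : F × F // p.1 * p.1 + p.2 * p.2 = 1} ≤ Fintype.card F + 1 := by
  classical
  let f : {p : F × F // p.1 * p.1 + p.2 * p.2 = 1} → Option F := fun p =>
    if p.1.1 = -1 then none else some (p.1.2 / (1 + p.1.1))
  have hf : Function.Injective f := by
    rintro ⟨⟨x, y⟩, h⟩ ⟨⟨x', y'⟩, h'⟩ e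
    simp only [f] at e
    by_cases hx : x = -1 <;> by_cases hx' : x' = -1
    · subst hx; subst hx'
      have hy : y * y = 0 := by linear_combination h
      have hy' : y' * y' = 0 := by linear_combination h'
      rw [mul_self_eq_zero] at hy hy'
      simp [hy, hy']
    · simp [hx, hx'] at e
    · simp [hx, hx'] at e
    · rw [if_neg hx, if_neg hx', Option.some.injEq] at e
      have d1 : (1 + x) ≠ 0 := fun k => hx (by linear_combination k)
      have d2 : (1 + x') ≠ 0 := fun k => hx' (by linear_combination k)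
      rw [div_eq_div_iff d1 d2] at e
      have h3 : (1 + x) * (1 + x') * (2 * (x - x')) = 0 := by
        linear_combination (-(y * (1 + x')) - y' * (1 + x)) * e + (1 + x') ^ 2 * h - (1 + x) ^ 2 * h'
      have hxx : x = x' := sub_eq_zero.1 ((mul_eq_zero.1
        ((mul_eq_zero.1 h3).resolve_left (mul_ne_zero d1 d2))).resolve_left h2)
      subst hxx
      simp [mul_right_cancel₀ d1 e]
  have := Nat.card_le_card_of_injective f hf
  rwa [Nat.card_eq_fintype_card (α := Option F), Fintype.card_option] at this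

/-- The centralizer of an involution has order at most `q + 1`. -/
theorem card_cent_le (h2 : (2 : F) ≠ 0) (hns : ¬ IsSquare (-1 : F)) (hS : proj S = t)
    (htr : S.1 1 1 = -S.1 0 0) :
    Nat.card (Subgroup.centralizer ({t} : Set (Matrix.ProjectiveSpecialLinearGroup (Fin 2) F))) ≤
      Fintype.card F + 1 := by
  classical
  haveI : Finite (Matrix.ProjectiveSpecialLinearGroup (Fin 2) F) := inferInstance
  set C := Subgroup.centralizer ({t} : Set (Matrix.ProjectiveSpecialLinearGroup (Fin 2) F))
  have hhalf : 2 * Nat.card {g : C // InK S (g : Matrix.ProjectiveSpecialLinearGroup (Fin 2) F)} ≤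
      Fintype.card F + 1 := by
    choose A x y hA1 hA2 hA3 using
      fun g : {g : C // InK S (g : Matrix.ProjectiveSpecialLinearGroup (Fin 2) F)} => g.2
    refine le_trans ?_ (card_conic_le h2)
    rw [mul_comm]
    refine le_trans (le_of_eq (show _ = Nat.card ({g : C //
      InK S (g : Matrix.ProjectiveSpecialLinearGroup (Fin 2) F)} × Bool) by simp)) ?_
    refine Nat.card_le_card_of_injective (fun p => (if p.2 then ⟨(x p.1, y p.1), hA3 p.1⟩
      else ⟨(-x p.1, -y p.1), by simpa using hA3 p.1⟩ :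
        {q : F × F // q.1 * q.1 + q.2 * q.2 = 1})) ?_
    rintro ⟨g, b⟩ ⟨g', b'⟩ e
    have hpair : ∀ (u v : F) (g g' : {g : C // InK S (g : Matrix.ProjectiveSpecialLinearGroup (Fin 2) F)}),
        u * u = 1 → v * v = 1 → u * x g = v * x g' → u * y g = v * y g' → g = g' := by
      intro u v g g' hu hv h1 h2'
      have hw : (u * v) * (u * v) = 1 := by linear_combination (v * v) * hu + hv
      refine Subtype.ext (Subtype.ext ?_)
      rw [← hA1, ← hA1, proj_eq_iff, hA2, hA2]
      have e1 : x g = (u * v) * x g' := by linear_combination u * h1 - x g * hu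
      have e2 : y g = (u * v) * y g' := by linear_combination u * h2' - y g * hu
      rw [e1, e2]
      rcases sq_eq_one_iff.1 (show (u * v) ^ 2 = 1 by rw [pow_two]; exact hw) with k | k
      · left; rw [k, one_mul, one_mul]
      · right; rw [k, neg_one_mul, neg_one_mul, neg_smul, neg_smul, neg_add]
    cases b <;> cases b' <;> simp only [if_true, Bool.false_eq_true, if_false, Subtype.mk.injEq,
      Prod.mk.injEq] at e
    · exact Prod.ext (hpair (-1) (-1) g g' (by ring) (by ring) (by linear_combination e.1)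
        (by linear_combination e.2)) rfl
    · have := hpair (-1) 1 g g' (by ring) (by ring) (by linear_combination e.1)
        (by linear_combination e.2)
      subst this
      exfalso
      have a : x g = 0 := mul_left_cancel₀ h2 (by linear_combination -e.1)
      have b : y g = 0 := mul_left_cancel₀ h2 (by linear_combination -e.2)
      have := hA3 g
      simp [a, b] at this
    · have := hpair 1 (-1) g g' (by ring) (by ring) (by linear_combination e.1)
        (by linear_combination e.2)
      subst this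
      exfalso
      have a : x g = 0 := mul_left_cancel₀ h2 (by linear_combination e.1)
      have b : y g = 0 := mul_left_cancel₀ h2 (by linear_combination e.2)
      have := hA3 g
      simp [a, b] at this
    · exact Prod.ext (hpair 1 1 g g' (by ring) (by ring) (by linear_combination e.1)
        (by linear_combination e.2)) rfl
  by_cases hex : ∃ g : C, ¬ InK S (g : Matrix.ProjectiveSpecialLinearGroup (Fin 2) F)
  swap
  · push Not at hex
    refine le_trans ?_ hhalf
    rw [← Nat.card_congr (Equiv.subtypeUnivEquiv hex)]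
    omega
  obtain ⟨s₀, hs₀⟩ := hex
  have hcomm : ∀ g : C, (g : Matrix.ProjectiveSpecialLinearGroup (Fin 2) F) * t = t * g := fun g =>
    Subgroup.mem_centralizer_singleton_iff.1 g.2
  -- the translate by `s₀` sends the rest into the algebra
  have hshift : ∀ g : C, ¬ InK S (g : Matrix.ProjectiveSpecialLinearGroup (Fin 2) F) →
      InK S ((s₀ * g : C) : Matrix.ProjectiveSpecialLinearGroup (Fin 2) F) := by
    intro g hg
    rcases cent_cases h2 hns hS htr (hcomm g) with h | ⟨B, hB1, hB2, -⟩
    · exact absurd h hg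
    rcases cent_cases h2 hns hS htr (hcomm s₀) with h | ⟨A, hA1, hA2, -⟩
    · exact absurd h hs₀
    rcases cent_cases h2 hns hS htr (hcomm (s₀ * g)) with h | ⟨D, hD1, hD2, -⟩
    · exact h
    exfalso
    have e : proj (A * B) = proj D := by rw [map_mul, hA1, hB1, hD1]; rfl
    have hz : A.1 * B.1 * S.1 = S.1 * (A.1 * B.1) := by
      rw [Matrix.mul_assoc, hB2, Matrix.mul_neg, ← Matrix.mul_assoc, hA2, Matrix.neg_mul, neg_neg,
        Matrix.mul_assoc]
    have hD : D.1 * S.1 = S.1 * D.1 := by
      rcases proj_eq_iff.1 e with k | k <;> rw [Matrix.SpecialLinearGroup.coe_mul] at k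
      · rw [← k]; exact hz
      · rw [neg_eq_iff_eq_neg.1 k.symm, Matrix.neg_mul, Matrix.mul_neg, hz]
    rw [hD] at hD2
    have h0 : (S * D).1 = 0 := by
      rw [Matrix.SpecialLinearGroup.coe_mul]
      refine smul_right_injective _ h2 ?_
      simp only [smul_zero]
      rw [two_smul, ← eq_neg_iff_add_eq_zero]
      exact hD2
    have := (S * D).2
    rw [h0, Matrix.det_zero] at this
    exact zero_ne_one this
  refine le_trans ?_ hhalf
  rw [two_mul, ← Nat.card_congr (Equiv.sumCompl fun g : C =>
    InK S (g : Matrix.ProjectiveSpecialLinearGroup (Fin 2) F)), Nat.card_sum]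
  refine Nat.add_le_add_left ?_ _
  exact Nat.card_le_card_of_injective (fun g => ⟨s₀ * g.1, hshift g.1 g.2⟩)
    fun g g' e => Subtype.ext (mul_left_cancel (congrArg Subtype.val e))

/-- `F[S]` contains an element whose square is not one. -/
theorem exists_InK (h2 : (2 : F) ≠ 0) (hns : ¬ IsSquare (-1 : F)) (hq : 4 ≤ Fintype.card F)
    (htr : S.1 1 1 = -S.1 0 0) :
    ∃ g, InK S g ∧ g * g ≠ 1 := by
  classical
  obtain ⟨u, hu⟩ : ∃ u : F, u ∉ ({0, 1, -1} : Finset F) := by
    by_contra h
    push Not at h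
    have := Finset.card_le_card (fun u (_ : u ∈ (Finset.univ : Finset F)) => h u)
    rw [Finset.card_univ] at this
    have h3 := Finset.card_le_three (a := (0 : F)) (b := 1) (c := -1)
    omega
  simp at hu
  obtain ⟨hu0, hu1, hu2⟩ := hu
  have hd : 1 + u * u ≠ 0 := fun h => hns ⟨u, by linear_combination -h⟩
  set x := (1 - u * u) / (1 + u * u) with hx
  set y := 2 * u / (1 + u * u) with hy
  have hxy : x * x + y * y = 1 := by
    rw [hx, hy, div_mul_div_comm, div_mul_div_comm, ← add_div, div_eq_one_iff_eq (mul_ne_zero hd hd)]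
    ring
  have hx0 : x ≠ 0 := div_ne_zero (fun h => by
    have : (u - 1) * (u + 1) = 0 := by linear_combination -h
    rcases mul_eq_zero.1 this with k | k
    · exact hu1 (sub_eq_zero.1 k)
    · exact hu2 (eq_neg_of_add_eq_zero_left k)) hd
  have hy0 : y ≠ 0 := div_ne_zero (mul_ne_zero h2 hu0) hd
  let A : Matrix.SpecialLinearGroup (Fin 2) F :=
    ⟨x • 1 + y • S.1, by rw [det_comb htr, hxy]⟩
  refine ⟨proj A, ⟨A, x, y, rfl, rfl, hxy⟩, fun h => ?_⟩
  rw [← map_mul, ← map_one proj] at h
  have h01 : (A * A).1 0 1 = 0 := by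
    rcases proj_eq_iff.1 h with k | k <;> simp [k]
  rw [Matrix.SpecialLinearGroup.coe_mul] at h01
  simp [A, Matrix.mul_apply, Fin.sum_univ_two, htr] at h01
  have : (2 : F) * (x * y) * S.1 0 1 = 0 := by linear_combination h01
  exact mul_ne_zero (mul_ne_zero h2 (mul_ne_zero hx0 hy0)) (low_ne hns htr) this

theorem InK.mul {g h : Matrix.ProjectiveSpecialLinearGroup (Fin 2) F}
    (htr : S.1 1 1 = -S.1 0 0) (hg : InK S g) (hh : InK S h) : InK S (g * h) := by
  obtain ⟨A, x, y, rfl, hA, h1⟩ := hg
  obtain ⟨B, x', y', rfl, hB, h1'⟩ := hh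
  refine ⟨A * B, x * x' - y * y', x * y' + y * x', map_mul _ _ _, ?_,
    by linear_combination (x' * x' + y' * y') * h1 + h1'⟩
  rw [Matrix.SpecialLinearGroup.coe_mul, hA, hB]
  have hd := S.2
  rw [Matrix.det_fin_two, htr] at hd
  ext i j
  fin_cases i <;> fin_cases j <;> simp [Matrix.mul_apply, Fin.sum_univ_two, htr] <;>
    first | ring1 | linear_combination (-(y * y')) * hd | linear_combination (y * y') * hd

/-- An element of `F[S]` of cube one is trivial. -/
theorem InK.eq_one_of_cube (h3 : (3 : F) = 0) (htr : S.1 1 1 = -S.1 0 0)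
    (hns : ¬ IsSquare (-1 : F))
    {g : Matrix.ProjectiveSpecialLinearGroup (Fin 2) F} (hg : InK S g) (h : g ^ 3 = 1) : g = 1 := by
  obtain ⟨A, x, y, rfl, hA, hxy⟩ := hg
  have e : proj (A * A * A) = proj 1 := by
    rw [map_mul, map_mul, map_one, ← pow_two, ← pow_succ, h]
  have hS2 := sq_lift (S := S) htr
  have hval : (A * A * A).1 = (x * x * x) • (1 : Matrix (Fin 2) (Fin 2) F) + (-(y * y * y)) • S.1 := by
    rw [Matrix.SpecialLinearGroup.coe_mul, Matrix.SpecialLinearGroup.coe_mul, hA]
    simp only [add_mul, mul_add, smul_mul_assoc, mul_smul_comm, one_mul, mul_one, smul_smul,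
      hS2, smul_neg, neg_mul, Matrix.mul_assoc]
    have h31 : ∀ (a : F) (M : Matrix (Fin 2) (Fin 2) F), a • M + (a • M + a • M) = 0 := fun a M => by
      rw [← add_smul, ← add_smul, show a + (a + a) = (3 : F) * a by ring, h3, zero_mul, zero_smul]
    ext i j
    fin_cases i <;> fin_cases j <;> simp [htr] <;>
      first
        | ring1
        | linear_combination (x * y * (x * S.1 0 0 - y)) * h3
        | linear_combination (x * y * (x * S.1 0 1)) * h3
        | linear_combination (x * y * (x * S.1 1 0)) * h3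
        | linear_combination (-(x * y * (x * S.1 0 0 + y))) * h3
  have hy : y = 0 := by
    have h01 : (A * A * A).1 0 1 = 0 := by
      rcases proj_eq_iff.1 e with k | k <;> simp [k]
    rw [hval] at h01
    simp at h01
    rcases h01 with k | k
    · exact k
    · exact absurd k (low_ne hns htr)
  exact proj_eq_one_of_scalar le_rfl (c := x) (by simp [hA, hy])

/-- An element whose fourth power is one has square one. -/
theorem sq_of_fourth {n : ℕ} (hF : Fintype.card F = 3 ^ (2 * n + 1))
    {g : Matrix.ProjectiveSpecialLinearGroup (Fin 2) F} (hg : g ^ 4 = 1) : g * g = 1 := by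
  have h3 := three_eq hF
  have h2 := two_ne h3
  have hns := neg_one_not_square hF
  by_contra hne
  obtain ⟨S, hS, htr⟩ := invol_lift h2 (t := g * g)
    (by rw [← pow_two, ← pow_two, ← pow_mul]; exact hg) hne
  rcases cent_cases h2 hns hS htr (g := g) (mul_assoc g g g).symm with
    ⟨A, x, y, rfl, hA, hxy⟩ | ⟨-, -, -, h⟩
  swap
  · exact hne h
  have e : proj (A * A) = proj S := by rw [map_mul, hS]
  have hsq : ∃ c : F, (c = 1 ∨ c = -1) ∧ x * x - y * y = 0 ∧ 2 * (x * y) = c := by
    have hb := low_ne hns htr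
    rcases proj_eq_iff.1 e with k | k
    all_goals
      rw [Matrix.SpecialLinearGroup.coe_mul, hA] at k
      have e01 := congrFun (congrFun k 0) 1
      have e00 := congrFun (congrFun k 0) 0
      simp [Matrix.mul_apply, Fin.sum_univ_two, htr] at e01 e00
      have hd := S.2
      rw [Matrix.det_fin_two, htr] at hd
    · have hc : 2 * (x * y) = (1 : F) := mul_right_cancel₀ hb (by linear_combination e01)
      exact ⟨1, Or.inl rfl,
        by linear_combination e00 + (y * y) * hd - S.1 0 0 * hc, hc⟩
    · have hc : 2 * (x * y) = (-1 : F) := mul_right_cancel₀ hb (by linear_combination e01)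
      exact ⟨-1, Or.inr rfl,
        by linear_combination e00 + (y * y) * hd - S.1 0 0 * hc, hc⟩
  obtain ⟨c, -, h0, -⟩ := hsq
  exact hns ⟨2 * x, by linear_combination (-2 : F) * hxy - 2 * h0 - h3⟩

end Centralizer

end CfsgLib.FourFree.PSL
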