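import Cfsg.Agent.Lib.FourFree.K.CompSuz
import Cfsg.Agent.Lib.FourFree.K.PSLAut
import Cfsg.Agent.Lib.FourFree.K.Closure
import Cfsg.Agent.Lib.Invol.InvertedOdd

/-!
# The listed simple groups satisfy the facts used about components
-/

set_option autoImplicit false
set_option linter.style.haveILetI false

open Subgroup

namespace CfsgLib.FourFree

universe u

/-- Some power of an element which is not a `2`-element has odd prime order. -/
theorem exists_prime_power {G : Type*} [Group G] [Finite G] {g : G}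
    (hg : ∀ k : ℕ, g ^ 2 ^ k ≠ 1) : ∃ j : ℕ, (orderOf (g ^ j)).Prime ∧ orderOf (g ^ j) ≠ 2 := by
  obtain ⟨e, m, hm, hem⟩ := Nat.exists_eq_two_pow_mul_odd (orderOf_pos g).ne'
  have hm1 : m ≠ 1 := fun h => hg e (by rw [← pow_orderOf_eq_one g, hem, h, mul_one])
  have hp := Nat.minFac_prime hm1
  obtain ⟨d, hd⟩ : m.minFac ∣ orderOf g := hem ▸ dvd_mul_of_dvd_right m.minFac_dvd _
  have hd0 : d ≠ 0 := fun h => (orderOf_pos g).ne' (by rw [hd, h, mul_zero])
  have ho : orderOf (g ^ d) = m.minFac := by
    rw [orderOf_pow' g hd0, hd, Nat.gcd_mul_left_left,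
      Nat.mul_div_cancel _ (Nat.pos_of_ne_zero hd0)]
  refine ⟨d, ho ▸ hp, fun h => ?_⟩
  rw [ho] at h
  exact Nat.not_even_iff_odd.2 hm (even_iff_two_dvd.2 (h ▸ m.minFac_dvd))

theorem prime_ge_five {r : ℕ} (hr : r.Prime) (h2 : r ≠ 2) (h3 : r ≠ 3) : 5 ≤ r := by
  have := hr.two_le
  have h4 : r ≠ 4 := fun h => by rw [h] at hr; norm_num at hr
  omega

theorem not_dvd_small {r : ℕ} (hr : r.Prime) (h5 : 5 ≤ r) :
    ∀ k, 0 < k → k < 3 → ¬ r ∣ 2 ^ k - 1 := fun k h0 h3 hd => by
  have := hr.two_le
  interval_cases k <;> norm_num at hd <;> [skip; have := Nat.le_of_dvd (by norm_num) hd] <;> omega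

section PSL

open PSL

variable {F : Type} [Field F] [Fintype F] {n : ℕ}

local notation "L₂" => Matrix.ProjectiveSpecialLinearGroup (Fin 2) F

theorem psl_sq_of_two_pow (hF : Fintype.card F = 3 ^ (2 * n + 1)) :
    ∀ (k : ℕ) (g : L₂), g ^ 2 ^ k = 1 → g * g = 1
  | 0, g, h => by rw [pow_zero, pow_one] at h; rw [h, one_mul]
  | k + 1, g, h => by
    refine sq_of_fourth hF ?_
    have h' := psl_sq_of_two_pow hF k (g * g) (by rwa [← pow_two, ← pow_mul, ← pow_succ'])
    rw [show (4 : ℕ) = 2 * 2 from rfl, pow_mul, pow_two, pow_two]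
    exact h'

/-- An involution centralizes an element of prime order at least five inverted by every other
involution commuting with it. -/
theorem psl_central_odd (hF : Fintype.card F = 3 ^ (2 * n + 1)) (hq : 4 ≤ Fintype.card F)
    {t : L₂} (ht : t * t = 1) (ht1 : t ≠ 1) :
    ∃ c : L₂, (orderOf c).Prime ∧ 5 ≤ orderOf c ∧ t * c * t⁻¹ = c ∧
      ∀ s : L₂, s * t = t * s → s * s = 1 → s ≠ 1 → s ≠ t → s * c * s⁻¹ = c⁻¹ := by
  have h3 := three_eq hF
  have h2 := two_ne h3
  have hns := neg_one_not_square hF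
  obtain ⟨S, hS, htr⟩ := invol_lift h2 ht ht1
  obtain ⟨g, hg, hgg⟩ := exists_InK h2 hns hq htr
  obtain ⟨j, hj, hj2⟩ := exists_prime_power (g := g) fun k h => hgg (psl_sq_of_two_pow hF k g h)
  have hK : InK S (g ^ j) := by
    clear hj hj2
    induction j with
    | zero => exact ⟨1, 1, 0, by rw [map_one, pow_zero], by simp, by ring⟩
    | succ j ih => rw [pow_succ]; exact ih.mul htr hg
  have hj3 : orderOf (g ^ j) ≠ 3 := fun h => by
    have := InK.eq_one_of_cube h3 htr hns hK (by rw [← h, pow_orderOf_eq_one])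
    rw [this, orderOf_one] at h
    omega
  refine ⟨g ^ j, hj, prime_ge_five hj hj2 hj3, ?_, fun s hs hss hs1 hst =>
    invert h2 hns hS htr hs hss hs1 hst hK⟩
  rw [← hK.commute hS]
  group

theorem exists_psl_invol (hF : Fintype.card F = 3 ^ (2 * n + 1)) :
    ∃ t : L₂, t * t = 1 ∧ t ≠ 1 := by
  let J : Matrix.SpecialLinearGroup (Fin 2) F :=
    ⟨!![0, -1; 1, 0], by simp [Matrix.det_fin_two_of]⟩
  refine ⟨CfsgLib.AutPSL.proj J, ?_, ?_⟩
  · rw [← map_mul, ← map_one CfsgLib.AutPSL.proj, proj_eq_iff]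
    right
    rw [Matrix.SpecialLinearGroup.coe_mul]
    ext i j
    fin_cases i <;> fin_cases j <;> simp [J, Matrix.mul_apply, Fin.sum_univ_two]
  · rw [← map_one CfsgLib.AutPSL.proj, ne_eq, proj_eq_iff]
    rintro (h | h) <;>
    · have := congrFun (congrFun h 1) 0
      simp [J] at this

/-- An elementary `2`-subgroup of `PSL₂(3^odd)` has order at most four. -/
theorem psl_elem_card_le (hF : Fintype.card F = 3 ^ (2 * n + 1)) (hq : 4 ≤ Fintype.card F)
    {E : Subgroup L₂} (hE : ∀ e ∈ E, e * e = 1) : Nat.card E ≤ 4 := by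
  classical
  have h3 := three_eq hF
  have h2 := two_ne h3
  have hns := neg_one_not_square hF
  by_cases hbot : E = ⊥
  · rw [hbot, Subgroup.card_bot]; norm_num
  obtain ⟨t, htE, ht1⟩ := E.bot_or_exists_ne_one.resolve_left hbot
  have hcomm : ∀ a ∈ E, ∀ b ∈ E, a * b = b * a := fun a ha b hb => by
    have h1 := inv_eq_of_mul_eq_one_right (hE a ha)
    have h2 := inv_eq_of_mul_eq_one_right (hE b hb)
    have h3 := inv_eq_of_mul_eq_one_right (hE _ (mul_mem ha hb))
    rw [← h3, mul_inv_rev, h1, h2]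
  obtain ⟨c, hc, hc5, htc, hinv⟩ := psl_central_odd hF hq (hE t htE) ht1
  -- the subgroup centralizing `c` has index two and order two
  have hsub : ∀ a ∈ E, a ≠ 1 → a ≠ t → a * c * a⁻¹ = c⁻¹ := fun a ha ha1 hat =>
    hinv a (hcomm a ha t htE) (hE a ha) ha1 hat
  have hcne : c ≠ c⁻¹ := fun h => by
    have h' : c ^ 2 = 1 := by rw [pow_two, eq_inv_iff_mul_eq_one.1 h]
    have := Nat.le_of_dvd (by norm_num) (orderOf_dvd_of_pow_eq_one h')
    omega
  by_contra hlt
  obtain ⟨a, b, ha, hb, hab⟩ : ∃ a b, (a ∈ E ∧ a ≠ 1 ∧ a ≠ t) ∧ (b ∈ E ∧ b ≠ 1 ∧ b ≠ t) ∧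
      (a ≠ b ∧ a ≠ t * b) := by
    obtain ⟨a, ha, ha1, hat⟩ : ∃ a ∈ E, a ≠ 1 ∧ a ≠ t := by
      by_contra h
      push Not at h
      have : Nat.card E ≤ Nat.card ({1, t} : Finset L₂) :=
        Nat.card_le_card_of_injective (fun e => ⟨e, by
          rcases eq_or_ne (e : L₂) 1 with k | k
          · simp [k]
          · simp [h e e.2 k]⟩) fun x y e => Subtype.ext (congrArg (fun z : ({1, t} : Finset L₂) => (z : L₂)) e)
      rw [Nat.card_eq_fintype_card (α := ({1, t} : Finset L₂)), Fintype.card_coe] at this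
      have := Finset.card_le_two (a := (1 : L₂)) (b := t)
      omega
    obtain ⟨b, hb, hb'⟩ : ∃ b ∈ E, b ∉ ({1, t, a, t * a} : Finset L₂) := by
      by_contra h
      push Not at h
      have : Nat.card E ≤ Nat.card ({1, t, a, t * a} : Finset L₂) :=
        Nat.card_le_card_of_injective (fun e => ⟨e, h e e.2⟩)
          fun x y e => Subtype.ext (congrArg (fun z : ({1, t, a, t * a} : Finset L₂) => (z : L₂)) e)
      rw [Nat.card_eq_fintype_card (α := ({1, t, a, t * a} : Finset L₂)), Fintype.card_coe] at this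
      have := Finset.card_le_four (a := (1 : L₂)) (b := t) (c := a) (d := t * a)
      omega
    simp at hb'
    refine ⟨a, b, ⟨ha, ha1, hat⟩, ⟨hb, hb'.1, hb'.2.1⟩, fun h => hb'.2.2.1 h.symm, fun h => ?_⟩
    refine hb'.2.2.2 ?_
    rw [h, ← mul_assoc, hE t htE, one_mul]
  have hfix : (a * b) * c * (a * b)⁻¹ = c := by
    rw [show (a * b) * c * (a * b)⁻¹ = a * (b * c * b⁻¹) * a⁻¹ by group, hsub b hb.1 hb.2.1 hb.2.2,
      ← conj_inv, hsub a ha.1 ha.2.1 ha.2.2, inv_inv]
  refine hcne ?_
  conv_lhs => rw [← hfix]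
  refine hsub _ (mul_mem ha.1 hb.1) (fun h => hab.1 ?_) fun h => hab.2 ?_
  · rw [eq_inv_of_mul_eq_one_left h, inv_eq_of_mul_eq_one_right (hE b hb.1)]
  · rw [← h, mul_assoc, hE b hb.1, mul_one]

theorem compFact_psl (hF : Fintype.card F = 3 ^ (2 * n + 1)) (hq : 4 ≤ Fintype.card F) :
    CompFact L₂ := by
  classical
  have h3 := three_eq hF
  have h2 := two_ne h3
  have hns := neg_one_not_square hF
  haveI : Fintype L₂ := Fintype.ofFinite _
  haveI := (CfsgLib.Perm.Dickson.psl_simple_noncomm (F := F)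
    (by rwa [Nat.card_eq_fintype_card])).1
  set ι := (MulAut.conj : L₂ →* _) with hιdef
  have hι : Function.Injective ι := CfsgLib.AutPSL.conj_injective le_rfl
  have hcore : ∀ t : L₂, orderOf t = 2 → t ∉ Cfsg.pCore 2 L₂ := by
    intro t ht hmem
    haveI : (Cfsg.pCore 2 L₂).Normal := CfsgLib.Coprime.pCore_normal' 2
    rcases (inferInstance : (Cfsg.pCore 2 L₂).Normal).eq_bot_or_eq_top with h | h
    · rw [h, mem_bot] at hmem
      rw [hmem, orderOf_one] at ht
      omega
    · obtain ⟨c, hc, hc5, -⟩ := psl_central_odd hF hq (t := t)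
        (by rw [← pow_two, orderOf_eq_prime_iff.mp ht |>.1]) (fun e => by rw [e, orderOf_one] at ht; omega)
      obtain ⟨k, hk⟩ := CfsgLib.Coprime.pCore_isPGroup (G := L₂) 2 ⟨c, h ▸ mem_top c⟩
      have hd := orderOf_dvd_of_pow_eq_one (show c ^ 2 ^ k = 1 from congrArg Subtype.val hk)
      have := (Nat.prime_dvd_prime_iff_eq hc Nat.prime_two).1 (hc.dvd_of_dvd_pow hd)
      omega
  obtain ⟨t₀, ht₀, ht₀1⟩ := exists_psl_invol hF
  obtain ⟨c₀, hc₀, hc₀5, -⟩ := psl_central_odd hF hq ht₀ ht₀1
  have hinner : ∀ E : Subgroup (MulAut L₂), (∀ e ∈ E, e * e = 1) → InvFree E →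
      ∀ e ∈ E, ∃ u, ι u = e ∧ u * u = 1 := by
    intro E hE hf e he
    obtain ⟨u, rfl⟩ := inner_of_sq hF (hE e he) fun x => hf e he x
    exact ⟨u, rfl, hι (by rw [map_mul, map_one]; exact hE _ he)⟩
  refine ⟨⟨c₀, hc₀, hc₀5⟩, fun E hE hE1 hf => ?_, fun E hE hf => ?_⟩
  · obtain ⟨e, he, he1⟩ := E.bot_or_exists_ne_one.resolve_left hE1
    obtain ⟨t, rfl, htt⟩ := hinner E hE hf e he
    have ht1 : t ≠ 1 := fun h => he1 (by rw [h, map_one])
    have hEcard : Nat.card E = Nat.card (E.comap ι) := by
      rw [Nat.card_congr ((E.comap ι).equivMapOfInjective ι hι).toEquiv, map_comap_eq_self]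
      intro x hx
      obtain ⟨u, hu, -⟩ := hinner E hE hf x hx
      exact ⟨u, hu⟩
    by_cases hs : ∃ s ∈ E, s ≠ 1 ∧ s ≠ ι t
    · obtain ⟨s', hs', hs1, hst⟩ := hs
      obtain ⟨s, rfl, hss⟩ := hinner E hE hf s' hs'
      obtain ⟨c, hc, hc5, htc, hinv⟩ := psl_central_odd hF hq htt ht1
      have hcomm : s * t = t * s := hι (by
        have h1 := inv_eq_of_mul_eq_one_right (hE _ he)
        have h2 := inv_eq_of_mul_eq_one_right (hE _ hs')
        have h3 := inv_eq_of_mul_eq_one_right (hE _ (mul_mem hs' he))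
        rw [map_mul, map_mul, ← h3, mul_inv_rev, h1, h2])
      refine ⟨zpowers (ι t), ι s, c, orderOf c, 3, zpowers_le.2 he, hs', rfl, hc, by omega,
        fun x hx => ?_, hinv s hcomm hss (fun h => hs1 (by rw [h, map_one]))
          (fun h => hst (by rw [h])), not_dvd_small hc hc5, ?_⟩
      · obtain ⟨i, rfl⟩ := mem_zpowers_iff.1 hx
        have hst : ∀ j : ℤ, t ^ j * c * (t ^ j)⁻¹ = c := fun j => by
          have : Commute t c := mul_inv_eq_iff_eq_mul.1 htc
          rw [(this.zpow_left j).eq, mul_inv_cancel_right]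
        rw [← map_zpow]
        exact hst i
      · have hle := psl_elem_card_le hF hq (E := E.comap ι)
          fun x hx => hι (by rw [map_mul, map_one]; exact hE _ hx)
        rw [← hEcard] at hle
        have h2' : Nat.card (zpowers (ι t)) = 2 := by
          rw [Nat.card_zpowers, orderOf_injective ι hι]
          exact orderOf_eq_prime (by rw [pow_two, htt]) ht1
        have := CfsgLib.CFun.card_mul_relIndex' (zpowers_le.2 he : zpowers (ι t) ≤ E)
        rw [h2'] at this
        have : (zpowers (ι t)).relIndex E ≤ 2 := by omega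
        calc _ ≤ 2 ^ 4 := Nat.pow_le_pow_left this 4
          _ = _ := by norm_num
    · push Not at hs
      have ho : orderOf t = 2 := orderOf_eq_prime (by rw [pow_two, htt]) ht1
      obtain ⟨x, hx1, hxo, hxi⟩ := CfsgLib.Invol.exists_odd_inverted_of_notMem_pCore ho (hcore t ho)
      obtain ⟨j, hj, hj2⟩ := exists_prime_power (g := x) fun k hk => hx1
        (CfsgLib.Invol.eq_one_of_odd_of_mul_self hxo (psl_sq_of_two_pow hF k x hk))
      have hinv : t * x ^ j * t⁻¹ = (x ^ j)⁻¹ := by rw [← conj_pow, hxi, inv_pow]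
      have hj3 : orderOf (x ^ j) ≠ 3 := fun h => by
        have := hf _ he (x ^ j) (by rw [← h, pow_orderOf_eq_one]) hinv
        rw [this, orderOf_one] at h
        omega
      refine ⟨⊥, ι t, x ^ j, _, 3, bot_le, he, rfl, hj, hj2,
        fun y hy => by rw [mem_bot.1 hy]; rfl, hinv,
        not_dvd_small hj (prime_ge_five hj hj2 hj3), ?_⟩
      rw [relIndex_bot_left]
      have : Nat.card E ≤ 2 := by
        have : Nat.card E ≤ Nat.card ({1, ι t} : Finset (MulAut L₂)) :=
          Nat.card_le_card_of_injective (fun e => ⟨e, by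
            rcases eq_or_ne (e : MulAut L₂) 1 with k | k
            · simp [k]
            · simp [hs e e.2 k]⟩) fun x y e => Subtype.ext
              (congrArg (fun z : ({1, ι t} : Finset (MulAut L₂)) => (z : MulAut L₂)) e)
        rw [Nat.card_eq_fintype_card (α := ({1, ι t} : Finset (MulAut L₂))), Fintype.card_coe] at this
        have := Finset.card_le_two (a := (1 : MulAut L₂)) (b := ι t)
        omega
      calc Nat.card E ^ 4 ≤ 2 ^ 4 := Nat.pow_le_pow_left this 4
        _ = _ := by norm_num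
  · by_cases hbot : E = ⊥
    · refine ⟨c₀, fun k hk => ?_, fun e he he1 => absurd (mem_bot.1 (hbot ▸ he)) he1⟩
      have hd := orderOf_dvd_of_pow_eq_one hk
      have := (Nat.prime_dvd_prime_iff_eq hc₀ Nat.prime_two).1 (hc₀.dvd_of_dvd_pow hd)
      omega
    set U := E.comap ι with hU
    have hU2 : ∀ u ∈ U, u * u = 1 := fun u hu => hι (by rw [map_mul, map_one]; exact hE _ hu)
    have hUcard := psl_elem_card_le hF hq hU2
    set q := Fintype.card F with hqdef
    -- the bad elements for `e`
    let bad : L₂ → Finset L₂ := fun e => Finset.univ.filter fun x =>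
      x * e * x⁻¹ ∈ Subgroup.centralizer ({e} : Set L₂)
    have hbad : ∀ e : L₂, e * e = 1 → e ≠ 1 → (bad e).card ≤ (q + 1) * (q + 1) := by
      intro e he he1
      obtain ⟨S, hS, htr⟩ := invol_lift h2 he he1
      have hC := card_cent_le h2 hns hS htr
      set C := Subgroup.centralizer ({e} : Set L₂)
      let img := (bad e).image fun x => x * e * x⁻¹
      have h1 : (bad e).card ≤ Nat.card C * img.card := by
        refine Finset.card_le_mul_card_image (bad e) (Nat.card C) fun y hy => ?_
        obtain ⟨x₀, -, rfl⟩ := Finset.mem_image.1 hy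
        rw [Nat.card_eq_fintype_card, ← Finset.card_univ]
        refine Finset.card_le_card_of_injOn (fun x => if h : x₀⁻¹ * x ∈ C then ⟨_, h⟩ else 1)
          (fun x _ => Finset.mem_univ _) fun a ha b hb e' => ?_
        have key : ∀ a ∈ ((bad e).filter fun x => x * e * x⁻¹ = x₀ * e * x₀⁻¹), x₀⁻¹ * a ∈ C := by
          intro a ha
          have h := (Finset.mem_filter.1 ha).2
          refine mem_centralizer_singleton_iff.2 ?_
          calc x₀⁻¹ * a * e = x₀⁻¹ * (a * e * a⁻¹) * a := by group
            _ = e * (x₀⁻¹ * a) := by rw [h]; group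
        simp only [dif_pos (key a ha), dif_pos (key b hb), Subtype.mk.injEq] at e'
        exact mul_left_cancel e'
      have h2' : img.card ≤ Nat.card C := by
        rw [Nat.card_eq_fintype_card, ← Fintype.card_coe]
        refine Fintype.card_le_of_injective (fun y => ⟨y, ?_⟩)
          fun a b h => Subtype.ext (congrArg (fun z : C => (z : L₂)) h)
        obtain ⟨x, hx, hxy⟩ := Finset.mem_image.1 y.2
        rw [← hxy]
        exact (Finset.mem_filter.1 hx).2
      exact h1.trans (Nat.mul_le_mul hC (h2'.trans hC))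
    -- the elements with square one
    set I := Finset.univ.filter fun x : L₂ => x * x = 1 with hI
    have hIcard : I.card ≤ 1 + 2 * (q * q) := by
      choose S hS htr using fun x : {x : L₂ // x * x = 1 ∧ x ≠ 1} =>
        invol_lift h2 x.2.1 x.2.2
      let f : I → Option (Bool × F × F) := fun x =>
        if hx : (x : L₂) = 1 then none else
          let y : {x : L₂ // x * x = 1 ∧ x ≠ 1} := ⟨x, (Finset.mem_filter.1 x.2).2, hx⟩
          some (false, (S y).1 0 0, (S y).1 0 1)
      have hf' : Function.Injective f := by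
        rintro ⟨x, hx⟩ ⟨x', hx'⟩ h
        by_cases k : x = 1 <;> by_cases k' : x' = 1
        · exact Subtype.ext (k.trans k'.symm)
        · simp [f, k, k'] at h
        · simp [f, k, k'] at h
        · simp only [f, k, k', dite_false, Option.some.injEq, Prod.mk.injEq, true_and] at h
          refine Subtype.ext ?_
          show x = x'
          have y1 : x = CfsgLib.AutPSL.proj (S ⟨x, (Finset.mem_filter.1 hx).2, k⟩) :=
            (hS ⟨x, (Finset.mem_filter.1 hx).2, k⟩).symm
          have y2 : x' = CfsgLib.AutPSL.proj (S ⟨x', (Finset.mem_filter.1 hx').2, k'⟩) :=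
            (hS ⟨x', (Finset.mem_filter.1 hx').2, k'⟩).symm
          rw [y1, y2]
          refine congrArg _ (Subtype.ext ?_)
          obtain ⟨h00, h01⟩ := h
          set A := S ⟨x, (Finset.mem_filter.1 hx).2, k⟩ with hA
          set B := S ⟨x', (Finset.mem_filter.1 hx').2, k'⟩ with hB
          have ha : A.1 1 1 = -A.1 0 0 := htr _
          have hb : B.1 1 1 = -B.1 0 0 := htr _
          have hda := A.2
          have hdb := B.2
          rw [Matrix.det_fin_two, ha] at hda
          rw [Matrix.det_fin_two, hb] at hdb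
          have h10 : A.1 1 0 = B.1 1 0 := by
            refine mul_left_cancel₀ (low_ne hns hb) ?_
            rw [h00, h01] at hda
            linear_combination hdb - hda
          ext i j
          fin_cases i <;> fin_cases j
          · exact h00
          · exact h01
          · exact h10
          · show A.1 1 1 = B.1 1 1
            rw [ha, hb, h00]
      have := Fintype.card_le_of_injective f hf'
      rw [Fintype.card_coe, Fintype.card_option, Fintype.card_prod, Fintype.card_prod,
        Fintype.card_bool, ← hqdef] at this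
      omega
    obtain ⟨e₁, he₁, he₁1⟩ := E.bot_or_exists_ne_one.resolve_left hbot
    set Us := Finset.univ.filter fun u : L₂ => u ∈ U ∧ u ≠ 1 with hUs
    have hUs3 : Us.card ≤ 3 := by
      have : Us.card + 1 ≤ Nat.card U := by
        rw [Nat.card_eq_fintype_card, ← Finset.card_insert_of_notMem (a := (1 : L₂)) (by simp [Us]),
          ← Fintype.card_coe]
        refine Fintype.card_le_of_injective (fun y => ⟨y, ?_⟩)
          fun a b h => Subtype.ext (congrArg (fun z : U => (z : L₂)) h)
        rcases Finset.mem_insert.1 y.2 with k | k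
        · rw [k]; exact one_mem _
        · exact (Finset.mem_filter.1 k).2.1
      omega
    obtain ⟨x, hxI, hxbad⟩ : ∃ x, x ∉ I ∧ ∀ u ∈ Us, x ∉ bad u := by
      by_contra h
      push Not at h
      have hcov : (Finset.univ : Finset L₂) ⊆ I ∪ Us.biUnion bad := fun x _ => by
        by_cases hx : x ∈ I
        · exact Finset.mem_union_left _ hx
        · obtain ⟨u, hu, hxu⟩ := h x hx
          exact Finset.mem_union_right _ (Finset.mem_biUnion.2 ⟨u, hu, hxu⟩)
      have h1 := (Finset.card_le_card hcov).trans (Finset.card_union_le _ _)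
      have h2' : (Us.biUnion bad).card ≤ 3 * ((q + 1) * (q + 1)) :=
        (Finset.card_biUnion_le_card_mul _ _ _ fun u hu =>
          hbad u (hU2 u (Finset.mem_filter.1 hu).2.1) (Finset.mem_filter.1 hu).2.2).trans
          (Nat.mul_le_mul_right _ hUs3)
      have hL : 2 * Fintype.card L₂ = q * ((q - 1) * (q + 1)) := by
        haveI := CfsgLib.Perm.Dickson.finite_G2 (F := F)
        have := CfsgLib.Perm.Dickson.card_psl F
        rwa [CfsgLib.Perm.Dickson.gcd_odd (by rw [Nat.card_eq_fintype_card, ← hqdef, hF]; exact Odd.pow (by decide)),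
          ← CfsgLib.Perm.Dickson.card_S2P, Nat.card_eq_fintype_card, Nat.card_eq_fintype_card] at this
      rw [Finset.card_univ] at h1
      have hq27 : 27 ≤ q := by
        rcases Nat.eq_zero_or_pos n with hn | hn
        · rw [hn, Nat.mul_zero, zero_add, pow_one] at hF; omega
        · rw [hF]
          calc 27 = 3 ^ 3 := rfl
            _ ≤ _ := Nat.pow_le_pow_right (by norm_num) (by omega)
      obtain ⟨a, ha⟩ := Nat.exists_eq_add_of_le hq27
      rw [ha, show 27 + a - 1 = 26 + a by omega] at hL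
      rw [ha] at hIcard h2'
      nlinarith
    refine ⟨x, fun k hk => hxI (Finset.mem_filter.2 ⟨Finset.mem_univ _, psl_sq_of_two_pow hF k x hk⟩),
      fun y hy hy1 k hk => ?_⟩
    obtain ⟨e, rfl, hee⟩ := hinner E hE hf y hy
    set e' := x * e * x⁻¹ with he'
    have he'i : e'⁻¹ = e' := inv_eq_of_mul_eq_one_right (by
      calc x * e * x⁻¹ * (x * e * x⁻¹) = x * (e * e) * x⁻¹ := by group
        _ = 1 := by rw [hee]; group)
    rw [hιdef, MulAut.conj_apply] at hk
    have hk' : (e * e') ^ 2 ^ k = 1 := by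
      rw [show e * e' = e * x * e⁻¹ * x⁻¹ by rw [he', inv_eq_of_mul_eq_one_right hee]; group]
      exact hk
    have hsq := psl_sq_of_two_pow hF _ _ hk'
    refine hxbad e (Finset.mem_filter.2 ⟨Finset.mem_univ _, hy, fun h => hy1 (by rw [h, map_one])⟩)
      (Finset.mem_filter.2 ⟨Finset.mem_univ _, mem_centralizer_singleton_iff.2 ?_⟩)
    have h := inv_eq_of_mul_eq_one_right hsq
    rw [mul_inv_rev, he'i, inv_eq_of_mul_eq_one_right hee] at h
    exact h

end PSL

/-- The listed simple groups satisfy the component facts. -/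
theorem compFact_of_listed {L : Type u} [Group L] [IsSimpleGroup L]
    (hL : Cfsg.IsSuzukiOrPSL2OddPowerThree L) (hc : ¬ IsMulCommutative L) :
    CompFact L := by
  rcases hL with ⟨F, _, _, m, hm, hF, ⟨f⟩⟩ | ⟨F, _, _, n, hF, ⟨f⟩⟩
  · obtain ⟨tw⟩ := CfsgLib.Lie.Suz.exists_twEquiv (F := F) (m := m) hm hF
    exact (compFact_suz hm hF).of_mulEquiv (f.trans tw.symm).symm
  · refine (compFact_psl hF ?_).of_mulEquiv f.symm
    by_contra hlt
    rcases Nat.eq_zero_or_pos n with rfl | hn
    · have h3 : Fintype.card F = 3 := by simpa using hF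
      refine not_solvable_of_simple hc ?_
      haveI := CfsgLib.Perm.Dickson.finite_G2 (F := F)
      haveI : Group.IsSolvable (Matrix.ProjectiveSpecialLinearGroup (Fin 2) F) :=
        CfsgLib.Perm.Dickson.solvable_of_card_dvd_24 (by
          have := CfsgLib.Perm.Dickson.card_psl F
          rw [CfsgLib.Perm.Dickson.gcd_odd (by rw [Nat.card_eq_fintype_card, h3]; decide),
            ← CfsgLib.Perm.Dickson.card_S2P, Nat.card_eq_fintype_card (α := F), h3] at this
          exact ⟨2, show _ = Nat.card (CfsgLib.Perm.Dickson.S2P F) * 2 by omega⟩)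
      exact Group.isSolvable_of_isSolvable_injective (f := f.toMonoidHom) f.injective
    · have : 3 ^ 3 ≤ Fintype.card F := hF ▸ Nat.pow_le_pow_right (by norm_num) (by omega)
      omega

end CfsgLib.FourFree
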