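import Cfsg.Agent.Lib.FourFree.K.Chief
import Cfsg.Agent.Lib.FourFree.K.Components

/-!
# An inverted element with large modules

In a group with `O₂ = 1`, listed simple sections and no inverted element of order three, a
non-trivial elementary `2`-subgroup `A` has a subgroup `E₀` and an element `v` inverting an element
`c` of prime order which commutes with `E₀`, all of whose non-trivial modules are large compared
with `|A : E₀|`.
-/

set_option autoImplicit false
set_option linter.style.haveILetI false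

open Subgroup
open CfsgLib.Fusion (conjBy mem_conjBy conj_mem_conjBy conjBy_le_iff conjBy_eq_iff)

namespace CfsgLib.FourFree

universe u

variable {Q : Type u} [Group Q]

/-- An element of `A` inverting an element with large modules centralized by a large subgroup. -/
def Key (A : Subgroup Q) : Prop :=
  ∃ (E0 : Subgroup Q) (v c : Q) (r m : ℕ), E0 ≤ A ∧ v ∈ A ∧ orderOf c = r ∧ r.Prime ∧ r ≠ 2 ∧
    (∀ e ∈ E0, e * c * e⁻¹ = c) ∧ v * c * v⁻¹ = c⁻¹ ∧
    (∀ k, 0 < k → k < m → ¬ r ∣ 2 ^ k - 1) ∧ E0.relIndex A ^ 4 ≤ 2 ^ (m + 1)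

variable [Finite Q]

/-- Elements of prime order five or more and index two give a `Key`. -/
theorem key_of_five (hG : HG Q) {A E0 : Subgroup Q} (hE : E0 ≤ A) (hidx : E0.relIndex A ≤ 2)
    {v c : Q} (hv : v ∈ A) (hc : (orderOf c).Prime) (hc2 : orderOf c ≠ 2)
    (hfix : ∀ e ∈ E0, e * c * e⁻¹ = c) (hinv : v * c * v⁻¹ = c⁻¹) : Key A := by
  have h3 : orderOf c ≠ 3 := fun h => by
    have := hG v c (by rw [← h, pow_orderOf_eq_one]) hinv
    rw [this, orderOf_one] at h
    omega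
  exact ⟨E0, v, c, _, 3, hE, hv, rfl, hc, hc2, hfix, hinv, not_dvd_small hc (prime_ge_five hc hc2 h3),
    (Nat.pow_le_pow_left hidx 4).trans (by norm_num)⟩

theorem relIndex_le_two {A A0 : Subgroup Q} {t : Q} (ht : t ∈ A)
    (h : ∀ b ∈ A, b ∉ A0 → b * t ∈ A0) : A0.relIndex A ≤ 2 := by
  by_cases h' : t ∈ A0
  · have : A ≤ A0 := fun b hb => by
      by_contra hb'
      exact hb' (by simpa using mul_mem (h b hb hb') (inv_mem h'))
    rw [relIndex_eq_one.2 this]
    omega
  refine le_of_eq ?_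
  rw [relIndex, Subgroup.index_eq_two_iff]
  refine ⟨⟨t, ht⟩, fun b => ?_⟩
  by_cases hb : (b : Q) ∈ A0
  · refine Or.inr ⟨hb, fun hbt => h' ?_⟩
    have : (b : Q) * t ∈ A0 := hbt
    simpa using mul_mem (inv_mem hb) this
  · exact Or.inl ⟨h b b.2 hb, hb⟩

/-- The abelian case. -/
theorem key_abelian (hG : HG Q) {A N : Subgroup Q} (hA : ∀ a ∈ A, a * a = 1) (hN : N.Normal)
    (hNc : ∀ a ∈ N, ∀ b ∈ N, a * b = b * a) (hodd : ∀ n ∈ N, Odd (orderOf n))
    (hmv : ¬ A ≤ centralizer (N : Set Q)) : Key A := by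
  classical
  haveI : Fintype Q := Fintype.ofFinite Q
  let fix : Q → Subgroup Q := fun n => A ⊓ centralizer ({n} : Set Q)
  have mem_fix : ∀ {n a : Q}, a ∈ fix n ↔ a ∈ A ∧ a * n = n * a := fun {n a} =>
    ⟨fun h => ⟨h.1, mem_centralizer_singleton_iff.1 h.2⟩,
      fun h => ⟨h.1, mem_centralizer_singleton_iff.2 h.2⟩⟩
  obtain ⟨n, hn, hmax⟩ := (Finset.univ.filter fun n : Q => n ∈ N ∧ fix n ≠ A).exists_max_image
    (fun n => Nat.card (fix n)) (by
      by_contra h
      rw [Finset.not_nonempty_iff_eq_empty, Finset.filter_eq_empty_iff] at h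
      refine hmv fun a ha => mem_centralizer_iff.2 fun x hx => ?_
      have h' := h (Finset.mem_univ x)
      push Not at h'
      exact ((mem_fix.1 ((h' hx).ge ha)).2).symm)
  obtain ⟨hnN, hnA⟩ := (Finset.mem_filter.1 hn).2
  obtain ⟨t, htA, htn⟩ : ∃ t ∈ A, t ∉ fix n := SetLike.not_le_iff_exists.1
    fun h => hnA (le_antisymm inf_le_left h)
  have ht := elem_inv hA htA
  set y := n⁻¹ * (t * n * t⁻¹) with hy
  have hyN : y ∈ N := mul_mem (inv_mem hnN) (hN.conj_mem n hnN t)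
  have hy1 : y ≠ 1 := fun e => htn (mem_fix.2 ⟨htA, mul_inv_eq_iff_eq_mul.1
    (inv_mul_eq_one.1 e).symm⟩)
  have htt : t * t = 1 := hA t htA
  have hyt : t * y * t⁻¹ = y⁻¹ := by
    rw [hy, ht]
    calc t * (n⁻¹ * (t * n * t)) * t = (t * n⁻¹ * t) * n * (t * t) := by group
      _ = (t * n⁻¹ * t) * n := by rw [htt, mul_one]
      _ = (n⁻¹ * (t * n * t))⁻¹ := by rw [mul_inv_rev, mul_inv_rev, mul_inv_rev, ht, inv_inv]; group
  have hfy : ∀ a ∈ fix n, a * y * a⁻¹ = y := by
    intro a ha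
    obtain ⟨haA, han⟩ := mem_fix.1 ha
    have hat := elem_comm hA haA htA
    have han' : a * n * a⁻¹ = n := by rw [han, mul_inv_cancel_right]
    calc a * y * a⁻¹ = (a * n * a⁻¹)⁻¹ * ((a * t) * n * (a * t)⁻¹) := by rw [hy]; group
      _ = (a * n * a⁻¹)⁻¹ * (t * (a * n * a⁻¹) * t⁻¹) := by rw [hat]; group
      _ = y := by rw [han', hy]
  have hmoved : ∀ z : Q, z ∈ N → t * z * t⁻¹ = z⁻¹ → z ≠ 1 → fix z ≠ A := by
    intro z hz hzt hz1 e
    have := (mem_fix.1 (e.ge htA)).2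
    rw [this, mul_inv_cancel_right] at hzt
    exact hz1 (CfsgLib.Invol.eq_one_of_odd_of_mul_self (hodd z hz) (eq_inv_iff_mul_eq_one.1 hzt))
  have hfixeq : ∀ z : Q, z ∈ N → t * z * t⁻¹ = z⁻¹ → z ≠ 1 → (∀ a ∈ fix n, a * z * a⁻¹ = z) →
      fix z = fix n := by
    intro z hz hzt hz1 hfz
    have hle : fix n ≤ fix z := fun a ha =>
      mem_fix.2 ⟨(mem_fix.1 ha).1, mul_inv_eq_iff_eq_mul.1 (hfz a ha)⟩
    exact (eq_of_le_of_card_ge hle
      (hmax z (Finset.mem_filter.2 ⟨Finset.mem_univ _, hz, hmoved z hz hzt hz1⟩))).symm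
  have hy' := hfixeq y hyN hyt hy1 hfy
  have hidx : (fix n).relIndex A ≤ 2 := by
    refine relIndex_le_two htA fun s hsA hsn => ?_
    have hsy : s * y * s⁻¹ ≠ y := fun e => hsn (hy' ▸ mem_fix.2 ⟨hsA, mul_inv_eq_iff_eq_mul.1 e⟩)
    set y' := y * (s * y * s⁻¹) with hy'd
    have hyN' : s * y * s⁻¹ ∈ N := hN.conj_mem y hyN s
    have hst := elem_comm hA hsA htA
    have hy't : t * y' * t⁻¹ = y'⁻¹ := by
      calc t * y' * t⁻¹ = (t * y * t⁻¹) * ((t * s) * y * (t * s)⁻¹) := by rw [hy'd]; group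
        _ = (t * y * t⁻¹) * (s * (t * y * t⁻¹) * s⁻¹) := by rw [← hst]; group
        _ = y⁻¹ * (s * y * s⁻¹)⁻¹ := by rw [hyt, conj_inv]
        _ = y'⁻¹ := by
          show _ = (y * (s * y * s⁻¹))⁻¹
          rw [hNc _ (inv_mem hyN) _ (inv_mem hyN'), ← mul_inv_rev]
    have h1 : y' = 1 := by
      by_contra h1
      have hf : ∀ a ∈ fix n, a * y' * a⁻¹ = y' := fun a ha => by
        have has := elem_comm hA (mem_fix.1 ha).1 hsA
        calc a * y' * a⁻¹ = (a * y * a⁻¹) * ((a * s) * y * (a * s)⁻¹) := by rw [hy'd]; group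
          _ = (a * y * a⁻¹) * (s * (a * y * a⁻¹) * s⁻¹) := by rw [has]; group
          _ = y' := by rw [hfy a ha, hy'd]
      have hs' : s * y' * s⁻¹ = y' := by
        calc s * y' * s⁻¹ = (s * y * s⁻¹) * ((s * s) * y * (s * s)⁻¹) := by rw [hy'd]; group
          _ = (s * y * s⁻¹) * y := by rw [hA s hsA]; group
          _ = y' := hNc _ hyN' _ hyN
      exact hsn ((hfixeq y' (mul_mem hyN hyN') hy't h1 hf) ▸
        mem_fix.2 ⟨hsA, mul_inv_eq_iff_eq_mul.1 hs'⟩)
    refine hy' ▸ mem_fix.2 ⟨mul_mem hsA htA, mul_inv_eq_iff_eq_mul.1 ?_⟩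
    calc s * t * y * (s * t)⁻¹ = s * (t * y * t⁻¹) * s⁻¹ := by group
      _ = (s * y * s⁻¹)⁻¹ := by rw [hyt, conj_inv]
      _ = y := inv_eq_of_mul_eq_one_left h1
  obtain ⟨j, hj, hj2⟩ := exists_prime_power (g := y) fun k hk => hy1 (by
    obtain ⟨i, hi, h⟩ := (Nat.dvd_prime_pow Nat.prime_two).1 (orderOf_dvd_of_pow_eq_one hk)
    have ho := hodd y hyN
    rw [h] at ho
    rcases Nat.eq_zero_or_pos i with h0 | h0
    · rw [h0, pow_zero] at h; exact orderOf_eq_one_iff.1 h
    · exact absurd ho (Nat.not_odd_iff_even.2 (Nat.even_pow.2 ⟨even_two, h0.ne'⟩)))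
  exact key_of_five hG inf_le_left hidx htA hj hj2 (fun a ha => by rw [← conj_pow, hfy a ha])
    (by rw [← conj_pow, hyt, inv_pow])

/-- Spreading an element of a factor diagonally over its orbit. -/
theorem key_diag {A N M E1 E0 : Subgroup Q} (hA : ∀ a ∈ A, a * a = 1) (hN : MinNormal N)
    (hnc : ¬ IsMulCommutative N) (hMN : M ≤ N) (hMn : ∀ n ∈ N, ∀ x ∈ M, n * x * n⁻¹ ∈ M)
    (hE1 : E1 ≤ A) (hst : ∀ a ∈ E1, ∀ x ∈ M, a * x * a⁻¹ ∈ M)
    (hcom : ∀ a ∈ A, a ∉ E1 → ∀ x ∈ M, ∀ y ∈ M, a * x * a⁻¹ * y = y * (a * x * a⁻¹))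
    (hE0 : E0 ≤ E1) {v c : Q} {r m : ℕ} (hv : v ∈ E1) (hcM : c ∈ M) (hc : orderOf c = r)
    (hr : r.Prime) (hr2 : r ≠ 2) (hfix : ∀ e ∈ E0, e * c * e⁻¹ = c) (hinv : v * c * v⁻¹ = c⁻¹)
    (hm : ∀ k, 0 < k → k < m → ¬ r ∣ 2 ^ k - 1) (hidx : E0.relIndex E1 ^ 4 ≤ 2 ^ (m + 1)) :
    Key A := by
  classical
  haveI := Fact.mk hr
  let MB : Subgroup Q → Subgroup Q := fun B => ⨆ b : B, conjBy (b : Q) M
  have hMBN : ∀ B, MB B ≤ N := fun B => iSup_le fun b =>
    conjBy_le_iff.2 fun x hx => hN.normal.conj_mem x (hMN hx) _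
  have hMBn : ∀ B, ∀ n ∈ N, ∀ x ∈ MB B, n * x * n⁻¹ ∈ MB B := by
    intro B n hn
    have h : conjBy n (MB B) ≤ MB B := by
      show (MB B).map (MulAut.conj n).toMonoidHom ≤ MB B
      rw [Subgroup.map_iSup]
      refine iSup_le fun b => le_iSup_of_le b ?_
      rintro _ ⟨y, hy, rfl⟩
      rw [SetLike.mem_coe, mem_conjBy] at hy
      refine mem_conjBy.2 ?_
      have h := hMn _ (show (b : Q)⁻¹ * n * b ∈ N by simpa using hN.normal.conj_mem n hn (b : Q)⁻¹) _ hy
      show (b : Q)⁻¹ * (n * y * n⁻¹) * b ∈ M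
      simpa [mul_assoc] using h
    exact fun x hx => h (conj_mem_conjBy hx)
  have hMle : ∀ B, M ≤ MB B := fun B => le_trans (le_of_eq (CfsgLib.Fusion.conjBy_one M).symm)
    (le_iSup (fun b : B => conjBy (b : Q) M) 1)
  -- the claim
  let P : Subgroup Q → Prop := fun B => E1 ≤ B ∧ B ≤ A ∧ ∃ (E0' : Subgroup Q) (c' : Q), E0' ≤ B ∧
    c' ∈ MB B ∧ orderOf c' = r ∧ (∀ e ∈ E0', e * c' * e⁻¹ = c') ∧ v * c' * v⁻¹ = c'⁻¹ ∧
    E0'.relIndex B ≤ E0.relIndex E1
  obtain ⟨B, -, ⟨hEB, hBA, E0', c', hE0B, hc'M, hc'o, hfix', hinv', hidx'⟩, hmax⟩ :=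
    exists_maximal_ge_of_wellFoundedGT P E1
      ⟨le_rfl, hE1, E0, c, hE0, hMle E1 hcM, hc, hfix, hinv, le_rfl⟩
  by_cases hBeq : B = A
  · subst hBeq
    exact ⟨E0', v, c', r, m, hE0B, hEB hv, hc'o, hr, hr2, hfix', hinv', hm,
      (Nat.pow_le_pow_left hidx' 4).trans hidx⟩
  exfalso
  obtain ⟨s, hsA, hsB⟩ := SetLike.not_le_iff_exists.1 fun h => hBeq (le_antisymm hBA h)
  set s' := s * c' * s⁻¹ with hs'
  -- `M(B)` and its translate commute
  have hcomm : ∀ x ∈ MB B, ∀ y ∈ MB B, s * x * s⁻¹ * y = y * (s * x * s⁻¹) := by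
    have key : conjBy s (MB B) ≤ centralizer (MB B : Set Q) := by
      show (MB B).map (MulAut.conj s).toMonoidHom ≤ _
      rw [Subgroup.map_iSup]
      refine iSup_le fun b => Subgroup.le_centralizer_iff.1 (iSup_le fun b' => ?_)
      intro y hy
      rw [mem_centralizer_iff]
      rintro _ ⟨w, hw, rfl⟩
      rw [SetLike.mem_coe, mem_conjBy] at hw
      rw [mem_conjBy] at hy
      have hbA := hBA b.2
      have hb'A := hBA b'.2
      set a := (b' : Q)⁻¹ * s * b with ha
      have haA : a ∈ A := mul_mem (mul_mem (inv_mem hb'A) hsA) hbA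
      have haE : a ∉ E1 := fun h => hsB (by
        have : s = (b' : Q) * a * (b : Q)⁻¹ := by rw [ha]; group
        rw [this]; exact mul_mem (mul_mem b'.2 (hEB h)) (inv_mem b.2))
      have h1 := hcom a haA haE _ hw _ hy
      show s * w * s⁻¹ * y = y * (s * w * s⁻¹)
      calc s * w * s⁻¹ * y = (b' : Q) * ((a * ((b : Q)⁻¹ * w * b) * a⁻¹) *
            ((b' : Q)⁻¹ * y * b')) * (b' : Q)⁻¹ := by rw [ha]; group
        _ = (b' : Q) * (((b' : Q)⁻¹ * y * b') * (a * ((b : Q)⁻¹ * w * b) * a⁻¹)) *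
            (b' : Q)⁻¹ := by rw [h1]
        _ = y * (s * w * s⁻¹) := by rw [ha]; group
    exact fun x hx y hy => (mem_centralizer_iff.1 (key (conj_mem_conjBy hx)) y hy).symm
  have hcom' : c' * s' = s' * c' := (hcomm c' hc'M c' hc'M).symm
  have hy1 : c' * s' ≠ 1 := by
    intro e
    have hmem : c' ∈ MB B ⊓ centralizer (MB B : Set Q) := ⟨hc'M, mem_centralizer_iff.2 fun y hy => by
      have h := hcomm c'⁻¹ (inv_mem hc'M) y hy
      rw [← conj_inv, ← hs', ← eq_inv_of_mul_eq_one_left e] at h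
      exact h.symm⟩
    have := IsFactor.comm_eq_bot hN hnc (K := MB B ⊓ centralizer (MB B : Set Q))
      (inf_le_left.trans (hMBN B)) (fun n hn x hx => ⟨hMBn B n hn x hx.1,
        mem_centralizer_iff.2 fun y hy => by
          have h := mem_centralizer_iff.1 hx.2 (n⁻¹ * y * n) (by
            simpa using hMBn B n⁻¹ (inv_mem hn) y hy)
          calc y * (n * x * n⁻¹) = n * ((n⁻¹ * y * n) * x) * n⁻¹ := by group
            _ = n * (x * (n⁻¹ * y * n)) * n⁻¹ := by rw [h]
            _ = n * x * n⁻¹ * y := by group⟩)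
      (fun x hx y hy => mem_centralizer_iff.1 hy.2 x hx.1)
    rw [this, mem_bot] at hmem
    rw [hmem, orderOf_one] at hc'o
    exact hr.ne_one hc'o.symm
  have hyo : orderOf (c' * s') = r := orderOf_eq_prime (by
    rw [(show Commute c' s' from hcom').mul_pow, ← hc'o, pow_orderOf_eq_one, hs', conj_pow,
      pow_orderOf_eq_one]
    group) hy1
  set B' := B ⊔ zpowers s with hB'
  have hB'A : B' ≤ A := sup_le hBA (zpowers_le.2 hsA)
  have hP : P B' := by
    refine ⟨hEB.trans le_sup_left, hB'A, E0' ⊔ zpowers s, c' * s', sup_le_sup_right hE0B _, ?_, hyo,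
      ?_, ?_, (relIndex_sup_le hA hE0B hBA (zpowers_le.2 hsA)).trans hidx'⟩
    · have hmono : MB B ≤ MB B' := iSup_le fun b =>
        le_iSup_of_le (⟨b, le_sup_left (a := B) b.2⟩ : B') le_rfl
      refine mul_mem (hmono hc'M) ?_
      have hconj : conjBy s (MB B) ≤ MB B' := by
        show (MB B).map (MulAut.conj s).toMonoidHom ≤ _
        rw [Subgroup.map_iSup]
        refine iSup_le fun b => le_iSup_of_le
          (⟨s * b, mul_mem (mem_sup_right (mem_zpowers s)) (mem_sup_left b.2)⟩ : B') ?_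
        rw [show (conjBy (b : Q) M).map (MulAut.conj s).toMonoidHom = conjBy (s * b) M from
          CfsgLib.Fusion.conjBy_conjBy s _ M]
      exact hconj (conj_mem_conjBy hc'M)
    · intro e he
      have hle : E0' ⊔ zpowers s ≤ centralizer ({c' * s'} : Set Q) := by
        refine sup_le (fun x hx => ?_) (zpowers_le.2 ?_)
        · refine mem_centralizer_singleton_iff.2 (mul_inv_eq_iff_eq_mul.1 ?_)
          have hxs := elem_comm hA (hBA (hE0B hx)) hsA
          calc x * (c' * s') * x⁻¹ = (x * c' * x⁻¹) * ((x * s) * c' * (x * s)⁻¹) := by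
                rw [hs']; group
            _ = (x * c' * x⁻¹) * (s * (x * c' * x⁻¹) * s⁻¹) := by rw [hxs]; group
            _ = _ := by rw [hfix' x hx, hs']
        · refine mem_centralizer_singleton_iff.2 (mul_inv_eq_iff_eq_mul.1 ?_)
          calc s * (c' * s') * s⁻¹ = s' * ((s * s) * c' * (s * s)⁻¹) := by rw [hs']; group
            _ = s' * c' := by rw [hA s hsA]; group
            _ = _ := hcom'.symm
      exact mul_inv_eq_iff_eq_mul.2 (mem_centralizer_singleton_iff.1 (hle he))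
    · have hvs := elem_comm hA (hE1 hv) hsA
      calc v * (c' * s') * v⁻¹ = (v * c' * v⁻¹) * ((v * s) * c' * (v * s)⁻¹) := by rw [hs']; group
        _ = (v * c' * v⁻¹) * (s * (v * c' * v⁻¹) * s⁻¹) := by rw [hvs]; group
        _ = c'⁻¹ * s'⁻¹ := by rw [hinv', hs', conj_inv]
        _ = _ := by rw [← mul_inv_rev, hcom']
  exact hsB (hmax hP le_sup_left (mem_sup_right (mem_zpowers s)))

/-- The non-abelian case. -/
theorem key_nonabelian (hG : HG Q) (hKS : KS Q) {A N : Subgroup Q} (hA : ∀ a ∈ A, a * a = 1)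
    (hN : MinNormal N) (hnc : ¬ IsMulCommutative N) (hmv : ¬ A ≤ centralizer (N : Set Q)) :
    Key A := by
  classical
  obtain ⟨L₀, hL₀⟩ := IsFactor.exists_factor hN.normal hN.ne_bot
  obtain ⟨L, hL, a₀, ha₀, x₀, hx₀, hne₀⟩ : ∃ L, IsFactor N L ∧ ∃ a ∈ A, ∃ x ∈ L, a * x ≠ x * a := by
    by_contra h
    push Not at h
    refine hmv (Subgroup.le_centralizer_iff.1 ?_)
    rw [IsFactor.generate hN hL₀]
    exact iSup_le fun g x hx => mem_centralizer_iff.2 fun a ha =>
      h _ (hL₀.conj hN.normal g) a ha x hx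
  obtain ⟨hLs, hLnc⟩ := hL.simple hN hnc
  haveI := hLs
  have hfact : CompFact L := compFact_of_listed
    (KS.of_quot hKS (H := L) (MonoidHom.id L) Function.surjective_id hLnc) hLnc
  set E1 := A ⊓ normalizer (L : Set Q) with hE1
  let φ : E1 →* MulAut L := L.normalizerMonoidHom.comp (inclusion inf_le_right)
  have hφ : ∀ (e : E1) (x : L), ((φ e x : L) : Q) = e * x * (e : Q)⁻¹ := fun e x => rfl
  have hst : ∀ a ∈ E1, ∀ x ∈ L, a * x * a⁻¹ ∈ L := fun a ha x hx =>
    (Subgroup.mem_normalizer_iff.1 ha.2 x).1 hx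
  have hcom : ∀ a ∈ A, a ∉ E1 → ∀ x ∈ L, ∀ y ∈ L, a * x * a⁻¹ * y = y * (a * x * a⁻¹) := by
    intro a ha haE x hx y hy
    refine (hL.conj hN.normal a).commute hL (fun e => haE ⟨ha, conjBy_eq_iff.1 e⟩)
      (conj_mem_conjBy hx) hy
  by_cases htriv : φ.range = ⊥
  · -- `E1` centralizes `L`
    have hcent : ∀ e ∈ E1, ∀ x ∈ L, e * x * e⁻¹ = x := fun e he x hx => by
      have : φ ⟨e, he⟩ = 1 := (Subgroup.eq_bot_iff_forall _).1 htriv _ ⟨_, rfl⟩
      have := congrArg (fun θ : MulAut L => ((θ ⟨x, hx⟩ : L) : Q)) this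
      simp only [hφ, MulAut.one_apply] at this
      exact this
    obtain ⟨x, hx, hx5⟩ := hfact.five
    rw [← Subgroup.orderOf_coe] at hx hx5
    set r := orderOf (x : Q)
    have hsA : a₀ ∈ A := ha₀
    have hsE : a₀ ∉ E1 := fun h => hne₀ (mul_inv_eq_iff_eq_mul.1 (hcent a₀ h x₀ hx₀))
    set s := a₀
    have hss := hA s hsA
    have hsi := elem_inv hA hsA
    set L' := conjBy s L with hL'
    have hF' : IsFactor N L' := hL.conj hN.normal s
    have hne : L ≠ L' := fun e => hsE ⟨hsA, conjBy_eq_iff.1 e.symm⟩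
    set y := s * (x : Q)⁻¹ * s⁻¹ with hy
    have hxy : (x : Q) * y = y * x := hL.commute hF' hne x.2 (conj_mem_conjBy (inv_mem x.2))
    have hc1 : (x : Q) * y ≠ 1 := fun e => by
      have hmem : (x : Q) ∈ L ⊓ L' := ⟨x.2, by
        rw [eq_inv_of_mul_eq_one_left e]
        exact (inv_mem (conj_mem_conjBy (inv_mem x.2)) : y⁻¹ ∈ L')⟩
      rw [hL.disjoint hF' hne, mem_bot] at hmem
      rw [show r = 1 by rw [show r = orderOf (x : Q) from rfl, hmem, orderOf_one]] at hx5
      omega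
    haveI := Fact.mk hx
    have hco : orderOf ((x : Q) * y) = r := orderOf_eq_prime (by
      rw [(show Commute (x : Q) y from hxy).mul_pow, pow_orderOf_eq_one, hy, conj_pow, inv_pow,
        pow_orderOf_eq_one]
      group) hc1
    refine key_diag hA hN hnc (M := L ⊔ L') (E1 := E1 ⊔ zpowers s) (E0 := E1)
      (sup_le hL.le hF'.le) ?_ (sup_le inf_le_left (zpowers_le.2 hsA)) ?_ ?_ le_sup_left
      (v := s) (c := (x : Q) * y) (mem_sup_right (mem_zpowers s))
      (mul_mem (mem_sup_left x.2) (mem_sup_right (conj_mem_conjBy (inv_mem x.2)))) hco hx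
      (by omega) ?_ ?_ (not_dvd_small hx hx5) ?_
    · intro n hn
      have h : conjBy n (L ⊔ L') ≤ L ⊔ L' := by
        show (L ⊔ L').map (MulAut.conj n).toMonoidHom ≤ _
        rw [Subgroup.map_sup]
        exact sup_le_sup (conjBy_le_iff.2 (hL.norm n hn)) (conjBy_le_iff.2 (hF'.norm n hn))
      exact fun z hz => h (conj_mem_conjBy hz)
    · have hswap : conjBy s L' = L := by
        rw [hL', CfsgLib.Fusion.conjBy_conjBy, hss, CfsgLib.Fusion.conjBy_one]
      have hle : E1 ⊔ zpowers s ≤ normalizer ((L ⊔ L' : Subgroup Q) : Set Q) := by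
        refine sup_le (fun e he => conjBy_eq_iff.1 ?_) (zpowers_le.2 (conjBy_eq_iff.1 ?_))
        · show (L ⊔ L').map (MulAut.conj e).toMonoidHom = _
          rw [Subgroup.map_sup]
          have h1 : conjBy e L = L := conjBy_eq_iff.2 he.2
          have h2 : conjBy e L' = L' := by
            rw [hL', CfsgLib.Fusion.conjBy_conjBy, elem_comm hA he.1 hsA,
              ← CfsgLib.Fusion.conjBy_conjBy, h1]
          exact congrArg₂ (· ⊔ ·) h1 h2
        · show (L ⊔ L').map (MulAut.conj s).toMonoidHom = _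
          rw [Subgroup.map_sup, sup_comm L L']
          exact congrArg₂ (· ⊔ ·) rfl hswap |>.trans (by rw [sup_comm]) |>.trans (sup_comm L' L).symm
      exact fun a ha z hz => (Subgroup.mem_normalizer_iff.1 (hle ha) z).1 hz
    · intro a ha haE z hz w hw
      have key : conjBy a (L ⊔ L') ≤ centralizer ((L ⊔ L' : Subgroup Q) : Set Q) := by
        show (L ⊔ L').map (MulAut.conj a).toMonoidHom ≤ _
        rw [Subgroup.map_sup]
        have hn1 : a ∉ E1 := fun h => haE (mem_sup_left h)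
        have hn2 : s * a ∉ E1 := fun h => haE (by
          have : a = s * (s * a) := by rw [← mul_assoc, hss, one_mul]
          rw [this]; exact mul_mem (mem_sup_right (mem_zpowers s)) (mem_sup_left h))
        have haL : conjBy a L ≠ L := fun e => hn1 ⟨ha, conjBy_eq_iff.1 e⟩
        have hsaL : conjBy (s * a) L ≠ L := fun e => hn2 ⟨mul_mem hsA ha, conjBy_eq_iff.1 e⟩
        have haL' : conjBy a L ≠ L' := fun e => hsaL (by
          rw [← CfsgLib.Fusion.conjBy_conjBy, e, hL', CfsgLib.Fusion.conjBy_conjBy, hss,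
            CfsgLib.Fusion.conjBy_one])
        have ha'L : conjBy a L' ≠ L := fun e => hsaL (by
          rw [← elem_comm hA ha hsA, ← CfsgLib.Fusion.conjBy_conjBy]; exact e)
        have ha'L' : conjBy a L' ≠ L' := fun e => haL (by
          have h := congrArg (conjBy s) e
          rw [hL', CfsgLib.Fusion.conjBy_conjBy, CfsgLib.Fusion.conjBy_conjBy,
            CfsgLib.Fusion.conjBy_conjBy, hss, CfsgLib.Fusion.conjBy_one,
            show s * a * s = a by rw [← elem_comm hA ha hsA, mul_assoc, hss, mul_one]] at h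
          exact h)
        have hF := hL.conj hN.normal a
        have hF2 := hF'.conj hN.normal a
        refine sup_le (Subgroup.le_centralizer_iff.1 (sup_le ?_ ?_))
          (Subgroup.le_centralizer_iff.1 (sup_le ?_ ?_)) <;>
          intro q hq <;> refine mem_centralizer_iff.2 fun p hp => ?_
        · exact hF.commute hL haL hp hq
        · exact hF.commute hF' haL' hp hq
        · exact hF2.commute hL ha'L hp hq
        · exact hF2.commute hF' ha'L' hp hq
      exact (mem_centralizer_iff.1 (key (conj_mem_conjBy hz)) w hw).symm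
    · intro e he
      have hes := elem_comm hA he.1 hsA
      calc e * ((x : Q) * y) * e⁻¹ = (e * x * e⁻¹) * ((e * s) * (x : Q)⁻¹ * (e * s)⁻¹) := by
            rw [hy]; group
        _ = (e * x * e⁻¹) * (s * (e * x * e⁻¹)⁻¹ * s⁻¹) := by rw [hes]; group
        _ = _ := by rw [hcent e he x x.2, hy]
    · calc s * ((x : Q) * y) * s⁻¹ = (s * x * s⁻¹) * ((s * s) * (x : Q)⁻¹ * (s * s)⁻¹) := by
            rw [hy]; group
        _ = y⁻¹ * (x : Q)⁻¹ := by rw [hss, hy, conj_inv, inv_inv]; group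
        _ = _ := by rw [← mul_inv_rev]
    · refine (Nat.pow_le_pow_left (?_ : _ ≤ 2) 4).trans (by norm_num)
      have h := relIndex_sup_le hA (H := (⊥ : Subgroup Q)) (B := zpowers s) (Z := E1) bot_le
        (zpowers_le.2 hsA) inf_le_left
      rw [bot_sup_eq, relIndex_bot_left, Nat.card_zpowers, sup_comm] at h
      exact h.trans (Nat.le_of_dvd (by norm_num) (orderOf_dvd_of_pow_eq_one (by rw [pow_two, hss])))
  · -- an element of `E1` acts non-trivially on `L`
    have hφ2 : ∀ e ∈ φ.range, e * e = 1 := by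
      rintro _ ⟨e, rfl⟩
      rw [← map_mul, show e * e = 1 from Subtype.ext (hA _ e.2.1), map_one]
    obtain ⟨E0, v, c, r, m, hE0, ⟨v₁, rfl⟩, hc, hr, hr2, hfix, hinv, hm, hidx⟩ :=
      hfact.key φ.range hφ2 htriv (by
        rintro _ ⟨e, rfl⟩ z hz hez
        refine Subtype.ext (hG (e : Q) z (congrArg Subtype.val hz) ?_)
        rw [← hφ, hez]; rfl)
    refine key_diag hA hN hnc (M := L) (E1 := E1) (E0 := (E0.comap φ).map E1.subtype) hL.le hL.norm
      inf_le_left hst hcom (map_subtype_le _) (v := (v₁ : Q)) (c := (c : Q)) (r := r) (m := m)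
      v₁.2 c.2 (by rw [Subgroup.orderOf_coe, hc]) hr hr2 ?_ ?_ hm ?_
    · rintro _ ⟨e, he, rfl⟩
      show (e : Q) * c * (e : Q)⁻¹ = c
      rw [← hφ]
      exact congrArg Subtype.val (hfix _ he)
    · rw [← hφ, hinv]; rfl
    · have h1 : ((E0.comap φ).map E1.subtype).relIndex E1 = E0.relIndex φ.range := by
        show (((E0.comap φ).map E1.subtype).subgroupOf E1).index = _
        rw [show ((E0.comap φ).map E1.subtype).subgroupOf E1 = E0.comap φ from
          comap_map_eq_self_of_injective E1.subtype_injective _, index_comap]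
      rw [h1]
      exact hidx

omit [Finite Q] in
/-- An element of odd order commuting with `A` cannot be moved by an involution of `A`. -/
theorem eq_one_of_shift {a n k : Q} (ha : a * a = 1) (hk : a * k = k * a)
    (hodd : Odd (orderOf k)) (h : a * n * a⁻¹ = n * k) : k = 1 := by
  refine CfsgLib.Invol.eq_one_of_odd_of_mul_self hodd ?_
  have hka : a * k * a⁻¹ = k := by rw [hk, mul_inv_cancel_right]
  have h2 : a * (a * n * a⁻¹) * a⁻¹ = n := by
    calc a * (a * n * a⁻¹) * a⁻¹ = (a * a) * n * (a * a)⁻¹ := by group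
      _ = n := by rw [ha]; group
  rw [h, show a * (n * k) * a⁻¹ = (a * n * a⁻¹) * (a * k * a⁻¹) by group, h, hka, mul_assoc] at h2
  rw [mul_eq_left] at h2
  exact h2

/-- In a group with `O₂ = 1` every non-trivial elementary subgroup has a `Key`. -/
theorem key_exists {X : Type u} [Group X] [Finite X] (h2 : Cfsg.pCore 2 X = ⊥) (hG : HG X)
    (hKS : KS X) {A : Subgroup X} (hA : ∀ a ∈ A, a * a = 1) (hA1 : A ≠ ⊥) : Key A := by
  classical
  obtain ⟨N, R, hd⟩ := exists_chief h2 hA hA1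
  haveI := hd.nR
  set π := QuotientGroup.mk' R with hπdef
  have hπ : Function.Surjective π := QuotientGroup.mk'_surjective R
  have hker : ∀ k, π k = 1 ↔ k ∈ R := fun k => QuotientGroup.eq_one_iff k
  have hcommR : ∀ a ∈ A, ∀ k ∈ R, a * k = k * a := fun a ha k hk =>
    ((mem_centralizer_iff.1 (hd.fixed ha)) k hk).symm
  set N' := N.map π
  have hN' : MinNormal N' := by
    refine ⟨hd.nN.map π hπ, fun e => hd.moved ?_, fun K hK hKN hK1 => ?_⟩
    · have hle : N ≤ R := fun n hn => (hker n).1 ((Subgroup.map_eq_bot_iff _).1 e hn)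
      exact le_antisymm hle hd.le ▸ hd.fixed
    · rcases hd.minimal (K.comap π) (hK.comap π) (fun k hk => by
        show π k ∈ K
        rw [(hker k).2 hk]; exact one_mem K) (fun k hk => by
        obtain ⟨n, hn, hnk⟩ := hKN hk
        have : n⁻¹ * k ∈ R := (hker _).1 (by rw [map_mul, map_inv, hnk, inv_mul_cancel])
        simpa using mul_mem hn (hd.le this)) with e | e
      · refine absurd ((Subgroup.eq_bot_iff_forall _).2 fun y hy => ?_) hK1
        obtain ⟨k, rfl⟩ := hπ y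
        exact (hker k).2 (e.le hy)
      · rw [← map_comap_eq_self_of_surjective hπ K, e]
  have hA' := elem_map hA π
  have hmv : ¬ A.map π ≤ centralizer (N' : Set (X ⧸ R)) := by
    intro h
    refine hd.moved fun a ha => mem_centralizer_iff.2 fun n hn => ?_
    have h1 : π n * π a = π a * π n :=
      mem_centralizer_iff.1 (h (mem_map_of_mem π ha)) _ (mem_map_of_mem π hn)
    have hk : n⁻¹ * (a * n * a⁻¹) ∈ R := (hker _).1 (by
      simp only [map_mul, map_inv, ← h1, mul_inv_cancel_right, inv_mul_cancel])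
    have := eq_one_of_shift (hA a ha) (hcommR a ha _ hk) (hd.odd _ hk)
      (n := n) (by group)
    exact (mul_inv_eq_iff_eq_mul.1 (inv_mul_eq_one.1 this).symm).symm
  have hkey : Key (A.map π) := by
    by_cases hnc : IsMulCommutative N'
    · have hc : ∀ a ∈ N', ∀ b ∈ N', a * b = b * a := fun a ha b hb =>
        congrArg Subtype.val (hnc.is_comm.comm (⟨a, ha⟩ : N') ⟨b, hb⟩)
      refine key_abelian (hG.quotient π hπ) hA' hN'.normal hc ?_ hmv
      rintro _ ⟨n, hn, rfl⟩
      refine (hd.odd_of_comm (fun a ha b hb => (hker _).1 ?_) n hn).of_dvd_nat (orderOf_map_dvd π n)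
      simp only [map_mul, map_inv]
      rw [hc _ (mem_map_of_mem π ha) _ (mem_map_of_mem π hb), mul_inv_cancel_right, mul_inv_cancel]
    · exact key_nonabelian (hG.quotient π hπ) (hKS.of_surjective π hπ) hA' hN' hnc hmv
  obtain ⟨E0', v', c', r, m, hE0, ⟨v, hv, rfl⟩, hc', hr, hr2, hfix, hinv, hm, hidx⟩ := hkey
  obtain ⟨c₀, rfl⟩ := hπ c'
  set E0 := A ⊓ E0'.comap π with hE0d
  have hlift : ∀ e ∈ E0, e * c₀ * e⁻¹ = c₀ := by
    intro e he
    have hk : c₀⁻¹ * (e * c₀ * e⁻¹) ∈ R := (hker _).1 (by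
      have := hfix _ he.2
      simp only [map_mul, map_inv, this, inv_mul_cancel])
    have := eq_one_of_shift (hA e he.1) (hcommR e he.1 _ hk) (hd.odd _ hk) (n := c₀) (by group)
    exact (inv_mul_eq_one.1 this).symm
  set z := c₀⁻¹ * (v * c₀ * v⁻¹) with hz
  have hvi := elem_inv hA hv
  have hzv : v * z * v⁻¹ = z⁻¹ := by
    rw [hz, hvi]
    calc v * (c₀⁻¹ * (v * c₀ * v)) * v = (v * c₀⁻¹ * v) * c₀ * (v * v) := by group
      _ = (v * c₀⁻¹ * v) * c₀ := by rw [hA v hv, mul_one]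
      _ = (c₀⁻¹ * (v * c₀ * v))⁻¹ := by rw [mul_inv_rev, mul_inv_rev, mul_inv_rev, hvi, inv_inv]; group
  have hzfix : ∀ e ∈ E0, e * z * e⁻¹ = z := by
    intro e he
    have hev := elem_comm hA he.1 hv
    calc e * z * e⁻¹ = (e * c₀ * e⁻¹)⁻¹ * ((e * v) * c₀ * (e * v)⁻¹) := by rw [hz]; group
      _ = (e * c₀ * e⁻¹)⁻¹ * (v * (e * c₀ * e⁻¹) * v⁻¹) := by rw [hev]; group
      _ = z := by rw [hlift e he, hz]
  haveI := Fact.mk hr
  have hπz : orderOf (π z) = r := by
    refine orderOf_eq_prime ?_ fun e => ?_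
    · have : π z = (π c₀)⁻¹ * (π c₀)⁻¹ := by
        simp only [hz, map_mul, map_inv]
        rw [hinv]
      rw [this, (Commute.refl _).mul_pow, inv_pow, ← hc', pow_orderOf_eq_one, inv_one, one_mul]
    · have h' : (π c₀)⁻¹ * (π c₀)⁻¹ = 1 := by
        rw [← e]
        simp only [hz, map_mul, map_inv]
        rw [hinv]
      rw [← mul_inv_rev, inv_eq_one, ← pow_two] at h'
      have := (Nat.prime_dvd_prime_iff_eq hr Nat.prime_two).1 (hc' ▸ orderOf_dvd_of_pow_eq_one h')
      exact hr2 this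
  obtain ⟨d, hd'⟩ : r ∣ orderOf z := hπz ▸ orderOf_map_dvd π z
  have hd0 : d ≠ 0 := fun h => (orderOf_pos z).ne' (by rw [hd', h, mul_zero])
  refine ⟨E0, v, z ^ d, r, m, inf_le_left, hv, ?_, hr, hr2,
    fun e he => by rw [← conj_pow, hzfix e he], by rw [← conj_pow, hzv, inv_pow], hm, ?_⟩
  · rw [orderOf_pow' z hd0, hd', Nat.gcd_mul_left_left, Nat.mul_div_cancel _ (Nat.pos_of_ne_zero hd0)]
  · rw [hE0d, Subgroup.inf_relIndex_left, relIndex_comap]
    exact hidx

end CfsgLib.FourFree
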