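import Cfsg.Agent.Lib.FourFree.Sections
import Cfsg.Agent.Lib.Fusion.ZJ
import Cfsg.Agent.Lib.FourFree.TwoFactor
import Cfsg.Agent.Lib.PGroup.SmallOffenderSThree
import Cfsg.Agent.Lib.FourFree.K.Key

/-!
# Elementary subgroups of linear groups over `𝔽₂` without `S₃`: the quadratic bound

If `G` acts faithfully on the elementary `2`-group `M`, `O₂(G) = 1`, no element of order three is
inverted and the simple sections are Suzuki groups or `PSL₂(3^odd)`, then every elementary
`2`-subgroup `A` satisfies `|A|² |C_M(A)| ≤ |M|` and `|A|² ≤ |[M, A]|`.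
-/

set_option autoImplicit false
set_option linter.style.haveILetI false

open Subgroup
open CfsgLib.CFun (delt fixOf mem_fixOf card_mul_relIndex')

namespace CfsgLib.FourFree

universe u v

variable {G : Type u} {M : Type v} [Group G] [CommGroup M]

/-- The map `x ↦ ρ g x / x`. -/
def deltHom (ρ : G →* MulAut M) (g : G) : M →* M where
  toFun := delt ρ g
  map_one' := CfsgLib.CFun.delt_one_right ρ g
  map_mul' := CfsgLib.CFun.delt_mul_left ρ g

theorem deltHom_apply (ρ : G →* MulAut M) (g : G) (x : M) : deltHom ρ g x = delt ρ g x := rfl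

/-- `[P, B]`. -/
def comIn (ρ : G →* MulAut M) (P : Subgroup M) (B : Subgroup G) : Subgroup M :=
  closure {y | ∃ b ∈ B, ∃ x ∈ P, delt ρ b x = y}

theorem delt_mem_comIn {ρ : G →* MulAut M} {P : Subgroup M} {B : Subgroup G} {b : G} (hb : b ∈ B)
    {x : M} (hx : x ∈ P) : delt ρ b x ∈ comIn ρ P B :=
  subset_closure ⟨b, hb, x, hx, rfl⟩

theorem comIn_mono {ρ : G →* MulAut M} {P : Subgroup M} {B B' : Subgroup G} (h : B ≤ B') :
    comIn ρ P B ≤ comIn ρ P B' :=
  closure_mono fun _ ⟨b, hb, x, hx, e⟩ => ⟨b, h hb, x, hx, e⟩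

/-- The commutator of an invariant subgroup with an elementary group is proper. -/
theorem eq_bot_of_le_comIn [Finite G] [Finite M] (ρ : G →* MulAut M) (h2 : ∀ x : M, x * x = 1)
    (n : ℕ) : ∀ B : Subgroup G, Nat.card B = n → (∀ b ∈ B, b * b = 1) → ∀ X : Subgroup M,
      (∀ b ∈ B, ∀ x ∈ X, ρ b x ∈ X) → X ≤ comIn ρ X B → X = ⊥ := by
  induction n using Nat.strong_induction_on with
  | _ n ih =>
  intro B hn hB X hinv hX
  by_cases hbot : B = ⊥
  · refine le_bot_iff.1 (hX.trans ((closure_le _).2 ?_))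
    rintro _ ⟨b, hb, x, -, rfl⟩
    rw [hbot, mem_bot] at hb
    rw [hb, CfsgLib.CFun.delt_one]
    exact one_mem _
  obtain ⟨B', -, hB'B, hmax⟩ := exists_maximal_ge_of_wellFoundedGT (fun D : Subgroup G => D < B) ⊥
    (bot_lt_iff_ne_bot.2 hbot)
  obtain ⟨b, hb, hbB'⟩ := SetLike.exists_of_lt hB'B
  have hgen : B ≤ B' ⊔ zpowers b := by
    by_contra hne
    have hlt : B' ⊔ zpowers b < B := lt_of_le_not_ge (sup_le hB'B.le (zpowers_le.2 hb)) hne
    exact hbB' (hmax hlt le_sup_left (mem_sup_right (mem_zpowers b)))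
  have hcomm : ∀ g ∈ B, Commute g b := fun g hg => elem_comm hB hg hb
  have hdec : comIn ρ X B ≤ comIn ρ X B' ⊔ X.map (deltHom ρ b) := by
    refine (closure_le _).2 ?_
    rintro _ ⟨g, hg, x, hx, rfl⟩
    obtain ⟨g', hg', z, hz, rfl⟩ : ∃ g' ∈ B', ∃ z ∈ zpowers b, g' * z = g := by
      have hB'n : B' ≤ normalizer (zpowers b : Set G) := fun y hy =>
        centralizer_le_normalizer _ (mem_centralizer_iff.2 fun w hw => by
          obtain ⟨i, rfl⟩ := mem_zpowers_iff.1 hw
          exact ((hcomm y (hB'B.le hy)).symm.zpow_left i).eq)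
      have := hgen hg
      rw [← SetLike.mem_coe, Subgroup.coe_mul_of_left_le_normalizer_right _ _ hB'n] at this
      exact this
    have hz' : z = 1 ∨ z = b := by
      obtain ⟨i, rfl⟩ := mem_zpowers_iff.1 hz
      rcases Int.even_or_odd i with ⟨k, rfl⟩ | ⟨k, rfl⟩
      · left; rw [← two_mul, zpow_mul, zpow_two, hB b hb, one_zpow]
      · right; rw [zpow_add, zpow_mul, zpow_two, hB b hb, one_zpow, one_mul, zpow_one]
    rcases hz' with rfl | rfl
    · rw [mul_one]; exact mem_sup_left (delt_mem_comIn hg' hx)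
    · rw [CfsgLib.CFun.delt_mul, CfsgLib.CFun.delt_apply ρ g']
      have hy : delt ρ z x ∈ X := div_mem (hinv z hb x hx) hx
      exact mul_mem (mem_sup_left (delt_mem_comIn hg' hx))
        (mul_mem (mem_sup_left (delt_mem_comIn hg' hy)) (mem_sup_right (mem_map_of_mem _ hx)))
  set Y := X.map (deltHom ρ b) with hY
  have hlt : Nat.card B' < n := hn ▸ CfsgLib.Fusion.card_lt_card_of_lt hB'B
  have hY1 : Y = ⊥ := by
    refine ih _ hlt B' rfl (fun g hg => hB g (hB'B.le hg)) Y ?_ ?_
    · rintro g hg _ ⟨x, hx, rfl⟩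
      refine ⟨ρ g x, hinv g (hB'B.le hg) x hx, ?_⟩
      simp only [deltHom_apply, delt, map_div]
      rw [← MulAut.mul_apply, ← map_mul, ← (hcomm g (hB'B.le hg)).eq, map_mul, MulAut.mul_apply]
    · rintro _ ⟨x, hx, rfl⟩
      have h := mem_map_of_mem (deltHom ρ b) (hdec (hX hx))
      have hle : (comIn ρ X B' ⊔ Y).map (deltHom ρ b) ≤ comIn ρ Y B' := by
        rw [Subgroup.map_sup]
        refine sup_le ?_ ?_
        · unfold comIn
          rw [MonoidHom.map_closure, closure_le]
          rintro _ ⟨_, ⟨g, hg, x', hx', rfl⟩, rfl⟩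
          rw [deltHom_apply, ← CfsgLib.CFun.delt_comm ρ (hcomm g (hB'B.le hg))]
          exact delt_mem_comIn hg (mem_map_of_mem _ hx')
        · rintro _ ⟨_, ⟨x', -, rfl⟩, rfl⟩
          rw [deltHom_apply, deltHom_apply, CfsgLib.CFun.delt_self ρ (hB b hb) h2]
          exact one_mem _
      exact hle h
  refine ih _ hlt B' rfl (fun g hg => hB g (hB'B.le hg)) X (fun g hg => hinv g (hB'B.le hg)) ?_
  have := hX.trans hdec
  rwa [hY1, sup_bot_eq] at this

/-- An inverted element of prime order acting non-trivially has a large commutator. -/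
theorem inverted_big [Finite M] (ρ : G →* MulAut M) (h2 : ∀ x : M, x * x = 1) {v c : G} {r m : ℕ}
    (hr : r.Prime) (hr2 : r ≠ 2) (hv : v * v = 1) (hc : c ^ r = 1) (hinv : v * c * v⁻¹ = c⁻¹)
    (hm : ∀ k, 0 < k → k < m → ¬ r ∣ 2 ^ k - 1) (hne : ∃ x, ρ c x ≠ x) :
    2 ^ m ≤ Nat.card (deltHom ρ v).range ^ 2 := by
  classical
  haveI := Fact.mk hr
  set d := c * c with hd
  set R := (deltHom ρ v).range with hR
  set D := (deltHom ρ d).range with hD
  have hvi : v⁻¹ = v := inv_eq_of_mul_eq_one_right hv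
  have hdr : d ^ r = 1 := by rw [hd, (Commute.refl c).mul_pow, hc, one_mul]
  obtain ⟨j, hj⟩ : ∃ j, r = 2 * j + 1 := hr.odd_of_ne_two hr2
  have hcd : c = d ^ (j + 1) := by
    rw [hd, ← pow_two, ← pow_mul, show 2 * (j + 1) = r + 1 by omega, pow_succ, hc, one_mul]
  -- the commutator of `d` is covered by two translates of that of `v`
  have hsub : D ≤ R ⊔ R.map (ρ c⁻¹ : M ≃* M).toMonoidHom := by
    rintro _ ⟨x, rfl⟩
    have e : d = v * (c⁻¹ * v * c) := by
      calc d = (v * c * v⁻¹)⁻¹ * c := by rw [hinv, inv_inv, hd]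
        _ = v * c⁻¹ * v⁻¹ * c := by group
        _ = v * (c⁻¹ * v * c) := by rw [hvi]; group
    set w := c⁻¹ * v * c with hw
    rw [deltHom_apply, e, CfsgLib.CFun.delt_mul, CfsgLib.CFun.delt_apply ρ v]
    have h1 : delt ρ w x ∈ R.map (ρ c⁻¹ : M ≃* M).toMonoidHom := by
      refine ⟨delt ρ v (ρ c x), ⟨_, rfl⟩, ?_⟩
      show ρ c⁻¹ (delt ρ v (ρ c x)) = delt ρ w x
      simp only [delt, hw, map_div, map_mul, MulAut.mul_apply]
      rw [apply_inv_apply]
    exact mul_mem (mem_sup_left ⟨x, rfl⟩) (mul_mem (mem_sup_left ⟨_, rfl⟩) (mem_sup_right h1))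
  have hcard : Nat.card D ≤ Nat.card R ^ 2 := by
    refine (Subgroup.card_le_of_le hsub).trans ?_
    have h := card_sup_mul_inf R (R.map (ρ c⁻¹ : M ≃* M).toMonoidHom)
    rw [show Nat.card (R.map (ρ c⁻¹ : M ≃* M).toMonoidHom) = Nat.card R from
      Subgroup.card_map_of_injective (ρ c⁻¹).injective] at h
    rw [pow_two, ← h]
    exact Nat.le_mul_of_pos_right _ Nat.card_pos
  -- `d` is fixed point free on its commutator
  have hfree : ∀ y ∈ D, ρ d y = y → y = 1 := by
    rintro _ ⟨x, rfl⟩ hy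
    rw [deltHom_apply] at hy ⊢
    set y := delt ρ d x
    have hi : ∀ i : ℕ, ρ (d ^ i) x = y ^ i * x := by
      intro i
      induction i with
      | zero => simp
      | succ i ih =>
        rw [pow_succ', map_mul, MulAut.mul_apply, ih, map_mul, map_pow, hy, pow_succ, mul_assoc,
          ← CfsgLib.CFun.delt_apply]
    have h := hi r
    rw [hdr, map_one, MulAut.one_apply, right_eq_mul, hj, pow_succ, pow_mul, pow_two, h2, one_pow,
      one_mul] at h
    exact h
  have hDne : D ≠ ⊥ := by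
    intro e
    obtain ⟨x, hx⟩ := hne
    have hd1 : ∀ y, ρ d y = y := fun y => by
      have h := (Subgroup.eq_bot_iff_forall _).1 e _ ⟨y, rfl⟩
      rw [deltHom_apply] at h
      exact div_eq_one.1 h
    refine hx ?_
    rw [hcd]
    generalize j + 1 = i
    induction i with
    | zero => simp
    | succ i ih => rw [pow_succ, map_mul, MulAut.mul_apply, hd1, ih]
  -- orbits
  have hdinv : ∀ y ∈ D, ρ d y ∈ D := by
    rintro _ ⟨x, rfl⟩
    exact ⟨ρ d x, by simp only [deltHom_apply, delt, map_div]⟩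
  have hzinv : ∀ s ∈ zpowers d, ∀ y ∈ D, ρ s y ∈ D := by
    intro s hs y hy
    obtain ⟨i, rfl⟩ : ∃ i : ℕ, d ^ i = s := by
      rw [← (isOfFinOrder_iff_pow_eq_one.2 ⟨r, hr.pos, hdr⟩).mem_powers_iff_mem_zpowers] at hs
      exact hs
    induction i with
    | zero => simpa using hy
    | succ i ih =>
      rw [pow_succ', map_mul, MulAut.mul_apply]
      exact hdinv _ (ih (Subgroup.npow_mem_zpowers d i))
  letI : MulAction (zpowers d) D :=
    { smul := fun s y => ⟨ρ (s : G) y, hzinv s s.2 y y.2⟩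
      one_smul := fun y => Subtype.ext (by show ρ ((1 : zpowers d) : G) y = y; simp)
      mul_smul := fun s t y => Subtype.ext (by
        show ρ ((s * t : zpowers d) : G) y = ρ (s : G) (ρ (t : G) y)
        simp) }
  have hzp : IsPGroup r (zpowers d) := by
    rintro ⟨s, hs⟩
    obtain ⟨i, rfl⟩ := mem_zpowers_iff.1 hs
    refine ⟨1, Subtype.ext ?_⟩
    show (d ^ i) ^ (r ^ 1) = 1
    rw [pow_one, ← zpow_natCast, ← zpow_mul, mul_comm, zpow_mul, zpow_natCast, hdr, one_zpow]
  have hfix : MulAction.fixedPoints (zpowers d) D = {1} := by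
    ext y
    simp only [MulAction.mem_fixedPoints, Set.mem_singleton_iff]
    refine ⟨fun h => Subtype.ext (hfree y y.2
      (congrArg Subtype.val (h ⟨d, mem_zpowers d⟩))), ?_⟩
    rintro rfl s
    exact Subtype.ext (map_one (ρ (s : G)))
  have hmod := hzp.card_modEq_card_fixedPoints D
  rw [hfix, Nat.card_eq_fintype_card (α := ({1} : Set D)), Set.card_singleton] at hmod
  have hD2 : IsPGroup 2 D := fun y => ⟨1, Subtype.ext (by simp [pow_two, h2])⟩
  obtain ⟨k, hk⟩ := hD2.exists_card_eq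
  have hk0 : 0 < k := Nat.pos_of_ne_zero fun h => hDne (Subgroup.eq_bot_of_card_eq D (by
    rw [hk, h, pow_zero]))
  have hkm : m ≤ k := by
    by_contra hlt
    refine hm k hk0 (by omega) ?_
    rw [← hk, ← Nat.modEq_iff_dvd' Nat.card_pos]
    exact hmod.symm
  calc 2 ^ m ≤ 2 ^ k := Nat.pow_le_pow_right two_pos hkm
    _ ≤ _ := hk ▸ hcard

theorem sq_le_of_pow {a b m : ℕ} {i s : ℕ} (hi : i = 2 ^ a) (hs : s = 2 ^ b)
    (h1 : i ^ 4 ≤ 2 ^ (m + 1)) (h2 : 2 ^ m ≤ s ^ 2) : i ^ 2 ≤ s := by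
  subst hi hs
  rw [← pow_mul] at h1 h2 ⊢
  have e1 := (Nat.pow_le_pow_iff_right (by norm_num : 1 < 2)).1 h1
  have e2 := (Nat.pow_le_pow_iff_right (by norm_num : 1 < 2)).1 h2
  exact Nat.pow_le_pow_right two_pos (by omega)

/-- The quadratic bound and its dual. -/
theorem quadratic_bound [Finite G] [Finite M] (ρ : G →* MulAut M) (hρ : Function.Injective ρ)
    (h2 : ∀ x : M, x * x = 1) (hcore : Cfsg.pCore 2 G = ⊥) (hG : HG G) (hKS : KS G) (n : ℕ) :
    ∀ A : Subgroup G, Nat.card A = n → (∀ a ∈ A, a * a = 1) →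
      Nat.card A ^ 2 * Nat.card (fixOf ρ A) ≤ Nat.card M ∧
        Nat.card A ^ 2 ≤ Nat.card (comIn ρ ⊤ A) := by
  induction n using Nat.strong_induction_on with
  | _ n ih =>
  intro A hn hA
  by_cases hA1 : A = ⊥
  · subst hA1
    rw [Subgroup.card_bot, one_pow, one_mul]
    exact ⟨Nat.le_of_dvd Nat.card_pos (Subgroup.card_subgroup_dvd_card _), Nat.card_pos⟩
  haveI : Fact (Nat.Prime 2) := ⟨Nat.prime_two⟩
  obtain ⟨E0, v, c, r, m, hE0, hv, hc, hr, hr2, hfix, hinv, hm, hidx⟩ :=
    key_exists hcore hG hKS hA hA1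
  have hc1 : c ≠ 1 := fun h => by rw [h, orderOf_one] at hc; exact hr.ne_one hc.symm
  have hcc : c ^ r = 1 := hc ▸ pow_orderOf_eq_one c
  have hlt : E0 < A := lt_of_le_of_ne hE0 fun e => by
    have h1 := hfix v (e ▸ hv)
    rw [hinv] at h1
    have h2' : c ^ 2 = 1 := by rw [pow_two, ← eq_inv_iff_mul_eq_one]; exact h1.symm
    exact hr2 ((Nat.prime_dvd_prime_iff_eq hr Nat.prime_two).1 (hc ▸ orderOf_dvd_of_pow_eq_one h2'))
  obtain ⟨ihF, ihC⟩ := ih _ (hn ▸ CfsgLib.Fusion.card_lt_card_of_lt hlt) E0 rfl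
    fun a ha => hA a (hE0 ha)
  set C := centralizer (E0 : Set G) with hC
  have hvC : v ∈ C := mem_centralizer_iff.2 fun e he => elem_comm hA (hE0 he) hv
  have hcC : c ∈ C := mem_centralizer_iff.2 fun e he => mul_inv_eq_iff_eq_mul.1 (hfix e he)
  have hcomm : ∀ g ∈ C, ∀ e ∈ E0, Commute g e := fun g hg e he =>
    (mem_centralizer_iff.1 hg e he).symm
  -- the size of the index
  obtain ⟨a, ha⟩ : ∃ a, E0.relIndex A = 2 ^ a := by
    obtain ⟨k, hk⟩ := (elem_isPGroup hA).exists_card_eq
    obtain ⟨a, -, ha⟩ := (Nat.dvd_prime_pow Nat.prime_two).1 (hk ▸ relIndex_dvd_card E0 A)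
    exact ⟨a, ha⟩
  have hcardA : Nat.card A = Nat.card E0 * E0.relIndex A := (card_mul_relIndex' hE0).symm
  -- a section on which `c` acts non-trivially
  have step : ∀ P N : Subgroup M, (∀ g ∈ C, ∀ u ∈ P, ρ g u ∈ P) →
      (∀ g ∈ C, ∀ u ∈ N, ρ g u ∈ N) → (∃ x ∈ P, delt ρ c x ∉ N) →
      E0.relIndex A ^ 2 ≤ N.relIndex (P.map (deltHom ρ v)) := by
    intro P N hP hN hne
    obtain ⟨W, _, _, q, G', _, _, π, ρ', hq, hqker, hπ, hρ', hact⟩ :=
      exists_section (ρ := ρ.comp C.subtype) (P := P) (N := N) (fun g u hu => hP g g.2 u hu)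
        (fun g u hu => hN g g.2 u hu)
    have hW2 : ∀ w : W, w * w = 1 := fun w => by
      obtain ⟨x, rfl⟩ := hq w
      rw [← map_mul, show x * x = 1 from Subtype.ext (h2 x), map_one]
    have hvP : ∀ x : P, delt ρ v (x : M) ∈ P := fun x => div_mem (hP v hvC x x.2) x.2
    have hdq : ∀ (g : C) (x : P), deltHom ρ' (π g) (q x) =
        q ⟨delt ρ (g : G) x, div_mem (hP g g.2 x x.2) x.2⟩ := by
      intro g x
      rw [deltHom_apply, show delt ρ' (π g) (q x) = ρ' (π g) (q x) / q x from rfl, hact, ← map_div]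
      rfl
    have hbig := inverted_big ρ' hW2 (v := π ⟨v, hvC⟩) (c := π ⟨c, hcC⟩) hr hr2
      (by rw [← map_mul, show (⟨v, hvC⟩ : C) * ⟨v, hvC⟩ = 1 from Subtype.ext (hA v hv), map_one])
      (by rw [← map_pow, show (⟨c, hcC⟩ : C) ^ r = 1 from Subtype.ext hcc, map_one])
      (by rw [← map_inv, ← map_inv, ← map_mul, ← map_mul]; exact congrArg π (Subtype.ext hinv))
      hm (by
        obtain ⟨x, hx, hxN⟩ := hne
        refine ⟨q ⟨x, hx⟩, fun e => hxN ?_⟩
        have h := hdq ⟨c, hcC⟩ ⟨x, hx⟩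
        rw [deltHom_apply, show delt ρ' (π ⟨c, hcC⟩) (q ⟨x, hx⟩) = 1 from div_eq_one.2 e] at h
        exact (hqker _).1 h.symm)
    have hle : Nat.card (deltHom ρ' (π ⟨v, hvC⟩)).range ≤ N.relIndex (P.map (deltHom ρ v)) := by
      have hPv : P.map (deltHom ρ v) ≤ P := by
        rintro _ ⟨x, hx, rfl⟩; exact hvP ⟨x, hx⟩
      have e : (deltHom ρ' (π ⟨v, hvC⟩)).range = ((P.map (deltHom ρ v)).subgroupOf P).map q := by
        ext w
        constructor
        · rintro ⟨y, rfl⟩
          obtain ⟨x, rfl⟩ := hq y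
          exact ⟨⟨delt ρ v x, hvP x⟩, ⟨x, x.2, rfl⟩, (hdq ⟨v, hvC⟩ x).symm⟩
        · rintro ⟨y, ⟨x, hx, hxy⟩, rfl⟩
          exact ⟨q ⟨x, hx⟩, (hdq ⟨v, hvC⟩ ⟨x, hx⟩).trans (congrArg q (Subtype.ext hxy))⟩
      rw [e, ← relIndex_ker]
      refine le_of_eq ?_
      rw [show q.ker = N.subgroupOf P from Subgroup.ext fun x => hqker x, subgroupOf, relIndex_comap,
        subgroupOf_map_subtype, inf_eq_left.2 hPv]
    obtain ⟨b, hb⟩ := (IsPGroup.exists_card_eq (G := (deltHom ρ' (π ⟨v, hvC⟩)).range) (p := 2)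
      fun y => ⟨1, Subtype.ext (by simp [pow_two, hW2])⟩)
    exact (sq_le_of_pow ha hb hidx hbig).trans hle
  constructor
  · -- on the fixed points of `E0`
    set W := fixOf ρ E0 with hW
    have hWinv : ∀ g ∈ C, ∀ u ∈ W, ρ g u ∈ W := fun g hg u hu => mem_fixOf.2 fun e he => by
      rw [← MulAut.mul_apply, ← map_mul, ← (hcomm g hg e he).eq, map_mul, MulAut.mul_apply,
        mem_fixOf.1 hu e he]
    have hne : ∃ x ∈ W, delt ρ c x ∉ (⊥ : Subgroup M) := by
      by_contra h
      push Not at h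
      set X := (deltHom ρ c).range with hX
      have hXne : X ≠ ⊥ := fun e => hc1 (hρ (MulEquiv.ext fun x => by
        have := (Subgroup.eq_bot_iff_forall _).1 e _ ⟨x, rfl⟩
        rw [map_one, MulAut.one_apply]
        exact div_eq_one.1 this))
      have hXinv : E0 ≤ setFix ρ X := le_setFix fun e he y hy => by
        obtain ⟨x, rfl⟩ := hy
        refine ⟨ρ e x, ?_⟩
        simp only [deltHom_apply, delt, map_div]
        rw [← MulAut.mul_apply, ← map_mul, (hcomm c hcC e he).eq, map_mul, MulAut.mul_apply]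
      obtain ⟨y, hyX, hy1, hyW⟩ := exists_fixed h2 (elem_isPGroup fun e he => hA e (hE0 he)) hXne hXinv
      obtain ⟨x, rfl⟩ := hyX
      refine hy1 ?_
      have hcy : ρ c (delt ρ c x) = delt ρ c x := div_eq_one.1 (mem_bot.1 (h _ hyW))
      have hi : ∀ i : ℕ, ρ (c ^ i) x = delt ρ c x ^ i * x := by
        intro i
        induction i with
        | zero => simp
        | succ i ih =>
          rw [pow_succ', map_mul, MulAut.mul_apply, ih, map_mul, map_pow, hcy, pow_succ, mul_assoc,
            ← CfsgLib.CFun.delt_apply]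
      have h' := hi r
      obtain ⟨j, hj⟩ : ∃ j, r = 2 * j + 1 := hr.odd_of_ne_two hr2
      rw [hcc, map_one, MulAut.one_apply, right_eq_mul, hj, pow_succ, pow_mul, pow_two, h2, one_pow,
        one_mul] at h'
      exact h'
    have hs := step W ⊥ hWinv (fun g _ u hu => by rw [mem_bot.1 hu, map_one]; exact one_mem _) hne
    rw [relIndex_bot_left] at hs
    let f : W →* M := (deltHom ρ v).comp W.subtype
    have hfr : f.range = W.map (deltHom ρ v) := by rw [MonoidHom.range_comp, Subgroup.range_subtype]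
    have hker : Nat.card (fixOf ρ A) ≤ Nat.card f.ker := by
      have hsub : (fixOf ρ A).subgroupOf W ≤ f.ker := fun x hx =>
        div_eq_one.2 (mem_fixOf.1 hx v hv)
      have hle : fixOf ρ A ≤ W := fun x hx => mem_fixOf.2 fun e he => mem_fixOf.1 hx e (hE0 he)
      rw [← Nat.card_congr (Subgroup.subgroupOfEquivOfLe hle).toEquiv]
      exact Subgroup.card_le_of_le hsub
    have hWc : Nat.card W = Nat.card f.range * Nat.card f.ker := by
      rw [← Nat.card_congr (QuotientGroup.quotientKerEquivRange f).toEquiv,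
        ← Subgroup.card_eq_card_quotient_mul_card_subgroup]
    calc Nat.card A ^ 2 * Nat.card (fixOf ρ A)
        = Nat.card E0 ^ 2 * (E0.relIndex A ^ 2 * Nat.card (fixOf ρ A)) := by rw [hcardA]; ring
      _ ≤ Nat.card E0 ^ 2 * (Nat.card f.range * Nat.card f.ker) :=
          Nat.mul_le_mul_left _ (Nat.mul_le_mul (hfr ▸ hs) hker)
      _ = Nat.card E0 ^ 2 * Nat.card W := by rw [hWc]
      _ ≤ Nat.card M := ihF
  · -- modulo the commutator of `E0`
    set N := comIn ρ ⊤ E0 with hN
    have hNinv : ∀ g ∈ C, ∀ u ∈ N, ρ g u ∈ N := by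
      intro g hg u hu
      have h : N ≤ N.comap (ρ g : M ≃* M).toMonoidHom := (closure_le _).2 (by
        rintro _ ⟨e, he, x, -, rfl⟩
        refine subset_closure ⟨e, he, ρ g x, mem_top _, ?_⟩
        show delt ρ e (ρ g x) = ρ g (delt ρ e x)
        simp only [delt, map_div]
        rw [← MulAut.mul_apply, ← map_mul, ← (hcomm g hg e he).eq, map_mul, MulAut.mul_apply])
      exact h hu
    have hne : ∃ x ∈ (⊤ : Subgroup M), delt ρ c x ∉ N := by
      by_contra h
      push Not at h
      set f := deltHom ρ c with hf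
      set X := (f.comp f).range with hX
      -- `c` has no fixed point on its commutator, so the commutator is stable
      have hXeq : f.range ≤ X := by
        let g : f.range →* f.range := (f.comp f.range.subtype).codRestrict f.range fun x => ⟨x, rfl⟩
        have hginj : Function.Injective g := by
          rw [injective_iff_map_eq_one]
          rintro ⟨_, x, rfl⟩ hy
          refine Subtype.ext ?_
          have hcy : ρ c (delt ρ c x) = delt ρ c x := div_eq_one.1 (congrArg Subtype.val hy)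
          have hi : ∀ i : ℕ, ρ (c ^ i) x = delt ρ c x ^ i * x := by
            intro i
            induction i with
            | zero => simp
            | succ i ih =>
              rw [pow_succ', map_mul, MulAut.mul_apply, ih, map_mul, map_pow, hcy, pow_succ,
                mul_assoc, ← CfsgLib.CFun.delt_apply]
          have h' := hi r
          obtain ⟨j, hj⟩ : ∃ j, r = 2 * j + 1 := hr.odd_of_ne_two hr2
          rw [hcc, map_one, MulAut.one_apply, right_eq_mul, hj, pow_succ, pow_mul, pow_two, h2,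
            one_pow, one_mul] at h'
          exact h'
        intro y hy
        obtain ⟨⟨_, x, rfl⟩, hx⟩ := (Finite.injective_iff_surjective.1 hginj) ⟨y, hy⟩
        exact ⟨x, congrArg Subtype.val hx⟩
      have hX' : f.range ≤ comIn ρ f.range E0 := by
        refine hXeq.trans ?_
        rintro _ ⟨x, rfl⟩
        show f (f x) ∈ _
        have hle : N.map f ≤ comIn ρ f.range E0 := by
          rw [hN]; unfold comIn
          rw [MonoidHom.map_closure, closure_le]
          rintro _ ⟨_, ⟨e, he, z, -, rfl⟩, rfl⟩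
          rw [hf, deltHom_apply, CfsgLib.CFun.delt_comm ρ (hcomm c hcC e he)]
          exact subset_closure ⟨e, he, _, ⟨z, rfl⟩, rfl⟩
        exact hle (mem_map_of_mem f (h x (mem_top x)))
      have := eq_bot_of_le_comIn ρ h2 _ E0 rfl (fun e he => hA e (hE0 he)) f.range (by
        rintro e he _ ⟨x, rfl⟩
        refine ⟨ρ e x, ?_⟩
        simp only [hf, deltHom_apply, delt, map_div]
        rw [← MulAut.mul_apply, ← map_mul, (hcomm c hcC e he).eq, map_mul, MulAut.mul_apply]) hX'
      exact hc1 (hρ (MulEquiv.ext fun x => by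
        have := (Subgroup.eq_bot_iff_forall _).1 this _ ⟨x, rfl⟩
        rw [map_one, MulAut.one_apply]
        exact div_eq_one.1 this))
    have hs := step ⊤ N (fun g _ u _ => mem_top _) hNinv hne
    set R := (⊤ : Subgroup M).map (deltHom ρ v) with hR
    have hRle : R ⊔ N ≤ comIn ρ ⊤ A := sup_le (by
      rintro _ ⟨x, hx, rfl⟩; exact delt_mem_comIn hv hx) (comIn_mono hE0)
    calc Nat.card A ^ 2 = Nat.card E0 ^ 2 * E0.relIndex A ^ 2 := by rw [hcardA]; ring
      _ ≤ Nat.card N * N.relIndex R := Nat.mul_le_mul ihC hs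
      _ = Nat.card (R ⊔ N : Subgroup M) := by
        rw [← relIndex_sup_right (H := R), card_mul_relIndex' le_sup_right]
      _ ≤ _ := Subgroup.card_le_of_le hRle

/-- Without a section `S₃` no element of order three is inverted. -/
theorem hg_of_not_involves_three {X : Type u} [Group X] [Finite X]
    (h : ¬ Cfsg.Involves (Equiv.Perm (Fin 3)) X) : HG X := by
  intro a₀ x hx hax
  by_contra hx1
  obtain ⟨c, k, -, hcx⟩ := exists_two_inverting hax
  set d := c * c with hd
  have hdx : d * x * d⁻¹ = x := by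
    calc d * x * d⁻¹ = c * (c * x * c⁻¹) * c⁻¹ := by rw [hd]; group
      _ = x := by rw [hcx, ← conj_inv, hcx, inv_inv]
  set N := centralizer ({d} : Set X) with hN
  have hxN : x ∈ N := mem_centralizer_singleton_iff.2 (mul_inv_eq_iff_eq_mul.1 hdx).symm
  have hcN : c ∈ N := mem_centralizer_singleton_iff.2 (by rw [hd, mul_assoc])
  set d' : N := ⟨d, mem_centralizer_singleton_iff.2 rfl⟩
  set Z := zpowers d' with hZ
  haveI : Z.Normal := ⟨fun z hz g => by
    obtain ⟨i, rfl⟩ := mem_zpowers_iff.1 hz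
    have hc : Commute g d' := Subtype.ext (mem_centralizer_singleton_iff.1 g.2)
    rw [(hc.zpow_right i).eq, mul_inv_cancel_right]
    exact zpow_mem (mem_zpowers d') i⟩
  set φ := QuotientGroup.mk' Z
  set a : N := ⟨c, hcN⟩
  set b : N := ⟨x, hxN⟩
  have hr : φ a * φ b = (φ b)⁻¹ * φ a := by
    rw [← map_inv, ← map_mul, ← map_mul]
    refine congrArg φ (Subtype.ext ?_)
    show c * x = x⁻¹ * c
    rw [← hcx]; group
  have haa : φ a * φ a = 1 := by
    rw [← map_mul, QuotientGroup.mk'_apply, QuotientGroup.eq_one_iff]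
    exact mem_zpowers d'
  have hb3 : φ b * φ b = (φ b)⁻¹ := by
    refine eq_inv_of_mul_eq_one_left ?_
    rw [← map_mul, ← map_mul, show b * b * b = 1 from Subtype.ext (by
      show x * x * x = 1
      rw [← pow_two, ← pow_succ, hx]), map_one]
  have hbn : φ b ≠ 1 := by
    intro e
    obtain ⟨i, hi⟩ := mem_zpowers_iff.1 ((QuotientGroup.eq_one_iff b).1 e)
    have hcd : Commute c x := by
      have : x = d ^ i := (congrArg Subtype.val hi).symm
      rw [this]
      exact (show Commute c d by rw [hd]; exact (Commute.refl c).mul_right (Commute.refl c)).zpow_right i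
    rw [hcd.eq, mul_inv_cancel_right] at hcx
    refine hx1 ?_
    have h2 : x * x = 1 := eq_inv_iff_mul_eq_one.1 hcx
    rwa [pow_succ, pow_two, h2, one_mul] at hx
  have hne : φ a ≠ φ (b * a * b⁻¹) := by
    intro e
    refine hbn ?_
    have h1 : φ b * φ a = φ a * φ b := by
      conv_rhs => rw [e]
      simp only [map_mul, map_inv]; group
    rw [hr] at h1
    have h2 := mul_right_cancel h1
    rw [← hb3, right_eq_mul] at h2
    exact h2
  have hab : φ (b * a * b⁻¹) * φ a * φ (b * a * b⁻¹) = φ a * φ (b * a * b⁻¹) * φ a := by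
    have e : φ (b * a * b⁻¹) = (φ b)⁻¹ * φ a := by
      simp only [map_mul, map_inv]
      have h' : φ a * (φ b)⁻¹ = φ b * φ a := by
        have h2 := congrArg (fun w => φ b * w * (φ b)⁻¹) hr
        simp only [mul_inv_cancel_left] at h2
        rw [← h2]; group
      rw [mul_assoc, h', ← mul_assoc, hb3]
    rw [e]
    calc (φ b)⁻¹ * φ a * φ a * ((φ b)⁻¹ * φ a)
        = (φ b)⁻¹ * (φ a * φ a) * (φ b)⁻¹ * φ a := by group
      _ = ((φ b)⁻¹ * (φ b)⁻¹) * φ a := by rw [haa, mul_one]
      _ = φ b * φ a := by rw [← mul_inv_rev, hb3, inv_inv]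
      _ = φ a * (φ b)⁻¹ := by
        have h2 := congrArg (fun w => φ b * w * (φ b)⁻¹) hr
        simp only [mul_inv_cancel_left] at h2
        rw [← h2]; group
      _ = (φ a * ((φ b)⁻¹ * φ a)) * φ a := by
        rw [mul_assoc (φ a), mul_assoc _ (φ a) (φ a), haa, mul_one]
  refine h (CfsgLib.Fusion.involves_of_injective N.subtype N.subtype_injective
    (CfsgLib.SmallOffender.involves_perm_three φ a (b * a * b⁻¹) haa ?_ hab hne fun hc => hne ?_))
  · calc φ (b * a * b⁻¹) * φ (b * a * b⁻¹) = φ b * (φ a * φ a) * (φ b)⁻¹ := by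
          simp only [map_mul, map_inv]; group
      _ = 1 := by rw [haa]; group
  · have hbb : φ (b * a * b⁻¹) * φ (b * a * b⁻¹) = 1 := by
      calc φ (b * a * b⁻¹) * φ (b * a * b⁻¹) = φ b * (φ a * φ a) * (φ b)⁻¹ := by
            simp only [map_mul, map_inv]; group
        _ = 1 := by rw [haa]; group
    calc φ a = φ a * (φ (b * a * b⁻¹) * φ (b * a * b⁻¹)) := by rw [hbb, mul_one]
      _ = φ (b * a * b⁻¹) * φ a * φ (b * a * b⁻¹) := by rw [← mul_assoc, hc.eq]
      _ = φ a * φ (b * a * b⁻¹) * φ a := hab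
      _ = φ (b * a * b⁻¹) := by rw [hc.eq, mul_assoc, haa, mul_one]

end CfsgLib.FourFree
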