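import Cfsg.Agent.Lib.FourFree.Basics
import Cfsg.Agent.Lib.Coprime.Core

/-!
# A chief factor moved by an elementary `2`-subgroup, and the factors of a minimal normal subgroup

If `O₂(X) = 1` and the elementary `2`-subgroup `A` is not trivial, some normal subgroup `N` of `X`
has a central subgroup `R` of odd order, centralized by `A`, with `N / R` minimal normal in `X / R`
and moved by `A`.  A non-abelian minimal normal subgroup is generated by simple factors which
commute with each other.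
-/

set_option autoImplicit false
set_option linter.style.haveILetI false

open Subgroup
open CfsgLib.Fusion (conjBy mem_conjBy conj_mem_conjBy conjBy_le_iff conjBy_eq_iff)

namespace CfsgLib.FourFree

universe u

variable {Q : Type u} [Group Q]

section Elementary

variable {A : Subgroup Q}

theorem elem_inv (hA : ∀ a ∈ A, a * a = 1) {a : Q} (ha : a ∈ A) : a⁻¹ = a :=
  inv_eq_of_mul_eq_one_right (hA a ha)

theorem elem_comm (hA : ∀ a ∈ A, a * a = 1) {a b : Q} (ha : a ∈ A) (hb : b ∈ A) :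
    a * b = b * a := by
  rw [← elem_inv hA (mul_mem ha hb), mul_inv_rev, elem_inv hA ha, elem_inv hA hb]

theorem elem_map {Q' : Type u} [Group Q'] (hA : ∀ a ∈ A, a * a = 1) (f : Q →* Q') :
    ∀ a ∈ A.map f, a * a = 1 := by
  rintro _ ⟨a, ha, rfl⟩
  rw [← map_mul, hA a ha, map_one]

theorem elem_isPGroup (hA : ∀ a ∈ A, a * a = 1) : IsPGroup 2 A := fun a =>
  ⟨1, Subtype.ext (by
    show (a : Q) ^ (2 ^ 1) = 1
    rw [pow_one, pow_two]; exact hA a a.2)⟩

/-- Indices do not grow when a subgroup is joined to both sides inside an elementary group. -/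
theorem relIndex_sup_le [Finite Q] (hA : ∀ a ∈ A, a * a = 1) {H B Z : Subgroup Q} (hHB : H ≤ B)
    (hB : B ≤ A) (hZ : Z ≤ A) : (H ⊔ Z).relIndex (B ⊔ Z) ≤ H.relIndex B := by
  letI : CommGroup A := { mul_comm := fun a b => Subtype.ext (elem_comm hA a.2 b.2) }
  have key : ∀ U V : Subgroup Q, V ≤ A → (U.subgroupOf A).relIndex (V.subgroupOf A) = U.relIndex V := by
    intro U V hV
    show (U.comap A.subtype).relIndex (V.subgroupOf A) = _
    rw [relIndex_comap, subgroupOf_map_subtype, inf_eq_left.2 hV]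
  rw [← key _ _ (sup_le hB hZ), ← key _ _ hB, subgroupOf_sup (hHB.trans hB) hZ,
    subgroupOf_sup hB hZ]
  have hle : H.subgroupOf A ≤ B.subgroupOf A := fun x hx => hHB hx
  rw [show B.subgroupOf A ⊔ Z.subgroupOf A = B.subgroupOf A ⊔ (H.subgroupOf A ⊔ Z.subgroupOf A) by
    rw [← sup_assoc, sup_eq_left.2 hle], Subgroup.relIndex_sup_right]
  exact Nat.le_of_dvd (Nat.pos_of_ne_zero index_ne_zero_of_finite)
    (relIndex_dvd_of_le_left _ le_sup_left)

end Elementary

/-- A minimal normal subgroup. -/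
structure MinNormal (N : Subgroup Q) : Prop where
  normal : N.Normal
  ne_bot : N ≠ ⊥
  min : ∀ K : Subgroup Q, K.Normal → K ≤ N → K ≠ ⊥ → K = N

/-- A minimal subgroup among those normalized by `N` inside `N`. -/
structure IsFactor (N L : Subgroup Q) : Prop where
  le : L ≤ N
  ne_bot : L ≠ ⊥
  norm : ∀ n ∈ N, ∀ x ∈ L, n * x * n⁻¹ ∈ L
  min : ∀ K : Subgroup Q, K ≤ L → K ≠ ⊥ → (∀ n ∈ N, ∀ x ∈ K, n * x * n⁻¹ ∈ K) → K = L

namespace IsFactor

variable {N L L' : Subgroup Q}

theorem conj (hN : N.Normal) (h : IsFactor N L) (g : Q) : IsFactor N (conjBy g L) := by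
  refine ⟨conjBy_le_iff.2 fun x hx => hN.conj_mem x (h.le hx) g, fun e => h.ne_bot ?_, ?_, ?_⟩
  · refine (Subgroup.eq_bot_iff_forall _).2 fun x hx => ?_
    have := (Subgroup.eq_bot_iff_forall _).1 e _ (conj_mem_conjBy (g := g) hx)
    exact conj_eq_one_iff.1 this
  · intro n hn y hy
    rw [mem_conjBy] at hy ⊢
    have hn' : g⁻¹ * n * g ∈ N := by simpa using hN.conj_mem n hn g⁻¹
    have := h.norm _ hn' _ hy
    simpa [mul_assoc] using this
  · intro K hK hK1 hKn
    have hK' : conjBy g⁻¹ K = L := by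
      refine h.min _ (conjBy_le_iff.2 fun x hx => ?_) (fun e => hK1 ?_) fun n hn x hx => ?_
      · simpa [mul_assoc] using mem_conjBy.1 (hK hx)
      · refine (Subgroup.eq_bot_iff_forall _).2 fun x hx => ?_
        have := (Subgroup.eq_bot_iff_forall _).1 e _ (conj_mem_conjBy (g := g⁻¹) hx)
        exact conj_eq_one_iff.1 this
      · rw [mem_conjBy] at hx ⊢
        have := hKn _ (hN.conj_mem n hn g) _ hx
        simpa [mul_assoc] using this
    rw [← hK', CfsgLib.Fusion.conjBy_conjBy, mul_inv_cancel, CfsgLib.Fusion.conjBy_one]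

theorem disjoint (h : IsFactor N L) (h' : IsFactor N L') (hne : L ≠ L') : L ⊓ L' = ⊥ := by
  by_contra hb
  have hn : ∀ n ∈ N, ∀ x ∈ L ⊓ L', n * x * n⁻¹ ∈ L ⊓ L' :=
    fun n hn x hx => ⟨h.norm n hn x hx.1, h'.norm n hn x hx.2⟩
  exact hne ((h.min _ inf_le_left hb hn).symm.trans (h'.min _ inf_le_right hb hn))

theorem commute (h : IsFactor N L) (h' : IsFactor N L') (hne : L ≠ L') {x y : Q} (hx : x ∈ L)
    (hy : y ∈ L') : x * y = y * x := by
  have h1 : x * y * x⁻¹ * y⁻¹ ∈ L' := mul_mem (h'.norm x (h.le hx) y hy) (inv_mem hy)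
  have h2 : x * y * x⁻¹ * y⁻¹ ∈ L := by
    rw [show x * y * x⁻¹ * y⁻¹ = x * (y * x⁻¹ * y⁻¹) by group]
    exact mul_mem hx (h.norm y (h'.le hy) _ (inv_mem hx))
  have := (h.disjoint h' hne).le ⟨h2, h1⟩
  rw [mem_bot] at this
  exact mul_inv_eq_iff_eq_mul.1 (mul_inv_eq_one.1 this)

theorem exists_factor [Finite Q] (hN : N.Normal) (h1 : N ≠ ⊥) : ∃ L, IsFactor N L := by
  obtain ⟨L, -, ⟨hle, hne, hn⟩, hmin⟩ := exists_minimal_le_of_wellFoundedLT
    (fun L : Subgroup Q => L ≤ N ∧ L ≠ ⊥ ∧ ∀ n ∈ N, ∀ x ∈ L, n * x * n⁻¹ ∈ L) N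
    ⟨le_rfl, h1, fun n _ x hx => hN.conj_mem x hx n⟩
  exact ⟨L, hle, hne, hn, fun K hK hK1 hKn =>
    le_antisymm hK (hmin ⟨hK.trans hle, hK1, hKn⟩ hK)⟩

/-- The conjugates of a factor generate a minimal normal subgroup. -/
theorem generate (hN : MinNormal N) (h : IsFactor N L) : N = ⨆ g : Q, conjBy g L := by
  refine (hN.min _ ?_ (iSup_le fun g => (h.conj hN.normal g).le) fun e => h.ne_bot ?_).symm
  · rw [← Subgroup.normalizer_eq_top_iff, eq_top_iff]
    intro y _
    refine conjBy_eq_iff.1 ?_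
    show (⨆ g : Q, conjBy g L).map (MulAut.conj y).toMonoidHom = _
    rw [Subgroup.map_iSup]
    refine le_antisymm (iSup_le fun g => ?_) (iSup_le fun g => ?_)
    · rw [show (conjBy g L).map (MulAut.conj y).toMonoidHom = conjBy (y * g) L from
        (CfsgLib.Fusion.conjBy_conjBy y g L)]
      exact le_iSup (fun g => conjBy g L) (y * g)
    · refine le_iSup_of_le (y⁻¹ * g) (le_of_eq ?_)
      rw [show (conjBy (y⁻¹ * g) L).map (MulAut.conj y).toMonoidHom = conjBy (y * (y⁻¹ * g)) L from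
        (CfsgLib.Fusion.conjBy_conjBy y _ L), mul_inv_cancel_left]
  · have := le_iSup (fun g : Q => conjBy g L) 1
    rw [e, le_bot_iff, CfsgLib.Fusion.conjBy_one] at this
    exact this

/-- A factor of a non-abelian minimal normal subgroup is not abelian. -/
theorem not_comm (hN : MinNormal N) (hnc : ¬ IsMulCommutative N) (h : IsFactor N L) :
    ¬ ∀ x ∈ L, ∀ y ∈ L, x * y = y * x := by
  intro hc
  refine hnc ⟨⟨fun a b => Subtype.ext ?_⟩⟩
  have key : ∀ g g' : Q, conjBy g L ≤ centralizer (conjBy g' L : Set Q) := by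
    intro g g' x hx
    refine mem_centralizer_iff.2 fun y hy => ?_
    by_cases e : conjBy g' L = conjBy g L
    · have hy' : y ∈ conjBy g L := e ▸ hy
      have h1 := hc _ (mem_conjBy.1 hy') _ (mem_conjBy.1 hx)
      calc y * x = g * ((g⁻¹ * y * g) * (g⁻¹ * x * g)) * g⁻¹ := by group
        _ = g * ((g⁻¹ * x * g) * (g⁻¹ * y * g)) * g⁻¹ := by rw [h1]
        _ = x * y := by group
    · exact (h.conj hN.normal g').commute (h.conj hN.normal g) e hy hx
  have hN' : N ≤ centralizer (N : Set Q) := by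
    conv_lhs => rw [generate hN h]
    refine iSup_le fun g => Subgroup.le_centralizer_iff.1 ?_
    rw [generate hN h]
    exact iSup_le fun g' => key g' g
  exact (mem_centralizer_iff.1 (hN' b.2) a a.2)

/-- A non-abelian minimal normal subgroup has no non-trivial abelian normal subgroup. -/
theorem comm_eq_bot [Finite Q] (hN : MinNormal N) (hnc : ¬ IsMulCommutative N) {K : Subgroup Q}
    (hKN : K ≤ N) (hK : ∀ n ∈ N, ∀ x ∈ K, n * x * n⁻¹ ∈ K)
    (hKc : ∀ x ∈ K, ∀ y ∈ K, x * y = y * x) : K = ⊥ := by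
  by_contra hne
  obtain ⟨L, hLmin, ⟨hle, hne', hn⟩, hmin⟩ := exists_minimal_le_of_wellFoundedLT
    (fun L : Subgroup Q => L ≤ K ∧ L ≠ ⊥ ∧ ∀ n ∈ N, ∀ x ∈ L, n * x * n⁻¹ ∈ L) K ⟨le_rfl, hne, hK⟩
  have hL : IsFactor N L := ⟨hle.trans hKN, hne', hn, fun K' hK' hK1 hKn =>
    le_antisymm hK' (hmin ⟨hK'.trans hle, hK1, hKn⟩ hK')⟩
  exact hL.not_comm hN hnc fun x hx y hy => hKc x (hle hx) y (hle hy)

/-- The factors of a non-abelian minimal normal subgroup are simple. -/
theorem simple (hN : MinNormal N) (hnc : ¬ IsMulCommutative N) (h : IsFactor N L) :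
    IsSimpleGroup L ∧ ¬ IsMulCommutative L := by
  haveI : Nontrivial L := (Subgroup.nontrivial_iff_ne_bot L).2 h.ne_bot
  refine ⟨⟨fun K hK => ?_⟩, fun hc => h.not_comm hN hnc fun x hx y hy =>
    congrArg Subtype.val (hc.is_comm.comm (⟨x, hx⟩ : L) ⟨y, hy⟩)⟩
  by_contra hcon
  push Not at hcon
  obtain ⟨hK1, hK2⟩ := hcon
  set K' := K.map L.subtype
  have hK'L : K' ≤ L := map_subtype_le K
  have hN' : N ≤ normalizer (K' : Set Q) := by
    conv_lhs => rw [generate hN h]
    refine iSup_le fun g => ?_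
    by_cases e : conjBy g L = L
    · rw [e]
      intro x hx
      refine conjBy_eq_iff.1 (le_antisymm (conjBy_le_iff.2 ?_) ?_)
      · rintro _ ⟨k, hk, rfl⟩
        exact ⟨⟨x, hx⟩ * k * ⟨x, hx⟩⁻¹, hK.conj_mem k hk _, rfl⟩
      · rintro _ ⟨k, hk, rfl⟩
        refine mem_conjBy.2 ⟨⟨x, hx⟩⁻¹ * k * ⟨x, hx⟩, ?_, rfl⟩
        have h' := hK.conj_mem k hk ⟨x, hx⟩⁻¹
        rwa [inv_inv] at h'
    · intro x hx
      refine centralizer_le_normalizer _ (mem_centralizer_iff.2 fun y hy => ?_)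
      exact h.commute (h.conj hN.normal g) (Ne.symm e) (hK'L hy) hx
  have : K' = L := h.min K' hK'L
    (fun e => hK1 (map_eq_bot_iff_of_injective _ L.subtype_injective |>.1 e))
    fun n hn x hx => (Subgroup.mem_normalizer_iff.1 (hN' hn) x).1 hx
  refine hK2 ((Subgroup.eq_top_iff' K).2 fun x => ?_)
  obtain ⟨y, hy, hyx⟩ := this.ge x.2
  rwa [← Subtype.ext hyx]

end IsFactor

section Chief

variable {X : Type u} [Group X] [Finite X]

/-- The data of a chief factor moved by `A`. -/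
structure ChiefData (A : Subgroup X) (N R : Subgroup X) : Prop where
  nN : N.Normal
  nR : R.Normal
  le : R ≤ N
  moved : ¬ A ≤ centralizer (N : Set X)
  fixed : A ≤ centralizer (R : Set X)
  central : ∀ r ∈ R, ∀ n ∈ N, n * r = r * n
  odd : ∀ r ∈ R, Odd (orderOf r)
  minimal : ∀ K : Subgroup X, K.Normal → R ≤ K → K ≤ N → K = R ∨ K = N
  odd_of_comm : (∀ a ∈ N, ∀ b ∈ N, a * b * a⁻¹ * b⁻¹ ∈ R) → ∀ n ∈ N, Odd (orderOf n)

theorem odd_orderOf_of_sq {H : Subgroup X} (h : ∀ x ∈ H, x * x = 1 → x = 1) {x : X} (hx : x ∈ H) :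
    Odd (orderOf x) := by
  rw [← Nat.not_even_iff_odd, even_iff_two_dvd]
  rintro ⟨d, hd⟩
  have hd0 : 0 < d := Nat.pos_of_ne_zero fun e => (orderOf_pos x).ne' (by rw [hd, e, mul_zero])
  have := h _ (pow_mem hx d) (by rw [← pow_add, ← two_mul, ← hd, pow_orderOf_eq_one])
  have := Nat.le_of_dvd hd0 (orderOf_dvd_of_pow_eq_one this)
  omega

theorem sq_one_eq_one (h2 : Cfsg.pCore 2 X = ⊥) {Z : Subgroup X} [Z.Normal]
    (hZ : ∀ a ∈ Z, ∀ b ∈ Z, a * b = b * a) {x : X} (hx : x ∈ Z) (hxx : x * x = 1) : x = 1 := by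
  let W : Subgroup X :=
    { carrier := {y | y ∈ Z ∧ y * y = 1}
      one_mem' := ⟨one_mem Z, one_mul 1⟩
      mul_mem' := fun {a b} ha hb => ⟨mul_mem ha.1 hb.1, by
        calc a * b * (a * b) = a * (b * a) * b := by group
          _ = (a * a) * (b * b) := by rw [hZ b hb.1 a ha.1]; group
          _ = 1 := by rw [ha.2, hb.2, one_mul]⟩
      inv_mem' := fun {a} ha => ⟨inv_mem ha.1, by rw [← mul_inv_rev, ha.2, inv_one]⟩ }
  have hWn : W.Normal := ⟨fun w hw g => ⟨(inferInstance : Z.Normal).conj_mem w hw.1 g, by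
    calc g * w * g⁻¹ * (g * w * g⁻¹) = g * (w * w) * g⁻¹ := by group
      _ = 1 := by rw [hw.2]; group⟩⟩
  have := CfsgLib.Coprime.le_pCore (hN := hWn) (elem_isPGroup (A := W) fun w hw => hw.2)
    (show x ∈ W from ⟨hx, hxx⟩)
  rw [h2, mem_bot] at this
  exact this

theorem exists_chief (h2 : Cfsg.pCore 2 X = ⊥) {A : Subgroup X} (hA : ∀ a ∈ A, a * a = 1)
    (hA1 : A ≠ ⊥) : ∃ N R, ChiefData A N R := by
  classical
  haveI : Fact (Nat.Prime 2) := ⟨Nat.prime_two⟩
  have htop : ¬ A ≤ centralizer ((⊤ : Subgroup X) : Set X) := by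
    intro h
    refine hA1 (le_bot_iff.1 ?_)
    rw [← h2]
    have hAn : A.Normal := ⟨fun a ha g => by
      rw [← (mem_centralizer_iff.1 (h ha) g (mem_top g)).symm, mul_inv_cancel_right]; exact ha⟩
    exact CfsgLib.Coprime.le_pCore (hN := hAn) (elem_isPGroup hA)
  obtain ⟨N, -, ⟨hNn, hNA⟩, hmin⟩ := exists_minimal_le_of_wellFoundedLT
    (fun N : Subgroup X => N.Normal ∧ ¬ A ≤ centralizer (N : Set X)) ⊤ ⟨inferInstance, htop⟩
  haveI := hNn
  have hsmall : ∀ K : Subgroup X, K.Normal → K ≤ N → K ≠ N → A ≤ centralizer (K : Set X) := by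
    intro K hK hKN hne
    by_contra hc
    exact hne (le_antisymm hKN (hmin ⟨hK, hc⟩ hKN))
  set R : Subgroup X := sSup {K | K.Normal ∧ K ≤ N ∧ K ≠ N} with hR
  haveI hRn : R.Normal := Subgroup.sSup_normal _ fun K hK => hK.1
  have hRA : A ≤ centralizer (R : Set X) := by
    rw [Subgroup.le_centralizer_iff]
    exact sSup_le fun K hK => Subgroup.le_centralizer_iff.1 (hsmall K hK.1 hK.2.1 hK.2.2)
  have hRN : R ≤ N := sSup_le fun K hK => hK.2.1
  have hRne : R ≠ N := fun e => hNA (e ▸ hRA)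
  -- no element of order two in the centre of `R`
  set ZR := R ⊓ centralizer (R : Set X) with hZR
  haveI : (centralizer (R : Set X)).Normal := inferInstance
  haveI : ZR.Normal := inferInstance
  have hZc : ∀ a ∈ ZR, ∀ b ∈ ZR, a * b = b * a := fun a ha b hb =>
    mem_centralizer_iff.1 hb.2 a ha.1
  -- `N` centralizes `R`
  have hNR : N ≤ centralizer (R : Set X) := by
    by_contra hc
    have hne : N ⊓ centralizer (R : Set X) ≠ N := fun e => hc (e ▸ inf_le_right)
    have hle : N ⊓ centralizer (R : Set X) ≤ R := le_sSup ⟨inferInstance, inf_le_left, hne⟩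
    refine hNA fun a ha => mem_centralizer_iff.2 fun n hn => ?_
    have haR := mem_centralizer_iff.1 (hRA ha)
    set k := n⁻¹ * (a * n * a⁻¹) with hk
    have hkN : k ∈ N := mul_mem (inv_mem hn) (hNn.conj_mem n hn a)
    have hkC : k ∈ centralizer (R : Set X) := by
      refine mem_centralizer_iff.2 fun r hr => ?_
      have h1 : a * r = r * a := (haR r hr).symm
      have h2' : n * r * n⁻¹ ∈ R := hRn.conj_mem r hr n
      have h3 : a * (n * r * n⁻¹) = n * r * n⁻¹ * a := (haR _ h2').symm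
      have h1' : a⁻¹ * r = r * a⁻¹ := by rw [elem_inv hA ha]; exact h1
      calc r * k = n⁻¹ * ((n * r * n⁻¹) * a) * n * a⁻¹ := by rw [hk]; group
        _ = n⁻¹ * (a * (n * r * n⁻¹)) * n * a⁻¹ := by rw [h3]
        _ = n⁻¹ * a * n * (r * a⁻¹) := by group
        _ = n⁻¹ * a * n * (a⁻¹ * r) := by rw [h1']
        _ = k * r := by rw [hk]; group
    have hkR : k ∈ ZR := ⟨hle ⟨hkN, hkC⟩, hkC⟩
    have hak : a * k * a⁻¹ = k := by
      rw [← haR k hkR.1, mul_inv_cancel_right]
    have hkk : k * k = 1 := by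
      have e : a * k * a⁻¹ = k⁻¹ := by
        have h' := elem_inv hA ha
        rw [hk, h']
        calc a * (n⁻¹ * (a * n * a)) * a = (a * n⁻¹ * a) * n * (a * a) := by group
          _ = (a * n⁻¹ * a) * n := by rw [hA a ha, mul_one]
          _ = (n⁻¹ * (a * n * a))⁻¹ := by rw [mul_inv_rev, mul_inv_rev, mul_inv_rev, h', inv_inv]; group
      rw [hak] at e
      exact eq_inv_iff_mul_eq_one.1 e
    have hk1 := sq_one_eq_one h2 hZc hkR hkk
    have hna : a * n * a⁻¹ = n := by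
      rw [show a * n * a⁻¹ = n * k by rw [hk]; group, hk1, mul_one]
    exact (mul_inv_eq_iff_eq_mul.1 hna).symm
  have hcentral : ∀ r ∈ R, ∀ n ∈ N, n * r = r * n := fun r hr n hn =>
    (mem_centralizer_iff.1 (hNR hn) r hr).symm
  have hodd2 : ∀ r ∈ R, r * r = 1 → r = 1 := fun r hr hrr =>
    sq_one_eq_one h2 hZc ⟨hr, mem_centralizer_iff.2 fun s hs => hcentral r hr s (hRN hs)⟩ hrr
  refine ⟨N, R, hNn, hRn, hRN, hNA, hRA, hcentral, fun r hr => odd_orderOf_of_sq hodd2 hr,
    fun K hK hRK hKN => ?_, fun hcomm => ?_⟩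
  · by_cases e : K = N
    · exact Or.inr e
    · exact Or.inl (le_antisymm (le_sSup ⟨hK, hKN, e⟩) hRK)
  -- abelian chief factor
  · by_cases hsq : ∀ n ∈ N, n * n = 1 → n = 1
    · exact fun n hn => odd_orderOf_of_sq hsq hn
    exfalso
    push Not at hsq
    obtain ⟨x, hxN, hxx, hx1⟩ := hsq
    -- commutators with an element whose square is central have square one
    have hc1 : ∀ n ∈ N, n * n ∈ R → ∀ b ∈ N, n * b = b * n := by
      intro n hn hnn b hb
      set c := n * b * n⁻¹ * b⁻¹ with hc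
      have hcR := hcomm n hn b hb
      have hcn : n * c = c * n := hcentral c hcR n hn
      have h1 : (n * n) * b * (n * n)⁻¹ = b := by
        rw [(hcentral _ hnn b hb).symm, mul_inv_cancel_right]
      have h2' : c * c = 1 := by
        calc c * c = (n * c) * n⁻¹ * c := by rw [hcn]; group
          _ = (n * n) * b * (n * n)⁻¹ * b⁻¹ := by rw [hc]; group
          _ = 1 := by rw [h1, mul_inv_cancel]
      exact mul_inv_eq_iff_eq_mul.1 (mul_inv_eq_one.1 (hodd2 c hcR h2'))
    have hxx' : x * x ∈ R := hxx ▸ one_mem R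
    -- so `N` is abelian
    have hxc := hc1 x hxN hxx'
    let Z : Subgroup X := N ⊓ centralizer (N : Set X)
    haveI : (centralizer (N : Set X)).Normal := inferInstance
    haveI : Z.Normal := inferInstance
    exact hx1 (sq_one_eq_one h2 (Z := Z) (fun a ha b hb => mem_centralizer_iff.1 hb.2 a ha.1)
      ⟨hxN, mem_centralizer_iff.2 fun b hb => (hxc b hb).symm⟩ hxx)

end Chief

end CfsgLib.FourFree
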