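import Cfsg.Agent.Lib.FourFree.Basics
import Cfsg.Agent.Lib.Lie.Suz.Aut
import Cfsg.Agent.Lib.Lie.Suz.Sub.Fixity
import Cfsg.Agent.Lib.Char.Zsigmondy.Main
import Cfsg.Agent.Lib.Invol.Basic

/-!
# Automorphisms of order two of the listed simple groups: the facts used, and the Suzuki groups

For an elementary group `E` of automorphisms inverting no element of order three we need an element
of `E` inverting an element of prime order which has only large modules over the field with two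
elements and commutes with a large subgroup of `E`, and a conjugation separating `E` from the
`2`-subgroups it normalizes.
-/

set_option autoImplicit false
set_option linter.style.haveILetI false

open Subgroup

namespace CfsgLib.FourFree

universe u v

/-- No element of `E` inverts an element of order three. -/
def InvFree {L : Type u} [Group L] (E : Subgroup (MulAut L)) : Prop :=
  ∀ e ∈ E, ∀ x : L, x ^ 3 = 1 → e x = x⁻¹ → x = 1

/-- The facts used about a simple component. -/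
structure CompFact (L : Type u) [Group L] : Prop where
  /-- an element of prime order at least five -/
  five : ∃ x : L, (orderOf x).Prime ∧ 5 ≤ orderOf x
  /-- an inverted element with large modules -/
  key : ∀ E : Subgroup (MulAut L), (∀ e ∈ E, e * e = 1) → E ≠ ⊥ → InvFree E →
    ∃ (E0 : Subgroup (MulAut L)) (v : MulAut L) (c : L) (r m : ℕ), E0 ≤ E ∧ v ∈ E ∧
      orderOf c = r ∧ r.Prime ∧ r ≠ 2 ∧ (∀ e ∈ E0, e c = c) ∧ v c = c⁻¹ ∧
      (∀ k, 0 < k → k < m → ¬ r ∣ 2 ^ k - 1) ∧ E0.relIndex E ^ 4 ≤ 2 ^ (m + 1)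
  /-- every element of `E` moves a suitable element by more than a `2`-element -/
  gen : ∀ E : Subgroup (MulAut L), (∀ e ∈ E, e * e = 1) → InvFree E →
    ∃ x : L, (∀ k : ℕ, x ^ 2 ^ k ≠ 1) ∧ ∀ e ∈ E, e ≠ 1 → ∀ k : ℕ, (e x * x⁻¹) ^ 2 ^ k ≠ 1

theorem CompFact.of_mulEquiv {L : Type u} {L' : Type v} [Group L] [Group L'] (φ : L ≃* L')
    (h : CompFact L) :
    CompFact L' := by
  set Φ := MulAut.congr φ with hΦ
  have happ : ∀ (e : MulAut L) (y : L), Φ e (φ y) = φ (e y) := fun e y => by simp [hΦ]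
  have happ' : ∀ (e : MulAut L') (y : L), (Φ.symm e) y = φ.symm (e (φ y)) := fun e y => by simp [hΦ]
  have hconj : ∀ x : L, Φ (MulAut.conj x) = MulAut.conj (φ x) := fun x => by
    refine MulEquiv.ext fun y => ?_
    obtain ⟨y, rfl⟩ := φ.surjective y
    rw [happ, MulAut.conj_apply, MulAut.conj_apply, map_mul, map_mul, map_inv]
  obtain ⟨hfive, hkey, hgen⟩ := h
  have hpre : ∀ E : Subgroup (MulAut L'), (∀ e ∈ E, e * e = 1) →
      ∀ e ∈ E.comap Φ.toMonoidHom, e * e = 1 := fun E hE e he => Φ.injective (by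
    rw [map_mul, map_one]; exact hE _ he)
  have hfree : ∀ E : Subgroup (MulAut L'), InvFree E → InvFree (E.comap Φ.toMonoidHom) := by
    intro E hE e he x hx hex
    refine φ.injective ?_
    rw [map_one]
    exact hE _ he (φ x) (by rw [← map_pow, hx, map_one]) (by
      show Φ e (φ x) = _
      rw [happ, hex, map_inv])
  refine ⟨?_, fun E hE hE1 hEf => ?_, fun E hE hEf => ?_⟩
  · obtain ⟨x, h1, h2⟩ := hfive
    exact ⟨φ x, by rw [MulEquiv.orderOf_eq]; exact h1, by rw [MulEquiv.orderOf_eq]; exact h2⟩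
  · obtain ⟨E0, v, c, r, m, h0, hv, hc, hr, hr2, hfix, hinv, hm, hidx⟩ :=
      hkey (E.comap Φ.toMonoidHom) (hpre E hE) (fun e => hE1 ((Subgroup.eq_bot_iff_forall _).2
        fun y hy => by
          have : Φ.symm y = 1 := (Subgroup.eq_bot_iff_forall _).1 e _ (by
            show Φ (Φ.symm y) ∈ E
            rw [MulEquiv.apply_symm_apply]; exact hy)
          rw [← MulEquiv.apply_symm_apply Φ y, this, map_one])) (hfree E hEf)
    refine ⟨E0.map Φ.toMonoidHom, Φ v, φ c, r, m, ?_, hv, by rw [MulEquiv.orderOf_eq, hc], hr, hr2,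
      ?_, by rw [happ, hinv, map_inv], hm, ?_⟩
    · rintro _ ⟨e, he, rfl⟩; exact h0 he
    · rintro _ ⟨e, he, rfl⟩
      show Φ e (φ c) = φ c
      rw [happ, hfix e he]
    · have : (E0.map Φ.toMonoidHom).relIndex E = E0.relIndex (E.comap Φ.toMonoidHom) := by
        conv_lhs => rw [← map_comap_eq_self_of_surjective (f := Φ.toMonoidHom) Φ.surjective E]
        exact Subgroup.relIndex_map_map_of_injective _ _ Φ.injective
      rw [this]; exact hidx
  · obtain ⟨x, hx, hO⟩ := hgen (E.comap Φ.toMonoidHom) (hpre E hE) (hfree E hEf)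
    refine ⟨φ x, fun k hk => hx k (φ.injective (by rw [map_pow, hk, map_one])),
      fun e he he1 k hk => hO (Φ.symm e) (by
        show Φ (Φ.symm e) ∈ E
        rw [MulEquiv.apply_symm_apply]; exact he)
        (fun h => he1 (by rw [← MulEquiv.apply_symm_apply Φ e, h, map_one])) k (φ.injective ?_)⟩
    rw [map_pow, map_mul, map_inv, map_one, ← happ, MulEquiv.apply_symm_apply]
    exact hk

section Suzuki

open CfsgLib.Lie.Suz

variable {F : Type} [Field F] [Fintype F] {m : ℕ}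

/-- An automorphism of order two of a Suzuki group is inner. -/
theorem suz_inner_of_sq (hm : 1 ≤ m) (hF : Fintype.card F = 2 ^ (2 * m + 1))
    {β : MulAut (Cfsg.Sz F m)} (h : β * β = 1) :
    β ∈ (MulAut.conj : Cfsg.Sz F m →* _).range := by
  set R := (MulAut.conj : Cfsg.Sz F m →* _).range
  haveI : R.Normal := ⟨fun x hx γ => by
    obtain ⟨g, rfl⟩ := hx
    exact ⟨γ g, MulEquiv.ext fun y => by simp [MulAut.conj_apply]⟩⟩
  have hidx : R.index = 2 * m + 1 := by
    refine Nat.eq_of_mul_eq_mul_left (Nat.card_pos (α := Cfsg.Sz F m)) ?_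
    rw [← card_mulAut hm hF, ← Subgroup.card_mul_index R]
    congr 1
    exact Nat.card_congr (MonoidHom.ofInjective (conj_injective hm hF)).toEquiv
  have h1 : β ^ (2 * m + 1) ∈ R := hidx ▸ Subgroup.pow_index_mem R β
  rwa [pow_succ, pow_mul, pow_two, h, one_pow, one_mul] at h1

/-- A `2`-subgroup is conjugate into `U`, its involutions to central elements. -/
theorem suz_form (hm : 1 ≤ m) (hF : Fintype.card F = 2 ^ (2 * m + 1))
    {E : Subgroup (Cfsg.Sz F m)} (hE2 : IsPGroup 2 E) :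
    ∃ g : Cfsg.Sz F m, ∀ e ∈ E, ∃ a b, g * e * g⁻¹ = TS hF a b ∧ (e * e = 1 → a = 0) := by
  classical
  haveI : Fact (Nat.Prime 2) := ⟨Nat.prime_two⟩
  have hS := isSuzField hF
  have hq : (Nat.card (Cfsg.Sz F m)).factorization 2 = 2 * (2 * m + 1) := by
    obtain ⟨a, ha⟩ : ∃ a, 2 ^ (2 * m + 1) = 2 * a := ⟨2 ^ (2 * m), by rw [pow_succ']⟩
    have h1 : 1 ≤ 2 ^ (2 * m + 1) := Nat.one_le_two_pow
    have ho : ¬ 2 ∣ ((2 * a) ^ 2 + 1) * (2 * a - 1) := by
      rw [Nat.Prime.dvd_mul Nat.prime_two]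
      rintro (h | h)
      · rw [Nat.dvd_add_right (dvd_pow (dvd_mul_right 2 a) two_ne_zero)] at h; omega
      · omega
    rw [card_group hm hF, hF, mul_assoc, Nat.factorization_mul (by positivity)
      (fun e => ho (by rw [← ha, e]; exact dvd_zero 2)), ha, Finsupp.add_apply,
      Nat.factorization_eq_zero_of_not_dvd ho, ← ha, ← pow_mul, Nat.Prime.factorization_pow
      Nat.prime_two, Finsupp.single_eq_same, add_zero, mul_comm]
  let P : Sylow 2 (Cfsg.Sz F m) := Sylow.ofCard (U hF)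
    (by rw [card_U hF, hF, hq, ← pow_mul, mul_comm])
  obtain ⟨P', hP'⟩ := hE2.exists_le_sylow
  obtain ⟨g, hg⟩ := MulAction.exists_smul_eq (Cfsg.Sz F m) P' P
  refine ⟨g, fun e he => ?_⟩
  obtain ⟨a, b, h⟩ : g * e * g⁻¹ ∈ U hF := by
    have h1 : ((P : Subgroup (Cfsg.Sz F m))) = U hF := rfl
    rw [← h1, ← hg, Sylow.coe_subgroup_smul]
    exact Subgroup.smul_mem_pointwise_smul e (MulAut.conj g) _ (hP' he)
  have hab : g * e * g⁻¹ = TS hF a b := Subtype.ext h
  refine ⟨a, b, hab, fun hee => ?_⟩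
  have h1 : (TS hF a b : Cfsg.Sz F m) * TS hF a b = TS hF 0 0 := by
    rw [← hab, TS_zero' hF]
    calc g * e * g⁻¹ * (g * e * g⁻¹) = g * (e * e) * g⁻¹ := by group
      _ = 1 := by rw [hee]; group
  rw [TS_sq' hF] at h1
  have h2 := (Prod.ext_iff.1 (TS_injective hF (a₁ := (0, th m a * a)) (a₂ := (0, 0)) h1)).2
  rcases mul_eq_zero.1 h2 with h3 | h3
  · exact th_eq_zero hS h3
  · exact h3

/-- An elementary `2`-subgroup of a Suzuki group has order at most `q`. -/
theorem suz_elem_card_le (hm : 1 ≤ m) (hF : Fintype.card F = 2 ^ (2 * m + 1))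
    {E : Subgroup (Cfsg.Sz F m)} (hE : ∀ e ∈ E, e * e = 1) :
    Nat.card E ≤ 2 ^ (2 * m + 1) := by
  obtain ⟨g, hg⟩ := suz_form hm hF (E := E) fun e => ⟨1, Subtype.ext (by
    show (e : Cfsg.Sz F m) ^ (2 ^ 1) = 1
    rw [pow_one, pow_two]; exact hE e e.2)⟩
  choose a b hab ha0 using fun e : E => hg e e.2
  have hinj : Function.Injective b := fun e f h => Subtype.ext
    (mul_left_cancel (mul_right_cancel (show g * (e : Cfsg.Sz F m) * g⁻¹ = g * f * g⁻¹ by
      rw [hab, hab, ha0 e (hE e e.2), ha0 f (hE f f.2), h])))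
  calc Nat.card E ≤ Nat.card F := Nat.card_le_card_of_injective b hinj
    _ = _ := by rw [Nat.card_eq_fintype_card, hF]

/-- In a `2`-subgroup involutions are central. -/
theorem suz_central (hm : 1 ≤ m) (hF : Fintype.card F = 2 ^ (2 * m + 1))
    {E : Subgroup (Cfsg.Sz F m)} (hE2 : IsPGroup 2 E) {u w : Cfsg.Sz F m} (hu : u ∈ E)
    (huu : u * u = 1) (hw : w ∈ E) : u * w = w * u := by
  obtain ⟨g, hg⟩ := suz_form hm hF hE2
  obtain ⟨a, b, hab, ha⟩ := hg u hu
  obtain ⟨a', b', hab', -⟩ := hg w hw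
  have h : (TS hF 0 b : Cfsg.Sz F m) * TS hF a' b' = TS hF a' b' * TS hF 0 b :=
    Subtype.ext (T_zero_comm (isSuzField hF) a' b' b)
  rw [← ha huu, ← hab, ← hab'] at h
  refine mul_left_cancel (a := g) (mul_right_cancel (b := g⁻¹) ?_)
  calc g * (u * w) * g⁻¹ = g * u * g⁻¹ * (g * w * g⁻¹) := by group
    _ = g * w * g⁻¹ * (g * u * g⁻¹) := h
    _ = g * (w * u) * g⁻¹ := by group

/-- An involution inverts an element whose prime order is primitive for `q⁴ - 1`. -/
theorem suz_inverted (hm : 1 ≤ m) (hF : Fintype.card F = 2 ^ (2 * m + 1))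
    {v : Cfsg.Sz F m} (hv : orderOf v = 2) :
    ∃ (c : Cfsg.Sz F m) (r : ℕ), r.Prime ∧ orderOf c = r ∧ 5 ≤ r ∧ v * c * v⁻¹ = c⁻¹ ∧
      (∀ k, 0 < k → k < 4 * (2 * m + 1) → ¬ r ∣ 2 ^ k - 1) ∧
      ∀ u : Cfsg.Sz F m, u ∈ centralizer ({c} : Set (Cfsg.Sz F m)) → IsTwo u → u = 1 := by
  classical
  set n := 2 * m + 1 with hn
  obtain ⟨r, hr, hrd, hprim⟩ := CfsgLib.Char.Zsigmondy.exists_prim 2 (4 * n) (by norm_num) (by omega)
    (by omega) (by omega)
  haveI := Fact.mk hr
  have h2 : ¬ r ∣ 2 ^ (2 * n) - 1 := hprim _ (by omega) (by omega)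
  have hrn : r ∣ (2 ^ n) ^ 2 + 1 := by
    have e : 2 ^ (4 * n) - 1 = ((2 ^ n) ^ 2 + 1) * (2 ^ (2 * n) - 1) := by
      rw [← pow_mul, mul_comm n 2, show 4 * n = 2 * n * 2 by ring, pow_mul, ← one_pow 2,
        Nat.sq_sub_sq, one_pow]
    rw [e, Nat.Prime.dvd_mul hr] at hrd
    exact hrd.resolve_right h2
  have hr5 : 5 ≤ r := by
    have h3 := hr.two_le
    by_contra hlt
    have h23 : r = 2 ∨ r = 3 := by
      have : r ≠ 4 := fun e => by rw [e] at hr; norm_num at hr
      omega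
    rcases h23 with rfl | rfl
    · rw [Nat.dvd_add_right (dvd_pow (dvd_pow_self 2 (by omega : n ≠ 0)) two_ne_zero)] at hrn
      omega
    · exact hprim 2 (by omega) (by omega) (by norm_num)
  set k1 := 2 ^ n + 2 ^ (m + 1) + 1 with hk1
  set k2 := 2 ^ n - 2 ^ (m + 1) + 1 with hk2
  obtain ⟨k, hk, hrk⟩ : ∃ k, (k = k1 ∨ k = k2) ∧ r ∣ k := by
    have hle : 2 ^ (m + 1) ≤ 2 ^ n := Nat.pow_le_pow_right two_pos (by omega)
    have e : (2 ^ n) ^ 2 + 1 = k1 * k2 := by
      obtain ⟨d, hd⟩ := Nat.exists_eq_add_of_le hle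
      rw [hk1, hk2, hd, Nat.add_sub_cancel_left]
      have h2n : 2 * (2 ^ (m + 1) + d) = (2 ^ (m + 1)) ^ 2 := by
        rw [← hd, ← pow_mul, ← pow_succ']; congr 1; omega
      nlinarith
    rw [e, Nat.Prime.dvd_mul hr] at hrn
    rcases hrn with h | h
    · exact ⟨k1, Or.inl rfl, h⟩
    · exact ⟨k2, Or.inr rfl, h⟩
  obtain ⟨T, hT, hTk, hNk⟩ := exists_tori hm hF hk
  obtain ⟨z, hz⟩ := exists_prime_orderOf_dvd_card' (G := T) r (hTk ▸ hrk)
  rw [← Subgroup.orderOf_coe] at hz
  have hz1 : (z : Cfsg.Sz F m) ≠ 1 := fun e => by rw [e, orderOf_one] at hz; exact hr.ne_one hz.symm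
  have hztwo : ¬ IsTwo (z : Cfsg.Sz F m) := fun ⟨i, hi⟩ => by
    have := hz ▸ orderOf_dvd_of_pow_eq_one hi
    have := (Nat.prime_dvd_prime_iff_eq hr Nat.prime_two).1 (hr.dvd_of_dvd_pow this)
    omega
  have hTc := (torus_elt hm hF hT z.2 hz1).2
  haveI : Fact (Nat.Prime 2) := ⟨Nat.prime_two⟩
  obtain ⟨w, hw⟩ := exists_prime_orderOf_dvd_card'
    (G := normalizer (T : Set (Cfsg.Sz F m))) 2 (by rw [hNk]; exact dvd_mul_of_dvd_left (by norm_num) k)
  rw [← Subgroup.orderOf_coe] at hw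
  have hwN : (w : Cfsg.Sz F m) ∈ NC (z : Cfsg.Sz F m) := by
    show (w : Cfsg.Sz F m) ∈ normalizer _
    rw [hTc]; exact w.2
  have hinv := invol_inverts hm hF hztwo hwN hw z (by rw [hTc]; exact z.2)
  obtain ⟨g, hg⟩ := conj_invol hm hF hw hv
  refine ⟨g * z * g⁻¹, r, hr, ?_, hr5, ?_, fun k hk0 hk' => hprim k hk0 hk', fun u hu hu2 => ?_⟩
  · rw [← MulAut.conj_apply, MulEquiv.orderOf_eq, hz]
  · rw [← hg]
    calc g * (w : Cfsg.Sz F m) * g⁻¹ * (g * z * g⁻¹) * (g * (w : Cfsg.Sz F m) * g⁻¹)⁻¹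
        = g * ((w : Cfsg.Sz F m) * z * (w : Cfsg.Sz F m)⁻¹) * g⁻¹ := by group
      _ = _ := by rw [hinv]; group
  · by_contra hu1
    set u' := g⁻¹ * u * g with hu'
    have hu'c : u' ∈ centralizer ({(z : Cfsg.Sz F m)} : Set (Cfsg.Sz F m)) := by
      refine mem_centralizer_singleton_iff.2 ?_
      have := mem_centralizer_singleton_iff.1 hu
      calc u' * z = g⁻¹ * (u * (g * z * g⁻¹)) * g := by rw [hu']; group
        _ = g⁻¹ * ((g * z * g⁻¹) * u) * g := by rw [this]
        _ = z * u' := by rw [hu']; group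
    refine ((nontwo_centralizer hm hF hztwo).2 u' hu'c fun e => hu1 ?_).1 ?_
    · have : u = g * u' * g⁻¹ := by rw [hu']; group
      rw [this, e]; group
    · obtain ⟨i, hi⟩ := hu2
      refine ⟨i, ?_⟩
      rw [hu', show g⁻¹ * u * g = g⁻¹ * u * g⁻¹⁻¹ by rw [inv_inv], conj_pow, hi]
      group

theorem compFact_suz (hm : 1 ≤ m) (hF : Fintype.card F = 2 ^ (2 * m + 1)) :
    CompFact (Cfsg.Sz F m) := by
  classical
  haveI : Fact (Nat.Prime 2) := ⟨Nat.prime_two⟩
  have hS := isSuzField hF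
  have h01 : orderOf (TS hF 0 1 : Cfsg.Sz F m) = 2 := by
    refine orderOf_eq_prime ?_ (fun e => one_ne_zero (TS_inj hF (e.trans (TS_zero' hF).symm)).2)
    rw [sq, TS_sq' hF, th_zero hS, mul_zero, TS_zero' hF]
  obtain ⟨c0, r0, hr0, hc0, hr05, -, -, -⟩ := suz_inverted hm hF h01
  set ι := (MulAut.conj : Cfsg.Sz F m →* _)
  have hι : Function.Injective ι := conj_injective hm hF
  -- the inner elements of `E`
  have hlift : ∀ E : Subgroup (MulAut (Cfsg.Sz F m)), (∀ e ∈ E, e * e = 1) →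
      ∀ e ∈ E, e ≠ 1 → ∃ u, orderOf u = 2 ∧ ι u = e := by
    intro E hE e he he1
    obtain ⟨u, rfl⟩ := suz_inner_of_sq hm hF (hE e he)
    refine ⟨u, orderOf_eq_prime (hι ?_) fun h => he1 (by rw [h, map_one]), rfl⟩
    rw [map_pow, map_one, pow_two, hE _ he]
  refine ⟨⟨c0, hc0 ▸ hr0, hc0 ▸ hr05⟩, fun E hE hE1 _ => ?_, fun E hE _ => ?_⟩
  · obtain ⟨e, he, he1⟩ := (E.bot_or_exists_ne_one).resolve_left hE1
    obtain ⟨u, hu, rfl⟩ := hlift E hE e he he1
    obtain ⟨c, r, hr, hc, hr5, hinv, hk, -⟩ := suz_inverted hm hF hu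
    refine ⟨⊥, ι u, c, r, 4 * (2 * m + 1), bot_le, he, hc, hr, by omega,
      fun x hx => by rw [mem_bot.1 hx]; rfl, by rw [MulAut.conj_apply]; exact hinv, hk, ?_⟩
    rw [relIndex_bot_left]
    have hcard : Nat.card E = Nat.card (E.comap ι) := by
      rw [Nat.card_congr ((E.comap ι).equivMapOfInjective ι hι).toEquiv, map_comap_eq_self]
      intro x hx
      by_cases hx1 : x = 1
      · rw [hx1]; exact one_mem _
      · obtain ⟨y, -, hy⟩ := hlift E hE x hx hx1
        exact ⟨y, hy⟩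
    have hle := suz_elem_card_le hm hF (E := E.comap ι) fun x hx => hι (by
      rw [map_mul, map_one]; exact hE _ hx)
    rw [← hcard] at hle
    calc Nat.card E ^ 4 ≤ (2 ^ (2 * m + 1)) ^ 4 := Nat.pow_le_pow_left hle 4
      _ ≤ 2 ^ (4 * (2 * m + 1) + 1) := by
        rw [← pow_mul, mul_comm]; exact Nat.pow_le_pow_right two_pos (by omega)
  · obtain ⟨c, r, hr, hc, hr5, -, hk, hcent⟩ := suz_inverted hm hF h01
    refine ⟨c, fun k hk' => ?_, fun e he he1 k hk' => ?_⟩
    · have := hc ▸ orderOf_dvd_of_pow_eq_one hk'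
      have := (Nat.prime_dvd_prime_iff_eq hr Nat.prime_two).1 (hr.dvd_of_dvd_pow this)
      omega
    obtain ⟨u, hu, rfl⟩ := hlift E hE e he he1
    rw [MulAut.conj_apply] at hk'
    have huu : u * u = 1 := by rw [← pow_two, ← hu, pow_orderOf_eq_one]
    set u' := c * u * c⁻¹ with hu'
    have hu'o : orderOf u' = 2 := by rw [hu', ← MulAut.conj_apply, MulEquiv.orderOf_eq, hu]
    have hu'u : u' * u' = 1 := by rw [← pow_two, ← hu'o, pow_orderOf_eq_one]
    have hprod : u * u' = u * c * u⁻¹ * c⁻¹ := by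
      rw [hu', inv_eq_of_mul_eq_one_right huu]; group
    rw [← hprod] at hk'
    -- `u` and `u'` commute
    obtain ⟨i, -, hi⟩ := (Nat.dvd_prime_pow Nat.prime_two).1 (orderOf_dvd_of_pow_eq_one hk')
    have hD : IsPGroup 2 (closure ({u, u'} : Set (Cfsg.Sz F m))) := IsPGroup.of_card (n := i + 1)
      (by rw [CfsgLib.Invol.card_closure_pair hu hu'o, hi, pow_succ'])
    have hcomm : u * u' = u' * u :=
      suz_central hm hF hD (subset_closure (Or.inl rfl)) huu (subset_closure (Or.inr rfl))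
    -- so their centralizers agree
    set P := centralizer ({u} : Set (Cfsg.Sz F m)) with hP
    have hP2 : IsPGroup 2 P := IsPGroup.of_card (n := 2 * (2 * m + 1))
      (by rw [centralizer_invol hm hF hu, hF, ← pow_mul, mul_comm])
    have hu'P : u' ∈ P := mem_centralizer_singleton_iff.2 hcomm.symm
    have hle : P ≤ centralizer ({u'} : Set (Cfsg.Sz F m)) := fun w hw =>
      mem_centralizer_singleton_iff.2 (suz_central hm hF hP2 hu'P hu'u hw).symm
    have heq : P = centralizer ({u'} : Set (Cfsg.Sz F m)) := eq_of_le_of_card_ge hle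
      (by rw [centralizer_invol hm hF hu, centralizer_invol hm hF hu'o])
    have hcN : ∀ w ∈ P, c * w * c⁻¹ ∈ P := fun w hw => by
      rw [heq]
      refine mem_centralizer_singleton_iff.2 ?_
      have h := mem_centralizer_singleton_iff.1 hw
      calc c * w * c⁻¹ * u' = c * (w * u) * c⁻¹ := by rw [hu']; group
        _ = c * (u * w) * c⁻¹ := by rw [h]
        _ = u' * (c * w * c⁻¹) := by rw [hu']; group
    haveI := Fact.mk hr
    have hcN' : zpowers c ≤ normalizer (P : Set (Cfsg.Sz F m)) := zpowers_le.2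
      (CfsgLib.Fusion.conjBy_eq_iff.1 (CfsgLib.Fusion.conjBy_eq_of_le
        (CfsgLib.Fusion.conjBy_le_iff.2 hcN)))
    letI hact : MulAction (zpowers c) P :=
      { smul := fun s o => ⟨(s : Cfsg.Sz F m) * o * (s : Cfsg.Sz F m)⁻¹,
          (Subgroup.mem_normalizer_iff.1 (hcN' s.2) o).1 o.2⟩
        one_smul := fun o => Subtype.ext (by
          show ((1 : zpowers c) : Cfsg.Sz F m) * o * ((1 : zpowers c) : Cfsg.Sz F m)⁻¹ = o
          simp)
        mul_smul := fun s t o => Subtype.ext (by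
          show ((s * t : zpowers c) : Cfsg.Sz F m) * o * ((s * t : zpowers c) : Cfsg.Sz F m)⁻¹ =
            (s : Cfsg.Sz F m) * ((t : Cfsg.Sz F m) * o * (t : Cfsg.Sz F m)⁻¹) *
              (s : Cfsg.Sz F m)⁻¹
          rw [Subgroup.coe_mul]; group) }
    have hsmul : ∀ (s : zpowers c) (o : P),
        ((s • o : P) : Cfsg.Sz F m) = s * o * (s : Cfsg.Sz F m)⁻¹ := fun s o => rfl
    have hzp : IsPGroup r (zpowers c) := IsPGroup.of_card (n := 1)
      (by rw [Nat.card_zpowers, hc, pow_one])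
    have hfix : MulAction.fixedPoints (zpowers c) P = {1} := by
      ext o
      simp only [MulAction.mem_fixedPoints, Set.mem_singleton_iff]
      constructor
      · intro ho
        refine Subtype.ext (hcent o (mem_centralizer_singleton_iff.2 ?_) ?_)
        · have := congrArg Subtype.val (ho ⟨c, mem_zpowers c⟩)
          rw [hsmul] at this
          exact (mul_inv_eq_iff_eq_mul.1 this).symm
        · obtain ⟨i, hi⟩ := hP2 o
          exact ⟨i, congrArg Subtype.val hi⟩
      · rintro rfl s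
        exact Subtype.ext (by rw [hsmul]; simp)
    have hmod := hzp.card_modEq_card_fixedPoints P
    rw [hfix, Nat.card_eq_fintype_card (α := ({1} : Set P)), Set.card_singleton] at hmod
    refine hk (2 * (2 * m + 1)) (by omega) (by omega) ?_
    rw [mul_comm, pow_mul, ← hF, ← centralizer_invol hm hF hu, ← Nat.modEq_iff_dvd' Nat.card_pos]
    exact hmod.symm

end Suzuki

end CfsgLib.FourFree
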