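import Cfsg.Agent.Lib.FourFree.K.Layer
import Cfsg.Agent.Lib.FourFree.TwoFactor

/-!
# Normal subgroups of constrained groups from subgroups of `Z(J(T))`

In a constrained group without section `S₄` with listed simple sections, an elementary subgroup `A`
of the centre of `J(T)` normalized by `N(J(T))` is normal if `|R : C_R(A)|² |C_A(R)| ≤ |A|` for all
subgroups `R` of `T` inducing elementary groups on `A`.
-/

set_option autoImplicit false
set_option linter.style.haveILetI false

open Subgroup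
open CfsgLib.CFun (delt fixOf mem_fixOf card_mul_relIndex' IsOff)
open CfsgLib.Fusion (conjBy mem_conjBy conj_mem_conjBy conjBy_le_iff card_conjBy conjBy_mono
  conjBy_eq_iff maxEA)

namespace CfsgLib.FourFree

universe u

variable {Y : Type u} [Group Y] [Finite Y]

/-- The quotient by `O₂` of a constrained group without section `S₄` has `HG`. -/
theorem hg_quotient_pCore (hfree : ¬ Cfsg.Involves (Equiv.Perm (Fin 4)) Y)
    (hcon : centralizer (Cfsg.pCore 2 Y : Set Y) ≤ Cfsg.pCore 2 Y)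
    [(Cfsg.pCore 2 Y).Normal] : HG (Y ⧸ Cfsg.pCore 2 Y) := by
  haveI : Fact (Nat.Prime 2) := ⟨Nat.prime_two⟩
  set Q := Cfsg.pCore 2 Y with hQ
  have hQp : IsPGroup 2 Q := CfsgLib.Coprime.pCore_isPGroup 2
  set Φ := (frattini Q).map Q.subtype with hΦ
  haveI : Φ.Normal := inferInstance
  have hΦQ : Φ ≤ Q := map_subtype_le _
  set f := QuotientGroup.mk' Φ with hf
  set E := Q.map f with hE
  haveI hEn : E.Normal := Normal.map inferInstance _ (QuotientGroup.mk'_surjective Φ)
  have hEc : ∀ a ∈ E, ∀ b ∈ E, Commute a b := by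
    rintro _ ⟨a, ha, rfl⟩ _ ⟨b, hb, rfl⟩
    show f a * f b = f b * f a
    rw [← map_mul, ← map_mul, hf, QuotientGroup.mk'_apply, QuotientGroup.mk'_apply,
      QuotientGroup.eq]
    refine ⟨(⟨a, ha⟩ * ⟨b, hb⟩ : Q)⁻¹ * (⟨b, hb⟩ * ⟨a, ha⟩), ?_, rfl⟩
    refine CfsgLib.Coprime.commutator_le_frattini hQp ?_
    have := commutator_mem_commutator (mem_top (⟨b, hb⟩ : Q)⁻¹) (mem_top (⟨a, ha⟩ : Q)⁻¹)
    rw [commutator_def]
    convert this using 1
    rw [commutatorElement_def]; group
  letI : CommGroup E := { mul_comm := fun a b => Subtype.ext (hEc a a.2 b b.2) }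
  have hE2 : ∀ v : E, v * v = 1 := by
    rintro ⟨_, a, ha, rfl⟩
    refine Subtype.ext ?_
    show f a * f a = 1
    rw [← map_mul, hf, QuotientGroup.mk'_apply, QuotientGroup.eq_one_iff, ← pow_two]
    exact ⟨⟨a, ha⟩ ^ 2, CfsgLib.Coprime.pow_mem_frattini hQp _, rfl⟩
  let φ : Y →* MulAut E := (MulAut.conjNormal : _ →* MulAut E).comp f
  have hφ : ∀ (y : Y) (v : E), ((φ y v : E) : Y ⧸ Φ) = f y * v * (f y)⁻¹ := fun y v =>
    MulAut.conjNormal_apply (f y) v
  have hker : φ.ker = Q := by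
    refine le_antisymm (CfsgLib.Coprime.le_pCore fun y => ?_) fun q hq => ?_
    · obtain ⟨y, hy⟩ := y
      obtain ⟨e, m, hm, hem⟩ := Nat.exists_eq_two_pow_mul_odd (orderOf_pos y).ne'
      refine ⟨e, Subtype.ext ?_⟩
      show y ^ 2 ^ e = 1
      set w := y ^ 2 ^ e with hw
      have hwm : w ^ m = 1 := by rw [hw, ← pow_mul, ← hem, pow_orderOf_eq_one]
      have hwodd : Odd (Nat.card (zpowers w)) := by
        rw [Nat.card_zpowers]
        exact Odd.of_dvd_nat hm (orderOf_dvd_of_pow_eq_one hwm)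
      have hcQ : zpowers w ≤ centralizer (Q : Set Y) := by
        refine CfsgLib.Coprime.le_centralizer_of_trivial_on_frattini_quotient
          (le_top.trans (normalizer_eq_top Q).ge) ?_ fun a ha q hq => ?_
        · obtain ⟨k, hk⟩ := (hQp.to_subgroup (frattini Q)).exists_card_eq
          rw [hk]
          exact Nat.Coprime.pow_right k (Nat.coprime_two_right.2 hwodd)
        · have hk' : φ a = 1 := by
            have : zpowers w ≤ φ.ker := zpowers_le.2 (hw ▸ pow_mem hy _)
            exact this ha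
          have h := hφ a ⟨f q, mem_map_of_mem f hq⟩
          rw [hk', MulAut.one_apply] at h
          rw [← hΦ, ← QuotientGroup.eq_one_iff (N := Φ)]
          show f (a * q * a⁻¹ * q⁻¹) = 1
          rw [map_mul, map_mul, map_mul, map_inv, map_inv, ← h, mul_inv_cancel]
      obtain ⟨k, hk⟩ := hQp ⟨w, hcon (hcQ (mem_zpowers w))⟩
      exact orderOf_eq_one_iff.1 (Nat.eq_one_of_dvd_coprimes
        (Nat.Coprime.pow_right k (Nat.coprime_two_right.2 hm)) (orderOf_dvd_of_pow_eq_one hwm)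
        (orderOf_dvd_of_pow_eq_one (congrArg Subtype.val hk)))
    · refine MulEquiv.ext fun v => Subtype.ext ?_
      rw [hφ, MulAut.one_apply, (hEc _ (mem_map_of_mem f hq) v v.2).eq, mul_inv_cancel_right]
  set π : Y ⧸ Φ →* Y ⧸ Q := QuotientGroup.lift Φ (QuotientGroup.mk' Q)
    (by rw [QuotientGroup.ker_mk']; exact hΦQ) with hπ
  let e := QuotientGroup.quotientMulEquivOfEq hker.symm
  refine hg_of_not_involves (fun h => hfree (CfsgLib.Fusion.involves_of_surjective f
    (QuotientGroup.mk'_surjective Φ) h)) π ?_ (MonoidHom.id E) Function.surjective_id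
    (ρ := (QuotientGroup.kerLift φ).comp e.toMonoidHom)
    ((QuotientGroup.kerLift_injective φ).comp e.injective) hEn ?_ hEc hE2
  · intro y
    obtain ⟨x, rfl⟩ := QuotientGroup.mk'_surjective Q y
    exact ⟨f x, rfl⟩
  · intro g v
    obtain ⟨x, rfl⟩ := QuotientGroup.mk'_surjective Φ g
    exact Subtype.ext (hφ x v)

/-- `A` has codimensions at least twice the ranks of the elementary images of subgroups of `S`. -/
def DoubleImages (S A : Subgroup Y) : Prop :=
  ∀ R : Subgroup Y, R ≤ S → (∀ r ∈ R, r * r ∈ centralizer (A : Set Y)) →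
    (centralizer (A : Set Y)).relIndex R ^ 2 *
      Nat.card (A ⊓ centralizer (R : Set Y) : Subgroup Y) ≤ Nat.card A

theorem DoubleImages.mono {S S' A : Subgroup Y} (h : DoubleImages S A) (hle : S' ≤ S) :
    DoubleImages S' A := fun R hR => h R (hR.trans hle)

theorem DoubleImages.small {S A : Subgroup Y} (h : DoubleImages S A) : SmallImages S A := by
  intro R hR hR2 hne
  have h1 := h R hR fun r hr => by rw [hR2 r hr]; exact one_mem _
  set r := (centralizer (A : Set Y)).relIndex R with hr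
  set c := Nat.card (R ⊓ centralizer (A : Set Y) : Subgroup Y)
  set w := Nat.card (A ⊓ centralizer (R : Set Y) : Subgroup Y)
  have hn : Nat.card R = c * r := by
    rw [hr, ← Subgroup.inf_relIndex_left R, card_mul_relIndex' inf_le_left]
  have hr2 : 2 ≤ r := by
    by_contra hlt
    have hpos : r ≠ 0 := index_ne_zero_of_finite
    exact hne (relIndex_eq_one.1 (by omega))
  have hc : 0 < c := Nat.card_pos
  have hw : 0 < w := Nat.card_pos
  rw [hn]
  have hlt : r ^ 3 < r ^ 4 := Nat.pow_lt_pow_right (by omega) (by norm_num)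
  calc (c * r) ^ 3 * w ^ 2 = c ^ 3 * w ^ 2 * r ^ 3 := by ring
    _ < c ^ 3 * w ^ 2 * r ^ 4 := Nat.mul_lt_mul_of_pos_left hlt (by positivity)
    _ = (r ^ 2 * w) ^ 2 * c ^ 3 := by ring
    _ ≤ Nat.card A ^ 2 * c ^ 3 := Nat.mul_le_mul_right _ (Nat.pow_le_pow_left h1 2)

/-- Conjugates of `A` generate a module with the double bound. -/
theorem doubleImages_closure {G : Type u} [Group G] [Finite G] {W : Type u} [CommGroup W]
    [Finite W] (ρ : G →* MulAut W) (hρ : Function.Injective ρ) (X : Subgroup G)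
    (s : Set (Subgroup W)) (hs : sSup s = ⊤)
    (h : ∀ U ∈ s, ∀ X' : Subgroup G, X' ≤ X →
      (ptFix ρ U).relIndex X' ^ 2 * Nat.card (U ⊓ fixOf ρ X' : Subgroup W) ≤ Nat.card U) :
    Nat.card X ^ 2 * Nat.card (fixOf ρ X) ≤ Nat.card W := by
  set good : Subgroup W → Prop := fun U =>
    (ptFix ρ U).relIndex X ^ 2 * Nat.card (U ⊓ fixOf ρ X : Subgroup W) ≤ Nat.card U with hgood
  have hbot : good ⊥ := by
    have h1 : ptFix ρ (⊥ : Subgroup W) = ⊤ := (Subgroup.eq_top_iff' _).2 fun g u hu => by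
      rw [mem_bot.1 hu, map_one]
    show (ptFix ρ ⊥).relIndex X ^ 2 * _ ≤ _
    rw [h1, relIndex_top_left, one_pow, one_mul, bot_inf_eq]
  have hsup : ∀ U1 U2, good U1 → (∀ X' : Subgroup G, X' ≤ X →
      (ptFix ρ U2).relIndex X' ^ 2 * Nat.card (U2 ⊓ fixOf ρ X' : Subgroup W) ≤ Nat.card U2) →
      good (U1 ⊔ U2) := by
    intro U1 U2 g1 g2
    set U := U1 ⊔ U2 with hU
    set X2 := ptFix ρ U1 ⊓ X with hX2
    set F2 := U ⊓ fixOf ρ X2 with hF2
    have g2' := g2 X2 inf_le_right
    have hidx : (ptFix ρ U).relIndex X = (ptFix ρ U2).relIndex X2 * (ptFix ρ U1).relIndex X := by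
      rw [hX2, relIndex_inf_mul_relIndex]
      congr 1
      refine le_antisymm (le_inf (ptFix_mono le_sup_right) (ptFix_mono le_sup_left)) fun g hg => ?_
      have : zpowers g ≤ ptFix ρ U := le_ptFix_iff.2 (sup_le
        (le_ptFix_iff.1 (zpowers_le.2 hg.2)) (le_ptFix_iff.1 (zpowers_le.2 hg.1)))
      exact this (mem_zpowers g)
    have hm1 : U1 ≤ F2 := le_inf le_sup_left (le_ptFix_iff.1 inf_le_left)
    have hm2 : U ⊓ fixOf ρ X ≤ F2 := inf_le_inf_left _ fun v hv =>
      mem_fixOf.2 fun g hg => mem_fixOf.1 hv g hg.2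
    have c1 : Nat.card (U ⊓ fixOf ρ X : Subgroup W) * Nat.card U1 ≤
        Nat.card F2 * Nat.card (U1 ⊓ fixOf ρ X : Subgroup W) := by
      rw [← card_sup_mul_inf]
      refine Nat.mul_le_mul (card_le_of_le (sup_le hm2 hm1)) (card_le_of_le ?_)
      exact le_inf inf_le_right (inf_le_left.trans inf_le_right)
    have c2 : Nat.card F2 * Nat.card U2 ≤
        Nat.card U * Nat.card (U2 ⊓ fixOf ρ X2 : Subgroup W) := by
      rw [← card_sup_mul_inf]
      refine Nat.mul_le_mul (card_le_of_le (sup_le inf_le_left le_sup_right)) (card_le_of_le ?_)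
      exact le_inf inf_le_right (inf_le_left.trans inf_le_right)
    show (ptFix ρ U).relIndex X ^ 2 * _ ≤ _
    rw [hidx]
    set r1 := (ptFix ρ U1).relIndex X
    set r2 := (ptFix ρ U2).relIndex X2
    refine Nat.le_of_mul_le_mul_right ?_
      (Nat.mul_pos (Nat.card_pos (α := U1)) (Nat.card_pos (α := U2)))
    calc (r2 * r1) ^ 2 * Nat.card (U ⊓ fixOf ρ X : Subgroup W) * (Nat.card U1 * Nat.card U2)
        = (r2 * r1) ^ 2 * (Nat.card (U ⊓ fixOf ρ X : Subgroup W) * Nat.card U1) * Nat.card U2 := by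
          ring
      _ ≤ (r2 * r1) ^ 2 * (Nat.card F2 * Nat.card (U1 ⊓ fixOf ρ X : Subgroup W)) * Nat.card U2 :=
          Nat.mul_le_mul_right _ (Nat.mul_le_mul_left _ c1)
      _ = (r2 * r1) ^ 2 * Nat.card (U1 ⊓ fixOf ρ X : Subgroup W) *
            (Nat.card F2 * Nat.card U2) := by ring
      _ ≤ (r2 * r1) ^ 2 * Nat.card (U1 ⊓ fixOf ρ X : Subgroup W) *
            (Nat.card U * Nat.card (U2 ⊓ fixOf ρ X2 : Subgroup W)) := Nat.mul_le_mul_left _ c2
      _ = Nat.card U * (r1 ^ 2 * Nat.card (U1 ⊓ fixOf ρ X : Subgroup W)) *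
            (r2 ^ 2 * Nat.card (U2 ⊓ fixOf ρ X2 : Subgroup W)) := by ring
      _ ≤ Nat.card U * Nat.card U1 * Nat.card U2 :=
          Nat.mul_le_mul (Nat.mul_le_mul_left _ g1) g2'
      _ = _ := by ring
  obtain ⟨U, -, hUgood, hUmax⟩ := exists_maximal_ge_of_wellFoundedGT good ⊥ hbot
  have hUtop : U = ⊤ := by
    refine top_le_iff.1 (hs ▸ sSup_le fun U2 hU2 => ?_)
    exact le_sup_right.trans (hUmax (hsup U U2 hUgood (h U2 hU2)) le_sup_left)
  rw [hUtop] at hUgood
  have e : (ptFix ρ (⊤ : Subgroup W)).relIndex X = Nat.card X := by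
    rw [ptFix_top hρ, relIndex_bot_left]
  have hg : (ptFix ρ ⊤).relIndex X ^ 2 * Nat.card (⊤ ⊓ fixOf ρ X : Subgroup W) ≤
      Nat.card (⊤ : Subgroup W) := hUgood
  rwa [e, top_inf_eq, Subgroup.card_top] at hg

/-- A subgroup of `Z(J(T))` with the double bound, normalized by `N(J(T))`, is normal. -/
theorem normal_of_double (hfree : ¬ Cfsg.Involves (Equiv.Perm (Fin 4)) Y)
    (hcon : centralizer (Cfsg.pCore 2 Y : Set Y) ≤ Cfsg.pCore 2 Y) (hKS : KS Y) (T : Sylow 2 Y)
    {A : Subgroup Y} (hA : ∀ a ∈ A, a * a = 1) (hAT : A ≤ (T : Subgroup Y))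
    (hAJ : A ≤ centralizer ((Cfsg.thompsonSubgroupOf 2 (T : Subgroup Y) : Subgroup Y) : Set Y))
    (hAn : normalizer ((Cfsg.thompsonSubgroupOf 2 (T : Subgroup Y) : Subgroup Y) : Set Y) ≤
      normalizer (A : Set Y))
    (hdbl : DoubleImages (T : Subgroup Y) A) : A.Normal := by
  classical
  haveI : Fact (Nat.Prime 2) := ⟨Nat.prime_two⟩
  haveI hQn : (Cfsg.pCore 2 Y).Normal := CfsgLib.Coprime.pCore_normal' 2
  set Q := Cfsg.pCore 2 Y with hQdef
  have hQp : IsPGroup 2 Q := CfsgLib.Coprime.pCore_isPGroup 2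
  have hQT : Q ≤ (T : Subgroup Y) := hQp.le_sylow_of_normal T
  set J := Cfsg.thompsonSubgroupOf 2 (T : Subgroup Y) with hJ
  have hTA : (T : Subgroup Y) ≤ normalizer (A : Set Y) :=
    (le_normalizer.trans
      (CfsgLib.Fusion.normalizer_le_normalizer_thompsonSubgroupOf (p := 2) (T : Subgroup Y))).trans hAn
  have hconjA : ∀ t ∈ normalizer (A : Set Y), ∀ a ∈ A, t * a * t⁻¹ ∈ A := fun t ht a ha =>
    (Subgroup.mem_normalizer_iff.1 ht a).1 ha
  -- `A` lies in `Q`
  obtain ⟨hAQ, hcomm⟩ := le_pCore_of_smallImages hcon (hg_quotient_pCore hfree hcon)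
    (hKS.quotient Q) hA (fun q hq => hconjA q (hTA (hQT hq))) (hdbl.mono hQT).small
  set W := normalClosure (A : Set Y) with hWdef
  haveI hWn : W.Normal := normalClosure_normal
  have hAW : A ≤ W := subset_normalClosure
  have hWQ : W ≤ Q := normalClosure_le_normal hAQ
  have hWT : W ≤ (T : Subgroup Y) := hWQ.trans hQT
  have hWgen : W ≤ ⨆ g : Y, conjBy g A := by
    rw [hWdef, normalClosure, closure_le]
    intro y hy
    obtain ⟨a, ha, hay⟩ := Group.mem_conjugatesOfSet_iff.1 hy
    obtain ⟨g, rfl⟩ := isConj_iff.1 hay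
    exact mem_iSup_of_mem g (conj_mem_conjBy ha)
  have hWc : ∀ x ∈ W, ∀ y ∈ W, Commute x y := by
    have key : W ≤ centralizer (W : Set Y) := by
      refine normalClosure_le_normal ?_
      intro a ha
      refine mem_centralizer_iff.2 fun w hw => ?_
      have hle : W ≤ centralizer ({a} : Set Y) := hWgen.trans (iSup_le fun g x hx =>
        mem_centralizer_singleton_iff.2 (hcomm g a ha x hx).symm)
      exact mem_centralizer_singleton_iff.1 (hle hw)
    exact fun x hx y hy => (mem_centralizer_iff.1 (key hy) x hx)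
  letI : CommGroup W := { mul_comm := fun a b => Subtype.ext (hWc _ a.2 _ b.2) }
  have hW2' : ∀ w ∈ W, w * w = 1 := by
    let E : Subgroup Y :=
      { carrier := {e | e ∈ W ∧ e * e = 1}
        one_mem' := ⟨one_mem W, one_mul 1⟩
        mul_mem' := fun {a b} ha hb => ⟨mul_mem ha.1 hb.1, by
          rw [(hWc a ha.1 b hb.1).symm.mul_mul_mul_comm, ha.2, hb.2, one_mul]⟩
        inv_mem' := fun {a} ha => ⟨inv_mem ha.1, by rw [← mul_inv_rev, ha.2, inv_one]⟩ }
    have hle : W ≤ E := hWgen.trans (iSup_le fun g x hx => ⟨by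
        have h1 : g⁻¹ * x * g ∈ W := hAW (mem_conjBy.1 hx)
        simpa [mul_assoc] using hWn.conj_mem _ h1 g, by
        have h1 : g⁻¹ * x * g ∈ A := mem_conjBy.1 hx
        calc x * x = g * ((g⁻¹ * x * g) * (g⁻¹ * x * g)) * g⁻¹ := by group
          _ = 1 := by rw [hA _ h1]; group⟩)
    exact fun w hw => (hle hw).2
  have hW2 : ∀ w : W, w * w = 1 := fun w => Subtype.ext (hW2' w w.2)
  -- the action on `W`
  set σ : Y →* MulAut W := MulAut.conjNormal with hσ
  set π := QuotientGroup.mk' σ.ker with hπdef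
  have hπ : Function.Surjective π := QuotientGroup.mk'_surjective _
  set ρ := QuotientGroup.kerLift σ with hρdef
  have hρ : Function.Injective ρ := QuotientGroup.kerLift_injective σ
  have hact : ∀ (y : Y) (w : W), ((ρ (π y) w : W) : Y) = y * w * y⁻¹ := fun y w =>
    MulAut.conjNormal_apply y w
  have hkerW : π.ker ≤ centralizer (W : Set Y) := fun y hy => by
    refine mem_centralizer_iff.2 fun w hw => ?_
    have h := hact y ⟨w, hw⟩
    rw [MonoidHom.mem_ker.1 hy, map_one, MulAut.one_apply] at h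
    exact (mul_inv_eq_iff_eq_mul.1 h.symm).symm
  have hHG : HG (Y ⧸ σ.ker) := hg_of_not_involves hfree π hπ (MonoidHom.id W)
    Function.surjective_id hρ hWn (fun g e => Subtype.ext (hact g e)) hWc hW2
  set P := Cfsg.pCore 2 (Y ⧸ σ.ker) with hPdef
  haveI hPn : P.Normal := CfsgLib.Coprime.pCore_normal' 2
  have hPT : P ≤ (T : Subgroup Y).map π := by
    have h := (CfsgLib.Coprime.pCore_isPGroup (G := Y ⧸ σ.ker) 2).le_sylow_of_normal
      (T.mapSurjective hπ)
    simpa using h
  have hhyp : ∀ X : Subgroup (Y ⧸ σ.ker), X ≤ P → (∀ x ∈ X, x * x = 1) →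
      Nat.card X ^ 2 * Nat.card (fixOf ρ X) ≤ Nat.card W := by
    intro X hX hX2
    refine doubleImages_closure ρ hρ X (Set.range fun g : Y => (conjBy g A).subgroupOf W) ?_ ?_
    · refine (Subgroup.eq_top_iff' _).2 fun w => ?_
      have hle : (⨆ g : Y, conjBy g A) ≤
          (sSup (Set.range fun g : Y => (conjBy g A).subgroupOf W)).map W.subtype := by
        refine iSup_le fun g => ?_
        refine le_trans ?_ (map_mono (le_sSup (Set.mem_range_self g)))
        rw [map_subgroupOf_eq_of_le (conjBy_le_iff.2 fun a ha => hWn.conj_mem a (hAW ha) g)]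
      obtain ⟨v, hv, hvw⟩ := hle (hWgen w.2)
      rwa [← Subtype.ext hvw]
    rintro _ ⟨g, rfl⟩ X' hX'
    set R := (T : Subgroup Y) ⊓ (conjBy (π g)⁻¹ X').comap π with hR
    have hRsq : ∀ r ∈ R, r * r ∈ centralizer (A : Set Y) := by
      intro r hr
      refine centralizer_le (show (A : Set Y) ⊆ W from hAW) (hkerW ?_)
      rw [MonoidHom.mem_ker, map_mul]
      have h1 : (π g)⁻¹⁻¹ * π r * (π g)⁻¹ ∈ X' := mem_conjBy.1 hr.2
      have h2 := hX2 _ (hX' h1)
      calc π r * π r = (π g)⁻¹ * (((π g)⁻¹⁻¹ * π r * (π g)⁻¹) * ((π g)⁻¹⁻¹ * π r * (π g)⁻¹)) *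
            π g := by group
        _ = 1 := by rw [h2]; group
    have h1 := hdbl R inf_le_left hRsq
    set R' := conjBy g R with hR'
    have hR'X : R'.map π = X' := by
      refine le_antisymm ?_ fun x hx => ?_
      · rintro _ ⟨y, hy, rfl⟩
        have h2 : (π g)⁻¹⁻¹ * π (g⁻¹ * y * g) * (π g)⁻¹ ∈ X' :=
          mem_conjBy.1 (mem_conjBy.1 hy).2
        simpa [map_mul, map_inv, mul_assoc] using h2
      · have hxP : (π g)⁻¹ * x * π g ∈ P := by
          simpa using hPn.conj_mem x (hX (hX' hx)) (π g)⁻¹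
        obtain ⟨t, ht, htx⟩ := hPT hxP
        refine ⟨g * t * g⁻¹, conj_mem_conjBy ⟨ht, ?_⟩, ?_⟩
        · show π t ∈ conjBy (π g)⁻¹ X'
          rw [htx, mem_conjBy]
          simpa [mul_assoc] using hx
        · rw [map_mul, map_mul, map_inv, htx]; group
    set U := (conjBy g A).subgroupOf W with hUdef
    have hidx : (ptFix ρ U).relIndex X' ≤ (centralizer (A : Set Y)).relIndex R := by
      rw [← hR'X, ← relIndex_comap]
      have e : (centralizer (A : Set Y)).relIndex R =
          (centralizer ((conjBy g A : Subgroup Y) : Set Y)).relIndex R' := by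
        rw [centralizer_conjBy, hR']
        exact (relIndex_map_map_of_injective _ _ (MulAut.conj g).injective).symm
      rw [e]
      refine Subgroup.relIndex_le_of_le_left (fun y hy u hu => Subtype.ext ?_)
        index_ne_zero_of_finite
      rw [hact]
      exact mul_inv_eq_iff_eq_mul.2 (mem_centralizer_iff.1 hy u hu).symm
    have hfix : Nat.card (U ⊓ fixOf ρ X' : Subgroup W) ≤
        Nat.card (A ⊓ centralizer (R : Set Y) : Subgroup Y) := by
      rw [← Subgroup.card_map_of_injective (K := U ⊓ fixOf ρ X') W.subtype_injective,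
        ← card_conjBy g (A ⊓ centralizer (R : Set Y))]
      refine card_le_of_le ?_
      rintro _ ⟨u, ⟨hu, hufix⟩, rfl⟩
      refine mem_conjBy.2 ⟨mem_conjBy.1 hu, mem_centralizer_iff.2 fun r hr => ?_⟩
      have h2 := congrArg Subtype.val (mem_fixOf.1 hufix _
        (hR'X ▸ mem_map_of_mem π (conj_mem_conjBy (g := g) hr)))
      rw [hact] at h2
      have h3 := mul_inv_eq_iff_eq_mul.1 h2
      calc r * (g⁻¹ * (u : Y) * g) = g⁻¹ * ((g * r * g⁻¹) * u) * g := by group
        _ = g⁻¹ * (u : Y) * g * r := by rw [h3]; group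
    have hUcard : Nat.card U = Nat.card A := by
      rw [Nat.card_congr (Subgroup.subgroupOfEquivOfLe
        (conjBy_le_iff.2 fun a ha => hWn.conj_mem a (hAW ha) g)).toEquiv, card_conjBy]
    rw [hUcard]
    exact (Nat.mul_le_mul (Nat.pow_le_pow_left hidx 2) hfix).trans h1
  -- the large elementary subgroups centralize `W`
  have hmax : ∀ B ∈ maxEA 2 (T : Subgroup Y), B ≤ π.ker := by
    intro B hB
    have hB2 : ∀ b ∈ B, b * b = 1 := fun b hb => by rw [← pow_two]; exact hB.2.1.2 b hb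
    have hoff : IsOff ρ (B.map π) := by
      have hrep := ((CfsgLib.CFun.abFam_maxEA (T : Subgroup Y)).rep B hB (B ⊓ π.ker) inf_le_left W
        hWT hW2' fun b hb w hw => (mem_centralizer_iff.1 (hkerW hb.2) w hw).symm).1
      have h1 := (card_mul_card_le (B ⊓ π.ker) W).trans (Nat.mul_le_mul_right _ hrep)
      have h2 : Nat.card (B ⊓ π.ker ⊓ W : Subgroup Y) ≤ Nat.card (fixOf ρ (B.map π)) := by
        refine (card_le_of_le (inf_le_inf_right W inf_le_left)).trans ?_
        rw [← Subgroup.card_map_of_injective (K := fixOf ρ (B.map π)) W.subtype_injective]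
        refine card_le_of_le fun z hz => ⟨⟨z, hz.2⟩, mem_fixOf.2 ?_, rfl⟩
        rintro _ ⟨b, hb, rfl⟩
        refine Subtype.ext ?_
        rw [hact]
        exact mul_inv_eq_iff_eq_mul.2 (elem_comm hB2 hb hz.1)
      unfold IsOff
      refine Nat.le_of_mul_le_mul_left ?_ (Nat.card_pos (α := (B ⊓ π.ker : Subgroup Y)))
      calc Nat.card (B ⊓ π.ker : Subgroup Y) * Nat.card W
          ≤ Nat.card B * Nat.card (B ⊓ π.ker ⊓ W : Subgroup Y) := h1
        _ ≤ Nat.card B * Nat.card (fixOf ρ (B.map π)) := Nat.mul_le_mul_left _ h2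
        _ = _ := by rw [card_inf_ker_mul π B, mul_assoc]
    exact (Subgroup.map_eq_bot_iff _).1 (tight_offender_eq_bot hρ hW2 hHG
      (hKS.of_surjective π hπ) hhyp (elem_map hB2 π) hoff)
  refine normalizer_eq_top_iff.1 (top_le_iff.1 fun g _ => ?_)
  set C := π.ker with hC
  haveI : C.Normal := π.normal_ker
  set S1 := (T : Subgroup Y) ⊓ C with hS1
  obtain ⟨c, hc, hcg⟩ := frattini_rel (S := S1) (L := ⊤) (T.2.to_le inf_le_left) inf_le_right
    (CfsgLib.Fusion.not_dvd_relIndex_inf_of_normal T C)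
    (fun g _ y hy => (inferInstance : C.Normal).conj_mem y hy g) (mem_top g)
  have hcgJ : c * g ∈ normalizer (J : Set Y) := by
    refine conjBy_eq_iff.1 (CfsgLib.Fusion.conjBy_eq_of_le ?_)
    rw [hJ, CfsgLib.Fusion.thompsonSubgroupOf_eq, conjBy, map_le_iff_le_comap]
    refine sSup_le fun B hB => map_le_iff_le_comap.1 ?_
    have hle : conjBy (c * g) B ≤ S1 :=
      (conjBy_mono (le_inf hB.1 (hmax B hB))).trans (conjBy_eq_iff.2 hcg).le
    exact le_sSup ((CfsgLib.CFun.abFam_maxEA (T : Subgroup Y)).conj B hB _ (hle.trans inf_le_left))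
  have hcA : c ∈ normalizer (A : Set Y) :=
    centralizer_le_normalizer _ (centralizer_le (show (A : Set Y) ⊆ W from hAW) (hkerW hc))
  simpa using mul_mem (inv_mem hcA) (hAn hcgJ)

end CfsgLib.FourFree
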