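import Cfsg.Agent.Lib.FourFree.K.EGroups

/-!
# Subgroups with codimensions above three halves of the ranks of elementary images

The property passes to the subgroup generated by several such subgroups.
-/

set_option autoImplicit false
set_option linter.style.haveILetI false

open Subgroup
open CfsgLib.CFun (card_mul_relIndex')
open CfsgLib.Fusion (conjBy mem_conjBy conj_mem_conjBy conjBy_le_iff card_conjBy)

namespace CfsgLib.FourFree

universe u

variable {G : Type u} [Group G] [Finite G]

/-- `A` has codimensions above three halves of the ranks of the elementary images of subgroups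
of `S`. -/
def CubeImages (S A : Subgroup G) : Prop :=
  ∀ R : Subgroup G, R ≤ S → (∀ r ∈ R, r * r ∈ centralizer (A : Set G)) →
    ¬ R ≤ centralizer (A : Set G) →
      (centralizer (A : Set G)).relIndex R ^ 3 *
        Nat.card (A ⊓ centralizer (R : Set G) : Subgroup G) ^ 2 < Nat.card A ^ 2

theorem card_eq_inf_mul_relIndex (C R : Subgroup G) :
    Nat.card R = Nat.card (R ⊓ C : Subgroup G) * C.relIndex R := by
  rw [← Subgroup.inf_relIndex_left R C, card_mul_relIndex' inf_le_left]

theorem CubeImages.mono {S S' A : Subgroup G} (h : CubeImages S A) (hle : S' ≤ S) :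
    CubeImages S' A := fun R hR => h R (hR.trans hle)

theorem EProp.cube {U V S : Subgroup G} (h : EProp U V) (hS : S ≤ U) : CubeImages S V := by
  intro R hR hR2 hne
  obtain ⟨h1, -⟩ := h.2.2.2 R (hR.trans hS) hR2 hne
  rw [card_eq_inf_mul_relIndex (centralizer (V : Set G)) R] at h1
  refine Nat.lt_of_mul_lt_mul_left
    (a := Nat.card (R ⊓ centralizer (V : Set G) : Subgroup G) ^ 3) ?_
  calc Nat.card (R ⊓ centralizer (V : Set G) : Subgroup G) ^ 3 *
        ((centralizer (V : Set G)).relIndex R ^ 3 *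
          Nat.card (V ⊓ centralizer (R : Set G) : Subgroup G) ^ 2)
      = (Nat.card (R ⊓ centralizer (V : Set G) : Subgroup G) *
          (centralizer (V : Set G)).relIndex R) ^ 3 *
          Nat.card (V ⊓ centralizer (R : Set G) : Subgroup G) ^ 2 := by ring
    _ < _ := h1
    _ = _ := by ring

theorem CubeImages.small {S A : Subgroup G} (h : CubeImages S A) : SmallImages S A := by
  intro R hR hR2 hne
  have h1 := h R hR (fun r hr => by rw [hR2 r hr]; exact one_mem _) hne
  set c := Nat.card (R ⊓ centralizer (A : Set G) : Subgroup G) with hc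
  set w := Nat.card (A ⊓ centralizer (R : Set G) : Subgroup G)
  set r := (centralizer (A : Set G)).relIndex R
  rw [card_eq_inf_mul_relIndex (centralizer (A : Set G)) R, ← hc]
  have hcpos : 0 < c := Nat.card_pos
  calc (c * r) ^ 3 * w ^ 2 = r ^ 3 * w ^ 2 * c ^ 3 := by ring
    _ < Nat.card A ^ 2 * c ^ 3 := Nat.mul_lt_mul_of_pos_right h1 (by positivity)

theorem CubeImages.conj {S A : Subgroup G} (h : CubeImages S A) {g : G}
    (hg : g ∈ normalizer (S : Set G)) : CubeImages S (conjBy g A) := by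
  intro R hR hR2 hne
  set R' := conjBy g⁻¹ R with hR'
  have e : R = conjBy g R' := (CfsgLib.Fusion.conjBy_conjBy_inv g R).symm
  have hmem : ∀ r ∈ R', g * r * g⁻¹ ∈ R := fun r hr => by
    rw [e]; exact conj_mem_conjBy hr
  have h1 := h R' (fun r hr => by
    have := (Subgroup.mem_normalizer_iff.1 hg r).2 (hR (hmem r hr))
    exact this) (fun r hr => by
    have h2 := hR2 _ (hmem r hr)
    rw [centralizer_conjBy, mem_conjBy] at h2
    convert h2 using 1
    group) (fun hle => hne (by
    rw [e, centralizer_conjBy]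
    exact CfsgLib.Fusion.conjBy_mono hle))
  rw [e, centralizer_conjBy, centralizer_conjBy, card_conjBy, card_conjBy_inf]
  rwa [show (conjBy g (centralizer (A : Set G))).relIndex (conjBy g R') =
    (centralizer (A : Set G)).relIndex R' from
      relIndex_map_map_of_injective _ _ (MulAut.conj g).injective]

theorem cubeImages_sSup {S : Subgroup G} (s : Set (Subgroup G))
    (h : ∀ A ∈ s, CubeImages S A) : CubeImages S (sSup s) := by
  have hbot : CubeImages S (⊥ : Subgroup G) := by
    intro R _ _ hne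
    exact absurd (fun r _ => mem_centralizer_iff.2 fun a ha => by
      rw [SetLike.mem_coe, mem_bot] at ha
      rw [ha, one_mul, mul_one]) hne
  have hsup : ∀ A1 A2 : Subgroup G, CubeImages S A1 → CubeImages S A2 →
      CubeImages S (A1 ⊔ A2) := by
    intro A1 A2 g1 g2 R hR hR2 hne
    set A := A1 ⊔ A2 with hA
    set C1 := centralizer (A1 : Set G) with hC1
    set C2 := centralizer (A2 : Set G) with hC2
    have hC : centralizer (A : Set G) = C1 ⊓ C2 := by
      refine le_antisymm (le_inf (centralizer_le (le_sup_left : A1 ≤ A))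
        (centralizer_le (le_sup_right : A2 ≤ A))) fun x hx => mem_centralizer_iff.2 fun a ha => ?_
      have hle : A ≤ centralizer ({x} : Set G) := sup_le
        (fun b hb => mem_centralizer_singleton_iff.2 (mem_centralizer_iff.1 hx.1 b hb))
        (fun b hb => mem_centralizer_singleton_iff.2 (mem_centralizer_iff.1 hx.2 b hb))
      exact mem_centralizer_singleton_iff.1 (hle ha)
    rw [hC] at hR2 hne ⊢
    set R2 := C1 ⊓ R with hR2def
    have hidx : (C1 ⊓ C2).relIndex R = C2.relIndex R2 * C1.relIndex R := by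
      rw [hR2def, relIndex_inf_mul_relIndex, inf_comm]
    set F2 := A ⊓ centralizer (R2 : Set G) with hF2
    have hm1 : A1 ≤ F2 := le_inf le_sup_left fun a ha => mem_centralizer_iff.2 fun r hr =>
      (mem_centralizer_iff.1 hr.1 a ha).symm
    have hm2 : A ⊓ centralizer (R : Set G) ≤ F2 :=
      inf_le_inf_left _ (centralizer_le (inf_le_right : R2 ≤ R))
    set w := Nat.card (A ⊓ centralizer (R : Set G) : Subgroup G)
    set w1 := Nat.card (A1 ⊓ centralizer (R : Set G) : Subgroup G) with hw1
    set w2 := Nat.card (A2 ⊓ centralizer (R2 : Set G) : Subgroup G) with hw2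
    have c1 : w * Nat.card A1 ≤ Nat.card F2 * w1 := by
      refine (card_mul_card_le _ _).trans ?_
      refine Nat.mul_le_mul (card_le_of_le (sup_le hm2 hm1)) (card_le_of_le ?_)
      exact le_inf inf_le_right (inf_le_left.trans inf_le_right)
    have c2 : Nat.card F2 * Nat.card A2 ≤ Nat.card A * w2 := by
      refine (card_mul_card_le _ _).trans ?_
      refine Nat.mul_le_mul (card_le_of_le (sup_le inf_le_left le_sup_right)) (card_le_of_le ?_)
      exact le_inf inf_le_right (inf_le_left.trans inf_le_right)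
    have cw : w * Nat.card A1 * Nat.card A2 ≤ Nat.card A * (w1 * w2) := by
      calc w * Nat.card A1 * Nat.card A2 ≤ Nat.card F2 * w1 * Nat.card A2 :=
            Nat.mul_le_mul_right _ c1
        _ = Nat.card F2 * Nat.card A2 * w1 := by ring
        _ ≤ Nat.card A * w2 * w1 := Nat.mul_le_mul_right _ c2
        _ = _ := by ring
    set r1 := C1.relIndex R
    set r2 := C2.relIndex R2
    have e1 : r1 ^ 3 * w1 ^ 2 ≤ Nat.card A1 ^ 2 ∧
        (¬ R ≤ C1 → r1 ^ 3 * w1 ^ 2 < Nat.card A1 ^ 2) := by
      by_cases hle : R ≤ C1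
      · refine ⟨?_, fun hn => absurd hle hn⟩
        rw [show r1 = 1 from relIndex_eq_one.2 hle, one_pow, one_mul]
        exact Nat.pow_le_pow_left (card_le_of_le inf_le_left) 2
      · exact ⟨(g1 R hR (fun r hr => (hR2 r hr).1) hle).le,
          fun _ => g1 R hR (fun r hr => (hR2 r hr).1) hle⟩
    have e2 : r2 ^ 3 * w2 ^ 2 ≤ Nat.card A2 ^ 2 ∧
        (¬ R2 ≤ C2 → r2 ^ 3 * w2 ^ 2 < Nat.card A2 ^ 2) := by
      by_cases hle : R2 ≤ C2
      · refine ⟨?_, fun hn => absurd hle hn⟩
        rw [show r2 = 1 from relIndex_eq_one.2 hle, one_pow, one_mul]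
        exact Nat.pow_le_pow_left (card_le_of_le inf_le_left) 2
      · exact ⟨(g2 R2 (inf_le_right.trans hR) (fun r hr => (hR2 r hr.2).2) hle).le,
          fun _ => g2 R2 (inf_le_right.trans hR) (fun r hr => (hR2 r hr.2).2) hle⟩
    have hlt : r1 ^ 3 * w1 ^ 2 * (r2 ^ 3 * w2 ^ 2) < Nat.card A1 ^ 2 * Nat.card A2 ^ 2 := by
      have p1 : 0 < Nat.card A1 ^ 2 := pow_pos Nat.card_pos 2
      have p2 : 0 < Nat.card A2 ^ 2 := pow_pos Nat.card_pos 2
      by_cases hle : R ≤ C1
      · have hn2 : ¬ R2 ≤ C2 := fun h2 => hne (le_inf hle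
          ((le_inf hle le_rfl : R ≤ R2).trans h2))
        exact lt_of_le_of_lt (Nat.mul_le_mul_right _ e1.1) (Nat.mul_lt_mul_of_pos_left (e2.2 hn2) p1)
      · exact lt_of_le_of_lt (Nat.mul_le_mul_left _ e2.1) (Nat.mul_lt_mul_of_pos_right (e1.2 hle) p2)
    rw [hidx]
    refine Nat.lt_of_mul_lt_mul_left (a := Nat.card A1 ^ 2 * Nat.card A2 ^ 2) ?_
    calc Nat.card A1 ^ 2 * Nat.card A2 ^ 2 * ((r2 * r1) ^ 3 * w ^ 2)
        = (w * Nat.card A1 * Nat.card A2) ^ 2 * (r2 * r1) ^ 3 := by ring
      _ ≤ (Nat.card A * (w1 * w2)) ^ 2 * (r2 * r1) ^ 3 :=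
          Nat.mul_le_mul_right _ (Nat.pow_le_pow_left cw 2)
      _ = Nat.card A ^ 2 * (r1 ^ 3 * w1 ^ 2 * (r2 ^ 3 * w2 ^ 2)) := by ring
      _ < Nat.card A ^ 2 * (Nat.card A1 ^ 2 * Nat.card A2 ^ 2) :=
          Nat.mul_lt_mul_of_pos_left hlt (pow_pos Nat.card_pos 2)
      _ = _ := by ring
  obtain ⟨A, -, ⟨hAs, hAgood⟩, hmax⟩ := exists_maximal_ge_of_wellFoundedGT
    (fun D : Subgroup G => D ≤ sSup s ∧ CubeImages S D) ⊥ ⟨bot_le, hbot⟩
  have e : A = sSup s := by
    refine le_antisymm hAs (sSup_le fun B hB => le_sup_right.trans (hmax ?_ le_sup_left))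
    exact ⟨sup_le hAs (le_sSup hB), hsup A B hAgood (h B hB)⟩
  exact e ▸ hAgood

end CfsgLib.FourFree
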