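import Cfsg.Agent.Lib.FourFree.K.Layer

/-!
# E-groups as subgroups of an ambient group

The defining property of E-groups and the subgroup `Ĵ` are expressed for subgroups of an ambient
group, where they are visibly invariant under injective homomorphisms and conjugation.
-/

set_option autoImplicit false
set_option linter.style.haveILetI false

open Subgroup
open CfsgLib.Fusion (conjBy mem_conjBy conj_mem_conjBy conjBy_le_iff card_conjBy)

namespace CfsgLib.FourFree

universe u v

variable {G : Type u} [Group G]

/-- `V` is a test subgroup for the E-group property of `U`. -/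
def EProp (U V : Subgroup G) : Prop :=
  V ≤ U ∧ (∀ v ∈ V, v * v = 1) ∧ U ≤ normalizer (V : Set G) ∧
    ∀ R : Subgroup G, R ≤ U → (∀ r ∈ R, r * r ∈ centralizer (V : Set G)) →
      ¬ R ≤ centralizer (V : Set G) →
        Nat.card R ^ 3 * Nat.card (V ⊓ centralizer (R : Set G) : Subgroup G) ^ 2 <
            Nat.card V ^ 2 * Nat.card (R ⊓ centralizer (V : Set G) : Subgroup G) ^ 3 ∧
          Nat.card R <
            Nat.card (⁅V, R⁆ : Subgroup G) * Nat.card (R ⊓ centralizer (V : Set G) : Subgroup G)

/-- `U` is an E-group. -/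
def EG (U : Subgroup G) : Prop :=
  ∀ V : Subgroup G, EProp U V → U ≤ centralizer (V : Set G)

/-- `Ĵ(T)` as a subgroup of the ambient group. -/
def jHatIn (T : Subgroup G) : Subgroup G :=
  sSup {U | U ≤ T ∧ Cfsg.thompsonSubgroupOf 2 T ≤ U ∧ EG U}

theorem le_jHatIn {T U : Subgroup G} (hUT : U ≤ T) (hJ : Cfsg.thompsonSubgroupOf 2 T ≤ U)
    (hE : EG U) : U ≤ jHatIn T :=
  le_sSup ⟨hUT, hJ, hE⟩

theorem jHatIn_le (T : Subgroup G) : jHatIn T ≤ T := sSup_le fun _ hU => hU.1

theorem commutator_mem_of_sq {R C : Subgroup G} (hn : R ≤ normalizer (C : Set G))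
    (hsq : ∀ r ∈ R, r * r ∈ C) {r s : G} (hr : r ∈ R) (hs : s ∈ R) :
    r * s * r⁻¹ * s⁻¹ ∈ C := by
  have h1 : s⁻¹ * (r⁻¹ * r⁻¹) * s ∈ C := by
    simpa using (Subgroup.mem_normalizer_iff.1 (hn (inv_mem hs)) _).1 (hsq _ (inv_mem hr))
  have h := mul_mem (mul_mem (hsq _ (mul_mem hr hs)) h1) (hsq _ (inv_mem hs))
  convert h using 1
  group

section Map

variable {X : Type v} [Group X] {f : X →* G}

theorem comap_centralizer_map (hf : Function.Injective f) (V : Subgroup X) :
    (centralizer ((V.map f : Subgroup G) : Set G)).comap f = centralizer (V : Set X) := by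
  ext x
  rw [mem_comap, mem_centralizer_iff, mem_centralizer_iff]
  constructor
  · intro h v hv
    exact hf (by rw [map_mul, map_mul]; exact h (f v) (mem_map_of_mem f hv))
  · rintro h _ ⟨v, hv, rfl⟩
    rw [← map_mul, ← map_mul, h v hv]

theorem card_inf_centralizer_map (hf : Function.Injective f) (R V : Subgroup X) :
    Nat.card (R.map f ⊓ centralizer ((V.map f : Subgroup G) : Set G) : Subgroup G) =
      Nat.card (R ⊓ centralizer (V : Set X) : Subgroup X) := by
  rw [← Subgroup.card_map_of_injective (K := R ⊓ centralizer (V : Set X)) hf]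
  refine congrArg (fun K : Subgroup G => Nat.card K) (SetLike.ext fun y => ⟨?_, ?_⟩)
  · rintro ⟨⟨x, hx, rfl⟩, hc⟩
    exact mem_map_of_mem f ⟨hx, by rw [← comap_centralizer_map hf]; exact hc⟩
  · rintro ⟨x, ⟨hx, hc⟩, rfl⟩
    exact ⟨mem_map_of_mem f hx, by rw [← comap_centralizer_map hf] at hc; exact hc⟩

theorem map_le_centralizer_map (hf : Function.Injective f) {R V : Subgroup X} :
    R.map f ≤ centralizer ((V.map f : Subgroup G) : Set G) ↔ R ≤ centralizer (V : Set X) := by
  rw [map_le_iff_le_comap, comap_centralizer_map hf]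

/-- The E-group property does not depend on the ambient group. -/
theorem eG_range_iff (hf : Function.Injective f) : Cfsg.IsEGroup X ↔ EG f.range := by
  constructor
  · intro hX V hV
    obtain ⟨hVU, hV2, hVn, hVR⟩ := hV
    set V' := V.comap f with hV'
    have hmap : V'.map f = V := map_comap_eq_self hVU
    haveI : V'.Normal := ⟨fun v hv x => by
      show f (x * v * x⁻¹) ∈ V
      rw [map_mul, map_mul, map_inv]
      exact (Subgroup.mem_normalizer_iff.1 (hVn ⟨x, rfl⟩) _).1 hv⟩
    have h2 : ∀ v ∈ V', v * v = 1 := fun v hv => hf (by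
      rw [map_mul, map_one]; exact hV2 _ hv)
    have hc : V' ≤ center X := by
      refine hX V' inferInstance ⟨⟨⟨fun a b => Subtype.ext (elem_comm h2 a.2 b.2)⟩⟩,
        fun a ha => by rw [pow_two]; exact h2 a ha⟩ fun R _ hR2 hR => ?_
      obtain ⟨h1, h3⟩ := hVR (R.map f) (map_le_range f R)
        (by
          rintro _ ⟨r, hr, rfl⟩
          rw [← map_mul, ← hmap]
          have := hR2 r hr
          rw [pow_two, ← comap_centralizer_map hf] at this
          exact this)
        (fun hle => hR (by rw [← hmap] at hle; exact (map_le_centralizer_map hf).1 hle))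
      rw [← hmap, card_inf_centralizer_map hf, card_inf_centralizer_map hf,
        Subgroup.card_map_of_injective hf, Subgroup.card_map_of_injective hf] at h1
      rw [← hmap, ← map_commutator, card_inf_centralizer_map hf,
        Subgroup.card_map_of_injective hf, Subgroup.card_map_of_injective hf] at h3
      exact ⟨h1, h3⟩
    rintro _ ⟨x, rfl⟩
    rw [← hmap]
    refine mem_centralizer_iff.2 ?_
    rintro _ ⟨v, hv, rfl⟩
    rw [← map_mul, ← map_mul, Subgroup.mem_center_iff.1 (hc hv) x]
  · intro hU V hVn hVe hVR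
    haveI := hVn
    have h2 : ∀ v ∈ V, v * v = 1 := fun v hv => by rw [← pow_two]; exact hVe.2 v hv
    have hle := hU (V.map f) ⟨map_le_range f V, by
      rintro _ ⟨v, hv, rfl⟩
      rw [← map_mul, h2 v hv, map_one], by
      rintro _ ⟨x, rfl⟩
      exact le_normalizer_map f (mem_map_of_mem f
        ((normalizer_eq_top V).ge (mem_top x))), fun R hR hR2 hRV => by
      obtain ⟨R', rfl⟩ : ∃ R', R = Subgroup.map f R' := ⟨R.comap f, (map_comap_eq_self hR).symm⟩
      have hsq : ∀ r ∈ R', r * r ∈ centralizer (V : Set X) := fun r hr => by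
        rw [← comap_centralizer_map hf, mem_comap, map_mul]
        exact hR2 _ (mem_map_of_mem f hr)
      obtain ⟨h1, h3⟩ := hVR R' (commutator_le.2 fun r hr s hs => by
          rw [commutatorElement_def]
          exact commutator_mem_of_sq (C := centralizer (V : Set X))
            (le_top.trans (normalizer_eq_top (centralizer (V : Set X))).ge) hsq hr hs)
        (fun r hr => by rw [pow_two]; exact hsq r hr)
        (fun hle => hRV ((map_le_centralizer_map hf).2 hle))
      rw [← map_commutator, card_inf_centralizer_map hf, card_inf_centralizer_map hf,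
        Subgroup.card_map_of_injective hf, Subgroup.card_map_of_injective hf,
        Subgroup.card_map_of_injective hf]
      exact ⟨h1, h3⟩⟩
    intro v hv
    refine Subgroup.mem_center_iff.2 fun x => hf ?_
    rw [map_mul, map_mul]
    exact (mem_centralizer_iff.1 (hle ⟨x, rfl⟩) (f v) (mem_map_of_mem f hv)).symm

theorem eG_map_iff (hf : Function.Injective f) (U : Subgroup X) : EG (U.map f) ↔ EG U := by
  have e1 : (f.comp U.subtype).range = U.map f := by
    rw [MonoidHom.range_comp, Subgroup.range_subtype]
  rw [← e1, ← eG_range_iff (f := f.comp U.subtype) (hf.comp U.subtype_injective)]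
  conv_rhs => rw [← U.range_subtype, ← eG_range_iff (f := U.subtype) U.subtype_injective]

theorem map_jHatIn [Finite X] [Finite G] (hf : Function.Injective f) (T : Subgroup X) :
    (jHatIn T).map f = jHatIn (T.map f) := by
  have hJ := CfsgLib.Fusion.map_thompsonSubgroupOf (p := 2) f (P := T)
    (fun x _ hx => hf (hx.trans (map_one f).symm))
  apply le_antisymm
  · rw [map_le_iff_le_comap]
    refine sSup_le ?_
    rintro U ⟨hUT, hJU, hE⟩
    rw [← map_le_iff_le_comap]
    exact le_jHatIn (map_mono hUT) (hJ ▸ map_mono hJU) ((eG_map_iff hf U).2 hE)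
  · refine sSup_le ?_
    rintro U ⟨hUT, hJU, hE⟩
    have e : (U.comap f).map f = U := map_comap_eq_self (hUT.trans (map_le_range f T))
    rw [← e]
    refine map_mono (le_jHatIn ?_ ?_ ?_)
    · rw [← comap_map_eq_self_of_injective hf T]
      exact comap_mono hUT
    · rw [← map_le_map_iff_of_injective hf, hJ, e]
      exact hJU
    · rw [← eG_map_iff hf, e]
      exact hE

end Map

/-- `Ĵ` of a subgroup as a group is `Ĵ` of the subgroup. -/
theorem map_jHat (T : Subgroup G) : (Cfsg.jHat T).map T.subtype = jHatIn T := by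
  apply le_antisymm
  · rw [map_le_iff_le_comap]
    refine sSup_le ?_
    rintro U ⟨hE, hJU⟩
    rw [← map_le_iff_le_comap]
    refine le_jHatIn (map_subtype_le _) (map_mono hJU) ?_
    rw [eG_map_iff T.subtype_injective, ← U.range_subtype, ← eG_range_iff U.subtype_injective]
    exact hE
  · refine sSup_le ?_
    rintro U ⟨hUT, hJU, hE⟩
    rw [← map_subgroupOf_eq_of_le hUT]
    refine map_mono (le_sSup ⟨?_, ?_⟩)
    · rw [eG_range_iff (U.subgroupOf T).subtype_injective, Subgroup.range_subtype,
        ← eG_map_iff T.subtype_injective, map_subgroupOf_eq_of_le hUT]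
      exact hE
    · exact map_le_iff_le_comap.1 hJU

theorem conjBy_jHatIn_le [Finite G] {T : Subgroup G} (g : G) :
    conjBy g (jHatIn T) = jHatIn (conjBy g T) :=
  map_jHatIn (MulAut.conj g).injective T

end CfsgLib.FourFree
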