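import Cfsg.Agent.Lib.FourFree.K.Factorizations

/-!
# The two further factorizations by induction
-/

set_option autoImplicit false
set_option linter.style.haveILetI false

open Subgroup

namespace CfsgLib.FourFree

universe u

/-- The data of a subgroup over a Sylow subgroup. -/
theorem exists_sylow_data {G : Type u} [Group G] [Finite G] (T : Sylow 2 G) {H : Subgroup G}
    (hTH : (T : Subgroup G) ≤ H) :
    ∃ TH : Sylow 2 H, (TH : Subgroup H).map H.subtype = (T : Subgroup G) ∧
      (Cfsg.thompsonSubgroupOf 2 (TH : Subgroup H)).map H.subtype =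
        Cfsg.thompsonSubgroupOf 2 (T : Subgroup G) ∧
      (jHatIn (TH : Subgroup H)).map H.subtype = jHatIn (T : Subgroup G) := by
  obtain ⟨TH, h, hJ⟩ := CfsgLib.CFun.exists_sylow_of_le T le_rfl hTH
    (fun hd => T.not_dvd_index (hd.trans (relIndex_dvd_index_of_le hTH)))
  exact ⟨TH, h, hJ, by rw [map_jHatIn H.subtype_injective, h]⟩

/-- The centralizer of a preimage lies in the centralizer of a subgroup of the image. -/
theorem coe_mem_centralizer {G : Type u} [Group G] {H : Subgroup G} {V : Subgroup H}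
    {V' : Subgroup G} (hV : V' ≤ V.map H.subtype) {c : H} (hc : c ∈ centralizer (V : Set H)) :
    (c : G) ∈ centralizer (V' : Set G) := by
  refine mem_centralizer_iff.2 fun v hv => ?_
  obtain ⟨w, hw, rfl⟩ := hV hv
  exact congrArg Subtype.val (mem_centralizer_iff.1 hc w hw)

theorem omegaCenter_le_map {G : Type u} [Group G] {H : Subgroup G} {U : Subgroup H}
    {U' : Subgroup G} (hU : U.map H.subtype = U') :
    omegaCenter U' ≤ (omegaCenter U).map H.subtype := by
  refine (closure_le _).2 ?_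
  rintro x ⟨⟨hxU, hxc⟩, hx2⟩
  obtain ⟨y, hy, rfl⟩ := hU ▸ hxU
  refine mem_map_of_mem _ (subset_closure ⟨⟨hy, mem_centralizer_iff.2 fun u hu => Subtype.ext ?_⟩,
    Subtype.ext hx2⟩)
  exact mem_centralizer_iff.1 hxc (u : G) (hU ▸ mem_map_of_mem H.subtype hu)

theorem center_le_map {G : Type u} [Group G] {H : Subgroup G} {U : Subgroup H}
    {U' : Subgroup G} (hU : U.map H.subtype = U') :
    (U' ⊓ centralizer (U' : Set G) : Subgroup G) ≤
      (U ⊓ centralizer (U : Set H)).map H.subtype := by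
  rintro x ⟨hxU, hxc⟩
  obtain ⟨y, hy, rfl⟩ := hU ▸ hxU
  exact mem_map_of_mem _ ⟨hy, mem_centralizer_iff.2 fun u hu => Subtype.ext
    (mem_centralizer_iff.1 hxc (u : G) (hU ▸ mem_map_of_mem H.subtype hu))⟩

theorem three_factor_aux (n : ℕ) : ∀ (G : Type u) [Group G] [Finite G], Nat.card G = n →
    ¬ Cfsg.Involves (Equiv.Perm (Fin 4)) G →
    centralizer (Cfsg.pCore 2 G : Set G) ≤ Cfsg.pCore 2 G → KS G → ∀ (T : Sylow 2 G) (g : G),
      Fac (centralizer (((T : Subgroup G) ⊓ centralizer ((T : Subgroup G) : Set G) :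
          Subgroup G) : Set G))
          (normalizer ((jHatIn (T : Subgroup G) : Subgroup G) : Set G)) g ∧
        Fac (centralizer ((omegaCenter (jHatIn (T : Subgroup G)) : Subgroup G) : Set G))
          (normalizer ((Cfsg.thompsonSubgroupOf 2 (T : Subgroup G) : Subgroup G) : Set G)) g := by
  induction n using Nat.strong_induction_on with
  | _ n ih =>
  intro G _ _ hn hfree hcon hKS T g
  haveI : Fact (Nat.Prime 2) := ⟨Nat.prime_two⟩
  haveI hQn : (Cfsg.pCore 2 G).Normal := CfsgLib.Coprime.pCore_normal' 2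
  have hQT := (CfsgLib.Coprime.pCore_isPGroup (G := G) 2).le_sylow_of_normal T
  have recur : ∀ H : Subgroup G, H ≠ ⊤ → (T : Subgroup G) ≤ H → ∀ h ∈ H,
      Fac (centralizer (((T : Subgroup G) ⊓ centralizer ((T : Subgroup G) : Set G) :
          Subgroup G) : Set G))
          (normalizer ((jHatIn (T : Subgroup G) : Subgroup G) : Set G)) h ∧
        Fac (centralizer ((omegaCenter (jHatIn (T : Subgroup G)) : Subgroup G) : Set G))
          (normalizer ((Cfsg.thompsonSubgroupOf 2 (T : Subgroup G) : Subgroup G) : Set G)) h := by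
    intro H hH hTH h hh
    obtain ⟨TH, hTH', hJH, hHatH⟩ := exists_sylow_data T hTH
    obtain ⟨⟨c, hc, m, hm, he⟩, ⟨c', hc', m', hm', he'⟩⟩ := ih (Nat.card H)
      (hn ▸ (CfsgLib.Fusion.card_lt_card_of_lt (lt_top_iff_ne_top.2 hH)).trans_eq Subgroup.card_top)
      H rfl (fun hi => hfree (CfsgLib.Fusion.involves_of_injective H.subtype H.subtype_injective hi))
      (CfsgLib.CFun.constrained_of_le hcon (hQT.trans hTH)) (hKS.subgroup H) TH ⟨h, hh⟩
    refine ⟨⟨c, coe_mem_centralizer (center_le_map hTH') hc, m, ?_, congrArg Subtype.val he⟩,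
      ⟨c', coe_mem_centralizer (omegaCenter_le_map hHatH) hc', m', ?_, congrArg Subtype.val he'⟩⟩
    · rw [← hHatH]
      exact le_normalizer_map H.subtype (mem_map_of_mem _ hm)
    · rw [← hJH]
      exact le_normalizer_map H.subtype (mem_map_of_mem _ hm')
  exact ⟨fac_jHat hfree hKS hcon T (fun H h1 h2 h hh => (recur H h1 h2 h hh).1) g,
    fac_omega_jHat hfree hKS hcon T (fun H h1 h2 h hh => (recur H h1 h2 h hh).2) g⟩

end CfsgLib.FourFree
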