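import Cfsg.Agent.Lib.FourFree.K.Layer

/-!
# Offenders fixing a generating subgroup of a module

Let `G` act faithfully on the elementary `2`-group `M` generated by the translates of a subgroup
`A` invariant under the Sylow subgroup `T`, such that every normal subgroup either supplements `T`
or meets `T_D` in a subgroup of the normal `2`-group `P`.  If `|X|³ |C_M(X)|² < |M|²` for the
nontrivial elementary subgroups of `P`, then `T_D` has no nontrivial elementary offender fixing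
`A`: such an offender forces a unique nontrivial layer, the commutators `[M, P]` lie in `A`, and
the bound for commutators in `P` contradicts the bound for subgroups of `P`.
-/

set_option autoImplicit false
set_option linter.style.haveILetI false

open Subgroup
open CfsgLib.CFun (delt fixOf mem_fixOf card_mul_relIndex' IsOff)

namespace CfsgLib.FourFree

universe u v

variable {G : Type u} {M : Type v} [Group G] [CommGroup M]

/-- The subgroup generated by the elements of odd order. -/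
def oddGen (G : Type u) [Group G] : Subgroup G := closure {g | Odd (orderOf g)}

instance oddGen_normal : (oddGen G).Normal := by
  refine ⟨fun n hn g => ?_⟩
  have hle : oddGen G ≤ (oddGen G).comap (MulAut.conj g).toMonoidHom := by
    refine (closure_le _).2 fun x hx => subset_closure ?_
    show Odd (orderOf ((MulAut.conj g).toMonoidHom x))
    rwa [orderOf_injective (MulAut.conj g).toMonoidHom (MulAut.conj g).injective]
  exact hle hn

theorem mem_oddGen {g : G} (hg : Odd (orderOf g)) : g ∈ oddGen G := subset_closure hg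

variable [Finite G]

/-- Some power with exponent a power of two has odd order. -/
theorem exists_two_pow_odd (g : G) : ∃ e : ℕ, Odd (orderOf (g ^ 2 ^ e)) := by
  obtain ⟨e, m, hm, hem⟩ := Nat.exists_eq_two_pow_mul_odd (orderOf_pos g).ne'
  refine ⟨e, Odd.of_dvd_nat hm (orderOf_dvd_of_pow_eq_one ?_)⟩
  rw [← pow_mul, ← hem, pow_orderOf_eq_one]

theorem oddGen_sup (T : Sylow 2 G) : oddGen G ⊔ (T : Subgroup G) = ⊤ := by
  haveI : Fact (Nat.Prime 2) := ⟨Nat.prime_two⟩
  set π := QuotientGroup.mk' (oddGen G)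
  have hp : IsPGroup 2 (G ⧸ oddGen G) := fun x => by
    obtain ⟨g, rfl⟩ := QuotientGroup.mk'_surjective (oddGen G) x
    obtain ⟨e, he⟩ := exists_two_pow_odd g
    exact ⟨e, by
      rw [← map_pow, QuotientGroup.mk'_apply, QuotientGroup.eq_one_iff]
      exact mem_oddGen he⟩
  have htop : (T : Subgroup G).map π = ⊤ :=
    ((T.mapSurjective (QuotientGroup.mk'_surjective (oddGen G))).is_maximal'
      (hp.to_subgroup ⊤) le_top).symm
  have h := congrArg (Subgroup.comap π) htop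
  rw [comap_map_eq, QuotientGroup.ker_mk', comap_top, sup_comm] at h
  exact h

omit [Finite G] in
theorem apply_pow_of_delt_fixed (ρ : G →* MulAut M) {g : G} {v : M}
    (hd : ρ g (delt ρ g v) = delt ρ g v) (n : ℕ) :
    ρ (g ^ n) v = v * delt ρ g v ^ n := by
  induction n with
  | zero => simp
  | succ n ih =>
    rw [pow_succ', map_mul, MulAut.mul_apply, ih, map_mul, map_pow, hd,
      CfsgLib.CFun.delt_apply ρ g v, mul_comm (delt ρ g v) v, mul_assoc, ← pow_succ']

omit [Finite G] in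
/-- An element of odd order fixing its commutator with `v` fixes `v`. -/
theorem fix_of_delt_fixed (ρ : G →* MulAut M) (h2 : ∀ x : M, x * x = 1) {g : G}
    (hg : Odd (orderOf g)) {v : M} (hd : ρ g (delt ρ g v) = delt ρ g v) : ρ g v = v := by
  obtain ⟨m, hm⟩ := hg
  have h := apply_pow_of_delt_fixed ρ hd (orderOf g)
  rw [pow_orderOf_eq_one, map_one, MulAut.one_apply, hm, pow_succ, pow_mul, pow_two, h2, one_pow,
    one_mul, left_eq_mul] at h
  exact div_eq_one.1 h

variable [Finite M]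

/-- A layer moved by an element of odd order measures `B` by its index over `P`. -/
theorem moved_bound (ρ : G →* MulAut M) (h2 : ∀ x : M, x * x = 1) (hG : HG G) (hKS : KS G)
    (T : Sylow 2 G) {TD P B : Subgroup G}
    (hstr : ∀ K : Subgroup G, K.Normal → K ⊔ (T : Subgroup G) = ⊤ ∨ K ⊓ TD ≤ P)
    (hB : ∀ b ∈ B, b * b = 1) (hBD : B ≤ TD) {U' U X : Subgroup M}
    (hU : ∀ g, ∀ u ∈ U, ρ g u ∈ U) (hU' : ∀ g, ∀ u ∈ U', ρ g u ∈ U')
    (hle : U' ≤ U) (hU'X : U' ≤ X) (hXU : X ≤ U)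
    (hmove : ∃ g, Odd (orderOf g) ∧ ∃ u ∈ U, delt ρ g u ∉ U')
    (hX : ∀ b ∈ B, ∀ x ∈ X, delt ρ b x ∈ U') :
    P.relIndex B ^ 2 * Nat.card X ≤ Nat.card U := by
  haveI : Fact (Nat.Prime 2) := ⟨Nat.prime_two⟩
  obtain ⟨W, _, _, q, G', _, _, π, ρ', hq, hqker, hπ, hρ', hact⟩ :=
    exists_section (ρ := ρ) (P := U) (N := U') hU hU'
  set ρq := ρ'.comp π with hρq
  have hW2 : ∀ w : W, w * w = 1 := fun w => by
    obtain ⟨x, rfl⟩ := hq w
    rw [← map_mul, hqker, show ((x * x : U) : M) = 1 from h2 x]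
    exact one_mem _
  have hsame : ∀ (g : G) (x : U), ρq g (q x) = q x ↔ delt ρ g x ∈ U' := by
    intro g x
    show ρ' (π g) (q x) = q x ↔ _
    rw [hact, ← div_eq_one, ← map_div, hqker]
    rfl
  obtain ⟨K, hKn, hKp, hKb⟩ := exists_kernel_bounds ρq hW2 hG hKS ⊤ fun _ _ _ => mem_top _
  haveI := hKn
  obtain ⟨hb, -⟩ := hKb B hB
  have hKT : K ⊔ (T : Subgroup G) ≠ ⊤ := by
    intro htop
    obtain ⟨g, hg, u, hu, hgu⟩ := hmove
    have hgK : g ∈ K := by
      obtain ⟨m, hm⟩ := hg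
      set f := QuotientGroup.mk' K
      have hT : (T : Subgroup G).map f = ⊤ := by
        have h := congrArg (Subgroup.map f) htop
        rw [Subgroup.map_sup, QuotientGroup.map_mk'_self, bot_sup_eq,
          map_top_of_surjective f (QuotientGroup.mk'_surjective K)] at h
        exact h
      obtain ⟨i, hi⟩ := (T.2.map f) ⟨f g, hT ▸ mem_top _⟩
      have h1 : f g ^ 2 ^ i = 1 := congrArg Subtype.val hi
      have h2' : f g ^ orderOf g = 1 := by rw [← map_pow, pow_orderOf_eq_one, map_one]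
      refine (QuotientGroup.eq_one_iff g).1 ?_
      exact orderOf_eq_one_iff.1 (Nat.eq_one_of_dvd_coprimes
        (Nat.Coprime.pow_left i (Nat.coprime_two_left.2 ⟨m, hm⟩))
        (orderOf_dvd_of_pow_eq_one h1) (orderOf_dvd_of_pow_eq_one h2'))
    obtain ⟨k, hk⟩ := hKp g hgK
    have hco : Nat.Coprime (2 ^ k) (orderOf g) :=
      Nat.Coprime.pow_left k (Nat.coprime_two_left.2 hg)
    obtain ⟨j, hj⟩ := exists_pow_eq_self_of_coprime hco
    refine hgu ((hsame g ⟨u, hu⟩).1 ?_)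
    have h := (pow_mem hk j : (g ^ 2 ^ k) ^ j ∈ ptFix ρq (⊤ : Subgroup W)) (q ⟨u, hu⟩) (mem_top _)
    rwa [hj] at h
  have hBK : B ⊓ K ≤ P := by
    rcases hstr K hKn with h | h
    · exact absurd h hKT
    · exact fun x hx => h ⟨hx.2, hBD hx.1⟩
  have hidx : P.relIndex B ≤ K.relIndex B := by
    rw [← Subgroup.inf_relIndex_right K B]
    exact Subgroup.relIndex_le_of_le_left (by rw [inf_comm]; exact hBK) index_ne_zero_of_finite
  rw [Subgroup.card_top, top_inf_eq] at hb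
  have hWcard : Nat.card U = Nat.card U' * Nat.card W := by
    rw [card_section q hqker le_rfl, inf_eq_right.2 hle, subgroupOf_self,
      ← MonoidHom.range_eq_map, MonoidHom.range_eq_top.2 hq, Subgroup.card_top]
  have himg : Nat.card ((X.subgroupOf U).map q) ≤ Nat.card (fixOf ρq B) := by
    refine card_le_of_le ?_
    rintro _ ⟨x, hx, rfl⟩
    exact mem_fixOf.2 fun b hb => (hsame b x).2 (hX b hb _ hx)
  rw [card_section q hqker hXU, inf_eq_right.2 hU'X, hWcard]
  calc P.relIndex B ^ 2 * (Nat.card U' * Nat.card ((X.subgroupOf U).map q))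
      ≤ K.relIndex B ^ 2 * (Nat.card U' * Nat.card (fixOf ρq B)) :=
        Nat.mul_le_mul (Nat.pow_le_pow_left hidx 2) (Nat.mul_le_mul le_rfl himg)
    _ = Nat.card U' * (K.relIndex B ^ 2 * Nat.card (fixOf ρq B)) := by ring
    _ ≤ _ := Nat.mul_le_mul le_rfl hb

/-- There is no elementary offender fixing a generating subgroup. -/
theorem one_layer (ρ : G →* MulAut M) (hρ : Function.Injective ρ) (h2 : ∀ x : M, x * x = 1)
    (hG : HG G) (hKS : KS G) (T : Sylow 2 G) (hTne : (T : Subgroup G) ≠ ⊤) {TD P : Subgroup G}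
    [P.Normal] (hPD : P ≤ TD) (hDT : TD ≤ (T : Subgroup G))
    (hstr : ∀ K : Subgroup G, K.Normal → K ⊔ (T : Subgroup G) = ⊤ ∨ K ⊓ TD ≤ P)
    {A : Subgroup M} (hAT : ∀ t ∈ (T : Subgroup G), ∀ a ∈ A, ρ t a ∈ A)
    (hgen : transl ρ ⊤ A = ⊤)
    (hhyp : ∀ X : Subgroup G, X ≤ P → (∀ x ∈ X, x * x = 1) → X ≠ ⊥ →
      Nat.card X ^ 3 * Nat.card (fixOf ρ X) ^ 2 < Nat.card M ^ 2)
    {B1 : Subgroup G} (hB1 : ∀ b ∈ B1, b * b = 1) (hB1D : B1 ≤ TD) (hB1A : A ≤ fixOf ρ B1)
    (hoff1 : IsOff ρ B1) : B1 = ⊥ := by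
  classical
  haveI : Fact (Nat.Prime 2) := ⟨Nat.prime_two⟩
  by_contra hB1ne
  -- the best offenders fixing `A`, minimal by inclusion
  set μ : Subgroup G → ℕ := fun X => Nat.card X * Nat.card (fixOf ρ X) with hμ
  set S0 : Set (Subgroup G) := {X | (∀ x ∈ X, x * x = 1) ∧ X ≤ TD ∧ A ≤ fixOf ρ X ∧ X ≠ ⊥}
    with hS0
  obtain ⟨B2, hB2, hmax⟩ :=
    Set.exists_max_image S0 μ (Set.toFinite S0) ⟨B1, hB1, hB1D, hB1A, hB1ne⟩
  obtain ⟨B, ⟨⟨hB, hBD, hBA, hBne⟩, hBμ⟩, hmin⟩ :=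
    (Set.toFinite {X | X ∈ S0 ∧ μ X = μ B2}).exists_minimal ⟨B2, hB2, rfl⟩
  have hoff : IsOff ρ B :=
    le_trans hoff1 ((hmax B1 ⟨hB1, hB1D, hB1A, hB1ne⟩).trans_eq hBμ.symm)
  set C := fixOf ρ B with hC
  have hquad : IsQuad ρ B := by
    refine CfsgLib.CFun.quadratic_of_minimal (fun x => ⟨1, by rw [pow_one, pow_two, h2]⟩)
      (fun x hx y hy => elem_comm hB hx hy) hBne hoff fun B' hlt hne => ?_
    have hB'S : B' ∈ S0 := ⟨fun x hx => hB x (hlt.le hx), hlt.le.trans hBD,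
      hBA.trans fun v hv => mem_fixOf.2 fun x hx => mem_fixOf.1 hv x (hlt.le hx), hne⟩
    refine lt_of_le_of_ne ((hmax B' hB'S).trans_eq hBμ.symm) fun e => ?_
    exact hlt.not_ge (hmin ⟨hB'S, e.trans hBμ⟩ hlt.le)
  set a := P.relIndex B with ha
  set b := Nat.card (B ⊓ P : Subgroup G) with hb
  have hcardB : Nat.card B = b * a := by
    rw [hb, ha, ← Subgroup.inf_relIndex_left B P, card_mul_relIndex' inf_le_left]
  have hoff' : Nat.card M ≤ b * a * Nat.card C := hcardB ▸ hoff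
  have hCpos : 0 < Nat.card C := Nat.card_pos
  have hbpos : 0 < b := Nat.card_pos
  set C0 := fixOf ρ (B ⊓ P : Subgroup G) with hC0
  have hCC0 : C ≤ C0 := fun v hv => mem_fixOf.2 fun x hx => mem_fixOf.1 hv x hx.1
  have hhyp0 : b ≠ 1 → b ^ 3 * Nat.card C0 ^ 2 < Nat.card M ^ 2 := fun h1 =>
    hhyp _ inf_le_right (fun x hx => hB x hx.1) fun e => h1 (by
      rw [hb, e, Subgroup.card_bot])
  have hhyp1 : b ^ 3 * Nat.card C0 ^ 2 ≤ Nat.card M ^ 2 := by
    by_cases h1 : b = 1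
    · rw [h1, one_pow, one_mul]
      exact Nat.pow_le_pow_left (Subgroup.card_le_card_group _) 2
    · exact (hhyp0 h1).le
  -- `B` is not in `P`
  have ha2 : 2 ≤ a := by
    by_contra hlt
    have hpos : a ≠ 0 := index_ne_zero_of_finite
    have ha1 : a = 1 := by omega
    have hb1 : b ≠ 1 := fun h1 => hBne (Subgroup.card_eq_one.1 (by rw [hcardB, h1, ha1]))
    have h := hhyp0 hb1
    rw [ha1, mul_one] at hoff'
    refine absurd h (not_lt.2 ?_)
    calc Nat.card M ^ 2 ≤ (b * Nat.card C) ^ 2 := Nat.pow_le_pow_left hoff' 2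
      _ = b ^ 2 * Nat.card C ^ 2 := by ring
      _ ≤ b ^ 3 * Nat.card C0 ^ 2 := Nat.mul_le_mul (Nat.pow_le_pow_right hbpos (by norm_num))
          (Nat.pow_le_pow_left (card_le_of_le hCC0) 2)
  -- the fixed points of the elements of odd order
  set E := oddGen G with hE
  set W1 := fixOf ρ E with hW1
  have hW1inv : ∀ g, ∀ v ∈ W1, ρ g v ∈ W1 := fun g v hv => mem_fixOf.2 fun e he => by
    have h := mem_fixOf.1 hv _ ((oddGen_normal (G := G)).conj_mem e he g⁻¹)
    calc ρ e (ρ g v) = ρ g (ρ (g⁻¹ * e * g⁻¹⁻¹) v) := by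
          simp only [← MulAut.mul_apply, ← map_mul]; congr 1; group
      _ = ρ g v := by rw [h]
  have hmove : ∀ U : Subgroup M, ¬ U ≤ W1 →
      ∃ g, Odd (orderOf g) ∧ ∃ u ∈ U, ρ g u ≠ u := by
    intro U hU
    by_contra h
    push Not at h
    refine hU (le_ptFix_iff.1 ?_)
    exact (closure_le _).2 fun g hg u hu => h g hg u hu
  have hW1top : W1 ≠ ⊤ := by
    intro e
    apply hTne
    have hEbot : E = ⊥ := le_bot_iff.1 (ptFix_top hρ ▸ le_ptFix_iff.2 e.ge)
    rw [← oddGen_sup T, ← hE, hEbot, bot_sup_eq]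
  obtain ⟨W2, ⟨hW2inv, hW2ne⟩, hW2min⟩ := (Set.toFinite
    {U : Subgroup M | (∀ g, ∀ u ∈ U, ρ g u ∈ U) ∧ ¬ U ≤ W1}).exists_minimal
      ⟨⊤, fun _ _ _ => mem_top _, fun h => hW1top (top_le_iff.1 h)⟩
  have hcop : ∀ {g : G} {u : M}, Odd (orderOf g) → delt ρ g u ∈ W1 → ρ g u = u := fun hg hu =>
    fix_of_delt_fixed ρ h2 hg (mem_fixOf.1 hu _ (mem_oddGen hg))
  set W12 := W2 ⊓ W1 with hW12
  have hW12inv : ∀ g, ∀ u ∈ W12, ρ g u ∈ W12 := fun g u hu =>
    ⟨hW2inv g u hu.1, hW1inv g u hu.2⟩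
  -- only one layer is moved
  have hmod : ∀ g : G, Odd (orderOf g) → ∀ v : M, delt ρ g v ∈ W2 := by
    by_contra h
    push Not at h
    obtain ⟨g, hg, v, hgv⟩ := h
    have h1 := moved_bound ρ h2 hG hKS T hstr hB hBD (U' := W2) (U := ⊤) (X := W2 ⊔ C)
      (fun _ _ _ => mem_top _) hW2inv le_top le_sup_left le_top ⟨g, hg, v, mem_top v, hgv⟩
      (fun x hx w hw => by
        obtain ⟨w2, hw2, c, hc, rfl⟩ := Subgroup.mem_sup.1 hw
        rw [CfsgLib.CFun.delt_mul_left,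
          show delt ρ x c = 1 from div_eq_one.2 (mem_fixOf.1 hc x hx), mul_one]
        exact div_mem (hW2inv x w2 hw2) hw2)
    obtain ⟨g', hg', u, hu, hgu⟩ := hmove W2 hW2ne
    have h3 := moved_bound ρ h2 hG hKS T hstr hB hBD (U' := ⊥) (U := W2) (X := W2 ⊓ C)
      hW2inv (fun g u hu => by rw [mem_bot.1 hu, map_one]; exact one_mem _) bot_le bot_le inf_le_left
      ⟨g', hg', u, hu, fun hb => hgu (div_eq_one.1 (mem_bot.1 hb))⟩
      (fun x hx w hw => mem_bot.2 (div_eq_one.2 (mem_fixOf.1 hw.2 x hx)))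
    rw [Subgroup.card_top] at h1
    have hk : a ^ 4 * Nat.card C ≤ Nat.card M := by
      refine Nat.le_of_mul_le_mul_right ?_ (Nat.card_pos (α := W2))
      calc a ^ 4 * Nat.card C * Nat.card W2 = a ^ 4 * (Nat.card W2 * Nat.card C) := by ring
        _ = (a ^ 2 * Nat.card (W2 ⊔ C : Subgroup M)) *
            (a ^ 2 * Nat.card (W2 ⊓ C : Subgroup M)) := by rw [← card_sup_mul_inf]; ring
        _ ≤ Nat.card M * Nat.card W2 := Nat.mul_le_mul h1 h3
    have hk2 : a ^ 4 ≤ b * a := Nat.le_of_mul_le_mul_right (hk.trans hoff') hCpos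
    have hb3 : b ^ 3 ≤ b ^ 2 * a ^ 2 := by
      refine Nat.le_of_mul_le_mul_right ?_ (pow_pos hCpos 2)
      calc b ^ 3 * Nat.card C ^ 2 ≤ b ^ 3 * Nat.card C0 ^ 2 :=
            Nat.mul_le_mul le_rfl (Nat.pow_le_pow_left (card_le_of_le hCC0) 2)
        _ ≤ Nat.card M ^ 2 := hhyp1
        _ ≤ (b * a * Nat.card C) ^ 2 := Nat.pow_le_pow_left hoff' 2
        _ = _ := by ring
    have hb3' : b ^ 2 * b ≤ b ^ 2 * a ^ 2 := by rw [← pow_succ]; exact hb3
    have hb2 : b ≤ a ^ 2 := Nat.le_of_mul_le_mul_left hb3' (pow_pos hbpos 2)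
    have hlt : a ^ 3 < a ^ 4 := Nat.pow_lt_pow_right (by omega) (by norm_num)
    have hle : b * a ≤ a ^ 3 := by
      rw [pow_succ]; exact Nat.mul_le_mul_right a hb2
    omega
  have hEW2 : ∀ e ∈ E, ∀ v : M, delt ρ e v ∈ W2 := by
    let H : Subgroup G :=
      { carrier := {g | ∀ v : M, delt ρ g v ∈ W2}
        one_mem' := fun v => by rw [CfsgLib.CFun.delt_one]; exact one_mem _
        mul_mem' := fun {g h} hg hh v => by
          have e : delt ρ (g * h) v = ρ g (delt ρ h v) * delt ρ g v := by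
            simp only [delt, map_mul, map_div, MulAut.mul_apply, div_mul_div_cancel]
          rw [e]; exact mul_mem (hW2inv g _ (hh v)) (hg v)
        inv_mem' := fun {g} hg v => by
          have e : delt ρ g⁻¹ v = (delt ρ g (ρ g⁻¹ v))⁻¹ := by
            simp only [delt, apply_apply_inv, inv_div]
          rw [e]; exact inv_mem (hg _) }
    exact fun e he => ((closure_le H).2 fun g hg => hmod g hg) he
  have hgsplit : ∀ g : G, ∃ e ∈ E, ∃ t ∈ (T : Subgroup G), g = e * t := fun g => by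
    have h := oddGen_sup T ▸ mem_top g
    obtain ⟨e, he, t, ht, het⟩ := Subgroup.mem_sup_of_normal_left.1 h
    exact ⟨e, he, t, ht, het.symm⟩
  have hMAW : A ⊔ W2 = ⊤ := by
    rw [eq_top_iff, ← hgen]
    refine transl_le fun g _ w hw => ?_
    obtain ⟨e, he, t, ht, rfl⟩ := hgsplit g
    rw [map_mul, MulAut.mul_apply, CfsgLib.CFun.delt_apply ρ e (ρ t w)]
    exact mul_mem (mem_sup_right (hEW2 e he _)) (mem_sup_left (hAT t ht w hw))
  -- `P` acts trivially modulo `W1` on `W2`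
  have hPW2 : ∀ p ∈ P, ∀ w ∈ W2, delt ρ p w ∈ W1 := by
    let D : Subgroup M :=
      { carrier := {w | w ∈ W2 ∧ ∀ p ∈ P, delt ρ p w ∈ W1}
        one_mem' := ⟨one_mem _, fun p _ => by rw [CfsgLib.CFun.delt_one_right]; exact one_mem _⟩
        mul_mem' := fun {x y} hx hy => ⟨mul_mem hx.1 hy.1, fun p hp => by
          rw [CfsgLib.CFun.delt_mul_left]; exact mul_mem (hx.2 p hp) (hy.2 p hp)⟩
        inv_mem' := fun {x} hx => ⟨inv_mem hx.1, fun p hp => by
          rw [← deltHom_apply, map_inv, deltHom_apply]; exact inv_mem (hx.2 p hp)⟩ }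
    have hDinv : ∀ g, ∀ u ∈ D, ρ g u ∈ D := fun g u hu => ⟨hW2inv g u hu.1, fun p hp => by
      have h := hW1inv g _ (hu.2 (g⁻¹ * p * g) (by
        simpa using (inferInstance : P.Normal).conj_mem p hp g⁻¹))
      have e : ρ g (delt ρ (g⁻¹ * p * g) u) = delt ρ p (ρ g u) := by
        simp only [delt, map_div, ← MulAut.mul_apply, ← map_mul]
        congr 3
        group
      rwa [e] at h⟩
    have hDW2 : D ≤ W2 := fun u hu => hu.1
    suffices hDne : ¬ D ≤ W1 from fun p hp w hw => ((hW2min ⟨hDinv, hDne⟩ hDW2) hw).2 p hp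
    intro hD
    obtain ⟨W, _, _, q, G', _, _, π, ρ', hq, hqker, hπ, hρ', hact⟩ :=
      exists_section (ρ := ρ) (P := W2) (N := W12) hW2inv hW12inv
    have hW2' : ∀ w : W, w * w = 1 := fun w => by
      obtain ⟨x, rfl⟩ := hq w
      rw [← map_mul, hqker, show ((x * x : W2) : M) = 1 from h2 x]
      exact one_mem _
    have htop : (⊤ : Subgroup W) ≠ ⊥ := by
      intro e
      refine hW2ne fun u hu => ((hqker ⟨u, hu⟩).1 ?_).2
      exact mem_bot.1 (e ▸ mem_top _)
    have hPp : IsPGroup 2 P := T.2.to_le (hPD.trans hDT)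
    obtain ⟨w, -, hw1, hwfix⟩ := exists_fixed (ρ := ρ') hW2' (hPp.map π) htop fun g _ =>
      ⟨fun x _ => mem_top _, fun x _ => mem_top _⟩
    obtain ⟨x, rfl⟩ := hq w
    refine hw1 ((hqker x).2 ⟨x.2, hD ⟨x.2, fun p hp => ?_⟩⟩)
    have h := mem_fixOf.1 hwfix _ (mem_map_of_mem π hp)
    rw [hact, ← div_eq_one, ← map_div, hqker] at h
    exact h.2
  -- the commutators of `P`
  set S := comIn ρ ⊤ P with hS
  have hSinv : ∀ g, ∀ u ∈ S, ρ g u ∈ S := by
    intro g
    have hle : S ≤ S.comap (ρ g).toMonoidHom := (closure_le _).2 (by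
      rintro _ ⟨p, hp, x, -, rfl⟩
      show ρ g (delt ρ p x) ∈ S
      have e : ρ g (delt ρ p x) = delt ρ (g * p * g⁻¹) (ρ g x) := by
        simp only [delt, map_div, ← MulAut.mul_apply, ← map_mul]
        congr 3
        group
      rw [e]
      exact delt_mem_comIn ((inferInstance : P.Normal).conj_mem p hp g) (mem_top _))
    exact fun u hu => hle hu
  have hSle : S ≤ A ⊔ W1 := by
    refine (closure_le _).2 ?_
    rintro _ ⟨p, hp, x, -, rfl⟩
    obtain ⟨a', ha', w, hw, rfl⟩ := Subgroup.mem_sup.1 (hMAW ▸ mem_top x)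
    rw [CfsgLib.CFun.delt_mul_left]
    exact mul_mem (mem_sup_left (div_mem (hAT p (hDT (hPD hp)) a' ha') ha'))
      (mem_sup_right (hPW2 p hp w hw))
  have hSW1 : S ≤ W1 := by
    by_contra hne
    have hSW2 : ¬ S ⊓ W2 ≤ W1 := fun hle => by
      obtain ⟨g, hg, u, hu, hgu⟩ := hmove S hne
      exact hgu (hcop hg (hle ⟨S.div_mem (hSinv g u hu) hu, hmod g hg u⟩))
    have hW2S : W2 ≤ S := (hW2min (y := S ⊓ W2) ⟨fun g u hu => ⟨hSinv g u hu.1, hW2inv g u hu.2⟩, hSW2⟩
      inf_le_right).trans inf_le_left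
    obtain ⟨g, hg, u, hu, hgu⟩ := hmove W2 hW2ne
    have h := moved_bound ρ h2 hG hKS T hstr hB hBD (U' := W12) (U := W2) (X := W2) hW2inv
      hW12inv inf_le_left inf_le_left le_rfl
      ⟨g, hg, u, hu, fun hd => hgu (hcop hg hd.2)⟩
      (fun x hx w hw => by
        refine ⟨W2.div_mem (hW2inv x w hw) hw, ?_⟩
        obtain ⟨a', ha', w1, hw1, rfl⟩ := Subgroup.mem_sup.1 (hSle (hW2S hw))
        rw [CfsgLib.CFun.delt_mul_left,
          show delt ρ x a' = 1 from div_eq_one.2 (mem_fixOf.1 (hBA ha') x hx), one_mul]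
        exact W1.div_mem (hW1inv x w1 hw1) hw1)
    have h4 : a ^ 2 ≤ 1 := Nat.le_of_mul_le_mul_right (by rw [one_mul]; exact h) Nat.card_pos
    nlinarith
  have hSA : S ≤ A := by
    refine (closure_le _).2 ?_
    rintro _ ⟨p, hp, x, -, rfl⟩
    let Ap : Subgroup M := A.comap (deltHom ρ p)
    have hgenAp : transl ρ ⊤ A ≤ Ap := transl_le fun g _ w hw => by
      show delt ρ p (ρ g w) ∈ A
      set p' := g⁻¹ * p * g with hp'
      have hp'P : p' ∈ P := by simpa using (inferInstance : P.Normal).conj_mem p hp g⁻¹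
      have e : delt ρ p (ρ g w) = ρ g (delt ρ p' w) := by
        simp only [delt, map_div, ← MulAut.mul_apply, ← map_mul]
        congr 3
        rw [hp']; group
      rw [e]
      obtain ⟨e', he', t, ht, rfl⟩ := hgsplit g
      have h1 : delt ρ p' w ∈ A := div_mem (hAT p' (hDT (hPD hp'P)) w hw) hw
      have h3 : delt ρ p' w ∈ W1 := hSW1 (delt_mem_comIn hp'P (mem_top _))
      rw [map_mul, MulAut.mul_apply, mem_fixOf.1 (hW1inv t _ h3) e' he']
      exact hAT t ht _ h1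
    exact hgenAp (hgen ▸ mem_top x)
  have hPC : ∀ p ∈ P, ∀ c ∈ C, ρ p c ∈ C := fun p hp c hc => by
    rw [CfsgLib.CFun.delt_apply ρ p c]
    exact mul_mem (hBA (hSA (delt_mem_comIn hp (mem_top _)))) hc
  -- the commutators of `B` with `P` lie in `B`
  let I : Subgroup G :=
    { carrier := {x | x ∈ P ∧ (∀ v ∈ C, ρ x v = v) ∧ ∀ v : M, delt ρ x v ∈ C}
      one_mem' := ⟨one_mem _, fun v _ => by simp, fun v => by
        rw [CfsgLib.CFun.delt_one]; exact one_mem _⟩
      mul_mem' := fun {g h} hg hh => ⟨mul_mem hg.1 hh.1, fun v hv => by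
        rw [map_mul, MulAut.mul_apply, hh.2.1 v hv, hg.2.1 v hv], fun v => by
        have e : delt ρ (g * h) v = ρ g (delt ρ h v) * delt ρ g v := by
          simp only [delt, map_mul, map_div, MulAut.mul_apply, div_mul_div_cancel]
        rw [e, hg.2.1 _ (hh.2.2 v)]
        exact mul_mem (hh.2.2 v) (hg.2.2 v)⟩
      inv_mem' := fun {g} hg => ⟨inv_mem hg.1, fun v hv => by
        have h := apply_inv_apply (ρ := ρ) g v
        rwa [hg.2.1 v hv] at h, fun v => by
        have e : delt ρ g⁻¹ v = (delt ρ g (ρ g⁻¹ v))⁻¹ := by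
          simp only [delt, apply_apply_inv, inv_div]
        rw [e]; exact inv_mem (hg.2.2 _)⟩ }
  have hstab : ∀ x y : G, (∀ v ∈ C, ρ x v = v) → (∀ v, delt ρ y v ∈ C) → ∀ v,
      ρ (x * y) v = v * delt ρ x v * delt ρ y v := by
    intro x y hx hy v
    rw [map_mul, MulAut.mul_apply, CfsgLib.CFun.delt_apply ρ y v, map_mul, hx _ (hy v),
      CfsgLib.CFun.delt_apply ρ x v, mul_comm v (delt ρ x v), mul_comm (delt ρ y v)]
  have hBfix : ∀ x ∈ B, ∀ v ∈ C, ρ x v = v := fun x hx v hv => mem_fixOf.1 hv x hx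
  have hBdelt : ∀ x ∈ B, ∀ v, delt ρ x v ∈ C := fun x hx v =>
    mem_fixOf.2 fun y hy => div_eq_one.1 (hquad y hy x hx v)
  have hI2 : ∀ x ∈ I, x * x = 1 := fun x hx => hρ (MulEquiv.ext fun v => by
    rw [hstab x x hx.2.1 hx.2.2 v, mul_assoc, h2, mul_one, map_one, MulAut.one_apply])
  have hIB : I ≤ B := by
    have hcomm : ∀ x ∈ I, ∀ y ∈ B, x * y = y * x := fun x hx y hy => hρ (MulEquiv.ext fun v => by
      rw [hstab x y hx.2.1 (hBdelt y hy) v, hstab y x (hBfix y hy) hx.2.2 v, mul_assoc,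
        mul_assoc, mul_comm (delt ρ x v)])
    let J : Subgroup G :=
      { carrier := {z | ∃ x ∈ B, ∃ y ∈ I, z = x * y}
        one_mem' := ⟨1, one_mem _, 1, one_mem _, (mul_one 1).symm⟩
        mul_mem' := by
          rintro _ _ ⟨x, hx, y, hy, rfl⟩ ⟨x', hx', y', hy', rfl⟩
          refine ⟨x * x', mul_mem hx hx', y * y', mul_mem hy hy', ?_⟩
          calc x * y * (x' * y') = x * (y * x') * y' := by group
            _ = x * x' * (y * y') := by rw [hcomm y hy x' hx']; group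
        inv_mem' := by
          rintro _ ⟨x, hx, y, hy, rfl⟩
          refine ⟨x⁻¹, inv_mem hx, y⁻¹, inv_mem hy, ?_⟩
          rw [mul_inv_rev, hcomm _ (inv_mem hy) _ (inv_mem hx)] }
    have hle' : B ⊔ I ≤ J := sup_le (fun x hx => ⟨x, hx, 1, one_mem _, (mul_one x).symm⟩)
      (fun y hy => ⟨1, one_mem _, y, hy, (one_mul y).symm⟩)
    have hmemS : ∀ z ∈ B ⊔ I, z * z = 1 ∧ ∀ v ∈ C, ρ z v = v := by
      intro z hz
      obtain ⟨x, hx, y, hy, rfl⟩ := hle' hz
      refine ⟨?_, fun v hv => by rw [map_mul, MulAut.mul_apply, hy.2.1 v hv, hBfix x hx v hv]⟩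
      calc x * y * (x * y) = x * (y * x) * y := by group
        _ = (x * x) * (y * y) := by rw [hcomm y hy x hx]; group
        _ = 1 := by rw [hB x hx, hI2 y hy, one_mul]
    have hS0mem : B ⊔ I ∈ S0 := ⟨fun z hz => (hmemS z hz).1,
      sup_le hBD ((show I ≤ P from fun x hx => hx.1).trans hPD),
      hBA.trans fun v hv => mem_fixOf.2 fun z hz => (hmemS z hz).2 v hv,
      fun e => hBne (le_bot_iff.1 (le_sup_left.trans e.le))⟩
    have hle := (hmax _ hS0mem).trans_eq hBμ.symm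
    have hcard : Nat.card (B ⊔ I : Subgroup G) ≤ Nat.card B := by
      refine Nat.le_of_mul_le_mul_right ?_ hCpos
      refine le_trans (Nat.mul_le_mul le_rfl ?_) hle
      exact card_le_of_le fun v hv => mem_fixOf.2 fun z hz => (hmemS z hz).2 v hv
    rw [eq_of_le_of_card_ge (le_sup_left : B ≤ B ⊔ I) hcard]
    exact le_sup_right
  have hcom : ∀ p ∈ P, ∀ x ∈ B, p * x * p⁻¹ * x⁻¹ ∈ B ⊓ P := by
    intro p hp x hx
    have hyP : p * x * p⁻¹ * x⁻¹ ∈ P := by
      have h := mul_mem hp ((inferInstance : P.Normal).conj_mem _ (inv_mem hp) x)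
      simpa [mul_assoc] using h
    refine ⟨hIB ⟨hyP, fun v hv => ?_, fun v => ?_⟩, hyP⟩
    · simp only [map_mul, MulAut.mul_apply]
      rw [hBfix _ (inv_mem hx) v hv, hBfix x hx _ (hPC _ (inv_mem hp) v hv), apply_apply_inv]
    · set w := ρ x⁻¹ v with hw
      have e : delt ρ (p * x * p⁻¹ * x⁻¹) v =
          ρ p (delt ρ x (ρ p⁻¹ w)) * delt ρ x⁻¹ v := by
        simp only [delt, map_mul, map_div, MulAut.mul_apply, apply_apply_inv, hw,
          div_mul_div_cancel]
      rw [e]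
      exact mul_mem (hPC p hp _ (hBdelt x hx _)) (hBdelt _ (inv_mem hx) v)
  -- the fixed points of `P`
  set W' := fixOf ρ P with hW'
  have hW'inv : ∀ g, ∀ u ∈ W', ρ g u ∈ W' := fun g u hu => mem_fixOf.2 fun p hp => by
    have h := mem_fixOf.1 hu _ ((inferInstance : P.Normal).conj_mem p hp g⁻¹)
    calc ρ p (ρ g u) = ρ g (ρ (g⁻¹ * p * g⁻¹⁻¹) u) := by
          simp only [← MulAut.mul_apply, ← map_mul]; congr 1; group
      _ = ρ g u := by rw [h]
  by_cases hW'1 : W' ≤ W1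
  swap
  · obtain ⟨g, hg, u, hu, hgu⟩ := hmove W' hW'1
    have h := moved_bound ρ h2 hG hKS T hstr hB hBD (U' := ⊥) (U := W') (X := W' ⊓ C)
      hW'inv (fun g u hu => by rw [mem_bot.1 hu, map_one]; exact one_mem _) bot_le bot_le inf_le_left
      ⟨g, hg, u, hu, fun hb => hgu (div_eq_one.1 (mem_bot.1 hb))⟩
      (fun x hx w hw => mem_bot.2 (div_eq_one.2 (mem_fixOf.1 hw.2 x hx)))
    have hle : W' ⊔ C ≤ C0 := sup_le
      (fun v hv => mem_fixOf.2 fun x hx => mem_fixOf.1 hv x hx.2) hCC0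
    have h5 : a ^ 2 * Nat.card C ≤ Nat.card C0 := by
      refine Nat.le_of_mul_le_mul_right ?_ (Nat.card_pos (α := (W' ⊓ C : Subgroup M)))
      calc a ^ 2 * Nat.card C * Nat.card (W' ⊓ C : Subgroup M)
          = Nat.card C * (a ^ 2 * Nat.card (W' ⊓ C : Subgroup M)) := by ring
        _ ≤ Nat.card C * Nat.card W' := Nat.mul_le_mul le_rfl h
        _ = Nat.card (W' ⊔ C : Subgroup M) * Nat.card (W' ⊓ C : Subgroup M) := by
          rw [card_sup_mul_inf, mul_comm]
        _ ≤ _ := Nat.mul_le_mul (card_le_of_le hle) le_rfl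
    have h6 : b * a ^ 2 ≤ 1 := by
      refine Nat.le_of_mul_le_mul_right (b := 1) ?_
        (Nat.mul_pos (Nat.mul_pos (pow_pos hbpos 2) (pow_pos (by omega : 0 < a) 2)) (pow_pos hCpos 2))
      calc b * a ^ 2 * (b ^ 2 * a ^ 2 * Nat.card C ^ 2) = b ^ 3 * (a ^ 2 * Nat.card C) ^ 2 := by ring
        _ ≤ b ^ 3 * Nat.card C0 ^ 2 := Nat.mul_le_mul le_rfl (Nat.pow_le_pow_left h5 2)
        _ ≤ Nat.card M ^ 2 := hhyp1
        _ ≤ (b * a * Nat.card C) ^ 2 := Nat.pow_le_pow_left hoff' 2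
        _ = _ := by ring
    nlinarith
  -- the centralizer of `P` is a `2`-group
  have hPp : IsPGroup 2 P := T.2.to_le (hPD.trans hDT)
  have hCP : ∀ y : G, (∀ p ∈ P, y * p = p * y) → ∃ k : ℕ, y ^ 2 ^ k = 1 := by
    intro y hy
    obtain ⟨e, he⟩ := exists_two_pow_odd y
    obtain ⟨k, hk⟩ := exists_pow_eq_one_of_fix ρ hρ h2 (Z := P) hPp (y := y ^ 2 ^ e)
      (fun p hp => (Commute.pow_left (hy p hp) _).eq)
      (fun v hv => mem_fixOf.1 (hW'1 hv) _ (mem_oddGen he))
    exact ⟨e + k, by rw [pow_add, pow_mul, hk]⟩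
  set f := QuotientGroup.mk' P with hf
  have hfs : Function.Surjective f := QuotientGroup.mk'_surjective P
  have hfker : f.ker = P := QuotientGroup.ker_mk' P
  obtain ⟨K, hKn, hKp, hKb⟩ := layer_aux (hG.quotient f hfs) (hKS.quotient P) _ G rfl f hfs
    (by rw [hfker]; exact hPp) B (B ⊓ P) ⊤ (elem_map hB f) (by rw [hfker]; exact inf_le_right)
    (by rw [hfker]; exact hcom) (map_top_of_surjective f hfs)
  haveI := hKn
  have hK2 : IsPGroup 2 (K.comap f) := by
    rintro ⟨x, hx⟩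
    obtain ⟨i, hi⟩ := hKp x hx
    rw [hfker] at hi
    obtain ⟨k, hk⟩ := hCP (x ^ 2 ^ i) fun p hp => (mem_centralizer_iff.1 hi p hp).symm
    exact ⟨i + k, Subtype.ext (by
      show x ^ 2 ^ (i + k) = 1
      rw [pow_add, pow_mul, hk])⟩
  have hKTD : K.comap f ⊓ TD ≤ P := by
    rcases hstr (K.comap f) inferInstance with h | h
    · refine absurd ?_ hTne
      rw [← h, sup_eq_right.2 (hK2.le_sylow_of_normal T)]
    · exact h
  have hidx : K.relIndex (B.map f) = a := by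
    have hbot : K ⊓ B.map f = ⊥ := le_bot_iff.1 (by
      rintro _ ⟨hK, x, hx, rfl⟩
      exact mem_bot.2 ((QuotientGroup.eq_one_iff x).2 (hKTD ⟨hK, hBD hx⟩)))
    rw [← Subgroup.inf_relIndex_right, hbot, relIndex_bot_left, ← relIndex_ker, hfker]
  rw [hidx, ← hb] at hKb
  have hab : a ^ 2 ≤ b := le_trans (Nat.le_mul_of_pos_right _ Nat.card_pos) hKb
  have hb1 : b ≠ 1 := by
    intro h1; nlinarith
  have hlast : b ^ 3 * Nat.card C ^ 2 < b ^ 2 * a ^ 2 * Nat.card C ^ 2 := by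
    calc b ^ 3 * Nat.card C ^ 2 ≤ b ^ 3 * Nat.card C0 ^ 2 :=
          Nat.mul_le_mul le_rfl (Nat.pow_le_pow_left (card_le_of_le hCC0) 2)
      _ < Nat.card M ^ 2 := hhyp0 hb1
      _ ≤ (b * a * Nat.card C) ^ 2 := Nat.pow_le_pow_left hoff' 2
      _ = _ := by ring
  have hlast' := Nat.lt_of_mul_lt_mul_right hlast
  rw [pow_succ] at hlast'
  have := Nat.lt_of_mul_lt_mul_left hlast'
  omega

end CfsgLib.FourFree
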