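import Cfsg.Agent.Lib.FourFree.K.CubeImages
import Cfsg.Agent.Lib.FourFree.K.OneLayer
import Cfsg.Agent.Lib.FourFree.K.Core
import Cfsg.Agent.Lib.FourFree.TwoFactor
import Cfsg.Agent.Lib.CFun.FourFreeThompson
import Cfsg.Agent.Lib.CFun.FusionSection

/-!
# Factorizations of constrained groups with restricted sections

In a constrained group without section `S₄` whose simple sections are listed, with `T` a Sylow
`2`-subgroup, `J` its Thompson subgroup and `Ĵ` the subgroup generated by the E-groups over `J`,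
the group is the product of `C(Z(T))` and `N(Ĵ)` and the product of `C(Ω₁(Z(Ĵ)))` and `N(J)`.
A minimal counterexample has the property that every normal subgroup supplements `T` or meets it
in `O₂`, so that a single layer of each module in question is moved.
-/

set_option autoImplicit false
set_option linter.style.haveILetI false

open Subgroup
open CfsgLib.CFun (fixOf mem_fixOf card_mul_relIndex' IsOff delt)
open CfsgLib.Fusion (conjBy mem_conjBy conj_mem_conjBy conjBy_le_iff card_conjBy maxEA)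

namespace CfsgLib.FourFree

universe u v

variable {G : Type u} [Group G]

/-- `g` is a product from the two subgroups. -/
def Fac (c0 n0 : Subgroup G) (g : G) : Prop := ∃ c ∈ c0, ∃ n ∈ n0, g = c * n

/-- The structure of a minimal counterexample. -/
def Supplemented (T : Subgroup G) : Prop :=
  ∀ X : Subgroup G, X.Normal → X ⊔ T = ⊤ ∨ T ⊓ X ≤ Cfsg.pCore 2 G

/-- `Ω₁(Z(U))` for a subgroup. -/
abbrev omegaCenter (U : Subgroup G) : Subgroup G :=
  Cfsg.omegaOne 2 (U ⊓ centralizer (U : Set G))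

theorem EProp.map {X : Type v} [Group X] {f : X →* G} (hf : Function.Injective f)
    {U V : Subgroup X} (h : EProp U V) : EProp (U.map f) (V.map f) := by
  obtain ⟨hVU, hV2, hVn, hVR⟩ := h
  refine ⟨map_mono hVU, ?_, (map_mono hVn).trans (le_normalizer_map f), fun R hR hR2 hRV => ?_⟩
  · rintro _ ⟨v, hv, rfl⟩
    rw [← map_mul, hV2 v hv, map_one]
  obtain ⟨R', rfl⟩ : ∃ R', R = Subgroup.map f R' :=
    ⟨R.comap f, (map_comap_eq_self (hR.trans (map_le_range f U))).symm⟩
  obtain ⟨h1, h3⟩ := hVR R' ((map_le_map_iff_of_injective hf).1 hR) (fun r hr => by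
      rw [← comap_centralizer_map hf, mem_comap, map_mul]
      exact hR2 _ (mem_map_of_mem f hr))
    (fun hle => hRV ((map_le_centralizer_map hf).2 hle))
  rw [← map_commutator, card_inf_centralizer_map hf, card_inf_centralizer_map hf,
    Subgroup.card_map_of_injective hf, Subgroup.card_map_of_injective hf,
    Subgroup.card_map_of_injective hf]
  exact ⟨h1, h3⟩

variable [Finite G]

theorem supplemented_of_fail (T : Sylow 2 G) {c0 n0 : Subgroup G}
    (hrec : ∀ H : Subgroup G, H ≠ ⊤ → (T : Subgroup G) ≤ H → ∀ h ∈ H, Fac c0 n0 h)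
    (hfail : ¬ ∀ g, Fac c0 n0 g) : Supplemented (T : Subgroup G) := by
  haveI : Fact (Nat.Prime 2) := ⟨Nat.prime_two⟩
  intro X hX
  haveI := hX
  by_cases hXT : X ⊔ (T : Subgroup G) = ⊤
  · exact Or.inl hXT
  refine Or.inr ?_
  set S1 := (T : Subgroup G) ⊓ X with hS1
  by_cases hN : normalizer (S1 : Set G) = ⊤
  · haveI : S1.Normal := normalizer_eq_top_iff.1 hN
    exact CfsgLib.Coprime.le_pCore (T.2.to_le inf_le_left)
  refine absurd (fun g => ?_) hfail
  obtain ⟨x, hx, hxg⟩ := frattini_rel (S := S1) (L := ⊤) (T.2.to_le inf_le_left) inf_le_right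
    (CfsgLib.Fusion.not_dvd_relIndex_inf_of_normal T X)
    (fun g _ y hy => hX.conj_mem y hy g) (mem_top g)
  have hTN : (T : Subgroup G) ≤ normalizer (S1 : Set G) :=
    CfsgLib.CFun.le_normalizer_inf le_normalizer
      (le_top.trans (Subgroup.normalizer_eq_top X).ge)
  obtain ⟨c, hc, n, hn, hcn⟩ := hrec _ hN hTN _ hxg
  have hx' : c⁻¹ * x⁻¹ * c ∈ X := by simpa using hX.conj_mem _ (inv_mem hx) c⁻¹
  obtain ⟨c', hc', n', hn', he⟩ := hrec _ hXT le_sup_right _ (mem_sup_left hx')
  refine ⟨c * c', mul_mem hc hc', n' * n, mul_mem hn' hn, ?_⟩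
  calc g = x⁻¹ * (x * g) := by group
    _ = c * (c⁻¹ * x⁻¹ * c) * n := by rw [hcn]; group
    _ = c * c' * (n' * n) := by rw [he]; group

/-- A member of the maximal elementary family measures a commuting elementary subgroup. -/
theorem card_le_relIndex_mul (T : Subgroup G) {E V : Subgroup G} (hE : E ∈ maxEA 2 T)
    (hVT : V ≤ T) (hV : ∀ v ∈ V, v * v = 1) :
    Nat.card V ≤ (centralizer (V : Set G)).relIndex E *
      Nat.card (V ⊓ centralizer (E : Set G) : Subgroup G) := by
  have hE2 : ∀ e ∈ E, e * e = 1 := fun e he => by rw [← pow_two]; exact hE.2.1.2 e he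
  set E0 := E ⊓ centralizer (V : Set G) with hE0
  have hrep := ((CfsgLib.CFun.abFam_maxEA T).rep E hE E0 inf_le_left V hVT hV
    fun b hb v hv => (mem_centralizer_iff.1 hb.2 v hv).symm).1
  have h2 : Nat.card (E0 ⊓ V : Subgroup G) ≤
      Nat.card (V ⊓ centralizer (E : Set G) : Subgroup G) :=
    card_le_of_le fun x hx => ⟨hx.2, mem_centralizer_iff.2 fun e he =>
      elem_comm hE2 he hx.1.1⟩
  refine Nat.le_of_mul_le_mul_left ?_ (Nat.card_pos (α := E0))
  calc Nat.card E0 * Nat.card V ≤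
        Nat.card E * Nat.card (E0 ⊓ V : Subgroup G) :=
        (card_mul_card_le E0 V).trans (Nat.mul_le_mul_right _ hrep)
    _ ≤ Nat.card E * Nat.card (V ⊓ centralizer (E : Set G) : Subgroup G) :=
        Nat.mul_le_mul le_rfl h2
    _ = _ := by rw [card_eq_inf_mul_relIndex (centralizer (V : Set G)) E, mul_assoc]

/-- `J(T)` inside `O₂` is normal. -/
theorem normalizer_thompson_eq_top (T : Sylow 2 G)
    (hJ : Cfsg.thompsonSubgroupOf 2 (T : Subgroup G) ≤ Cfsg.pCore 2 G) :
    normalizer ((Cfsg.thompsonSubgroupOf 2 (T : Subgroup G) : Subgroup G) : Set G) = ⊤ := by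
  haveI : Fact (Nat.Prime 2) := ⟨Nat.prime_two⟩
  haveI hQn : (Cfsg.pCore 2 G).Normal := CfsgLib.Coprime.pCore_normal' 2
  have hQT := (CfsgLib.Coprime.pCore_isPGroup (G := G) 2).le_sylow_of_normal T
  set J := Cfsg.thompsonSubgroupOf 2 (T : Subgroup G) with hJdef
  refine top_le_iff.1 fun g _ => CfsgLib.Fusion.conjBy_eq_iff.1 (CfsgLib.Fusion.conjBy_eq_of_le ?_)
  rw [hJdef, CfsgLib.Fusion.thompsonSubgroupOf_eq, conjBy, map_le_iff_le_comap]
  refine sSup_le fun B hB => map_le_iff_le_comap.1 ?_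
  refine le_sSup ((CfsgLib.CFun.abFam_maxEA (T : Subgroup G)).conj B hB g ?_)
  have hBQ : B ≤ Cfsg.pCore 2 G := by
    refine le_trans ?_ hJ
    rw [hJdef, CfsgLib.Fusion.thompsonSubgroupOf_eq]
    exact le_sSup hB
  exact (conjBy_le_iff.2 fun x hx => hQn.conj_mem x (hBQ hx) g).trans hQT

theorem le_thompson {T E : Subgroup G} (hE : E ∈ maxEA 2 T) :
    E ≤ Cfsg.thompsonSubgroupOf 2 T := by
  rw [CfsgLib.Fusion.thompsonSubgroupOf_eq]
  exact le_sSup hE

theorem thompson_le_of_maxEA {T X : Subgroup G} (h : ∀ E ∈ maxEA 2 T, E ≤ X) :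
    Cfsg.thompsonSubgroupOf 2 T ≤ X := by
  rw [CfsgLib.Fusion.thompsonSubgroupOf_eq]
  exact sSup_le h

/-- Elementary images measured on a normal elementary subgroup centralized by `O₂`. -/
theorem quad_image (hfree : ¬ Cfsg.Involves (Equiv.Perm (Fin 4)) G) (hKS : KS G) (T : Sylow 2 G)
    (hstr : Supplemented (T : Subgroup G)) (D : Subgroup G) [D.Normal] {W : Subgroup G} [W.Normal]
    (hW : ∀ w ∈ W, w * w = 1) (hQW : Cfsg.pCore 2 G ⊓ D ≤ centralizer (W : Set G))
    (hCT : centralizer (W : Set G) ⊔ (T : Subgroup G) ≠ ⊤)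
    {R : Subgroup G} (hR : R ≤ (T : Subgroup G) ⊓ D)
    (hR2 : ∀ r ∈ R, r * r ∈ centralizer (W : Set G)) :
    (centralizer (W : Set G)).relIndex R ^ 2 *
        Nat.card (W ⊓ centralizer (R : Set G) : Subgroup G) ≤ Nat.card W ∧
      (centralizer (W : Set G)).relIndex R ^ 2 ≤ Nat.card (⁅W, R⁆ : Subgroup G) := by
  classical
  haveI : Fact (Nat.Prime 2) := ⟨Nat.prime_two⟩
  have hWc : ∀ a ∈ W, ∀ b ∈ W, Commute a b := fun a ha b hb => elem_comm hW ha hb
  letI : CommGroup W := { mul_comm := fun a b => Subtype.ext (hWc _ a.2 _ b.2) }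
  have hW2 : ∀ w : W, w * w = 1 := fun w => Subtype.ext (hW w w.2)
  set σ : G →* MulAut W := MulAut.conjNormal with hσ
  set π := QuotientGroup.mk' σ.ker with hπdef
  have hπ : Function.Surjective π := QuotientGroup.mk'_surjective _
  set ρ := QuotientGroup.kerLift σ with hρdef
  have hρ : Function.Injective ρ := QuotientGroup.kerLift_injective σ
  have hact : ∀ (y : G) (w : W), ((ρ (π y) w : W) : G) = y * w * y⁻¹ := fun y w =>
    MulAut.conjNormal_apply y w
  have hker : σ.ker = centralizer (W : Set G) := by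
    ext y
    rw [MonoidHom.mem_ker, mem_centralizer_iff]
    constructor
    · intro h w hw
      have h1 := MulAut.conjNormal_apply y (⟨w, hw⟩ : W)
      rw [← hσ, h, MulAut.one_apply] at h1
      exact (mul_inv_eq_iff_eq_mul.1 h1.symm).symm
    · intro h
      refine MulEquiv.ext fun w => Subtype.ext ?_
      rw [hσ, MulAut.conjNormal_apply, MulAut.one_apply]
      exact mul_inv_eq_iff_eq_mul.2 (h w w.2).symm
  set Δ := D.map π with hΔ
  haveI : Δ.Normal := Normal.map inferInstance _ hπ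
  have hcore : Cfsg.pCore 2 Δ = ⊥ := by
    haveI := CfsgLib.Coprime.pCore_characteristic (G := Δ) 2
    set O := (Cfsg.pCore 2 Δ).map Δ.subtype with hO
    haveI hOn : O.Normal := inferInstance
    have hOp : IsPGroup 2 O := (CfsgLib.Coprime.pCore_isPGroup 2).map _
    refine (Subgroup.map_eq_bot_iff_of_injective _ Δ.subtype_injective).1 (le_bot_iff.1 ?_)
    show O ≤ ⊥
    -- a Sylow subgroup of the image
    set TD := (T : Subgroup G) ⊓ D with hTD
    let P0 : Sylow 2 D := ((T.2.to_le (inf_le_left : TD ≤ T)).of_equiv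
      (Subgroup.subgroupOfEquivOfLe (inf_le_right : TD ≤ D)).symm).toSylow
      (CfsgLib.Fusion.not_dvd_relIndex_inf_of_normal T D)
    set P1 := P0.mapSurjective (π.subgroupMap_surjective D) with hP1
    have hOT : O ≤ TD.map π := by
      haveI := CfsgLib.Coprime.pCore_normal' (G := Δ) 2
      have h1 := (CfsgLib.Coprime.pCore_isPGroup (G := Δ) 2).le_sylow_of_normal P1
      rintro _ ⟨d, hd, rfl⟩
      obtain ⟨x, hx, rfl⟩ := h1 hd
      exact ⟨x, hx, rfl⟩
    set K := O.comap π with hK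
    have hKT : K ⊔ (T : Subgroup G) ≠ ⊤ := by
      intro e
      apply hCT
      have hKle : K ≤ centralizer (W : Set G) ⊔ (T : Subgroup G) := by
        intro k hk
        obtain ⟨t, ht, htk⟩ := hOT hk
        have : k * t⁻¹ ∈ centralizer (W : Set G) := by
          rw [← hker, ← QuotientGroup.eq_one_iff, ← QuotientGroup.mk'_apply, ← hπdef, map_mul,
            map_inv, htk, mul_inv_cancel]
        simpa using mul_mem (mem_sup_left this) (mem_sup_right ht.1)
      exact top_le_iff.1 (e ▸ sup_le hKle le_sup_right)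
    intro o ho
    obtain ⟨t, ht, rfl⟩ := hOT ho
    rw [mem_bot, hπdef, QuotientGroup.mk'_apply, QuotientGroup.eq_one_iff, hker]
    rcases hstr K inferInstance with h | h
    · exact absurd h hKT
    · exact hQW ⟨h ⟨ht.1, ho⟩, ht.2⟩
  have hHG : HG (G ⧸ σ.ker) := hg_of_not_involves hfree π hπ (MonoidHom.id W)
    Function.surjective_id hρ inferInstance (fun g e => Subtype.ext (hact g e)) hWc hW2
  set Rb := (R.map π).subgroupOf Δ with hRb
  have hRD : R.map π ≤ Δ := map_mono (hR.trans inf_le_right)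
  have hRb2 : ∀ x ∈ Rb, x * x = 1 := by
    rintro x ⟨r, hr, hrx⟩
    refine Subtype.ext ?_
    show (x : G ⧸ σ.ker) * x = 1
    rw [← show π r = (x : G ⧸ σ.ker) from hrx, ← map_mul, hπdef, QuotientGroup.mk'_apply,
      QuotientGroup.eq_one_iff, hker]
    exact hR2 r hr
  set ρΔ := ρ.comp Δ.subtype with hρΔ
  obtain ⟨h1, h3⟩ := quadratic_bound ρΔ (hρ.comp Δ.subtype_injective) hW2 hcore
    (hHG.subgroup Δ) ((hKS.of_surjective π hπ).subgroup Δ) _ Rb rfl hRb2
  have e1 : (centralizer (W : Set G)).relIndex R = Nat.card Rb := by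
    rw [hRb, Nat.card_congr (Subgroup.subgroupOfEquivOfLe hRD).toEquiv, ← relIndex_ker,
      hπdef, QuotientGroup.ker_mk', hker]
  have e2 : Nat.card (W ⊓ centralizer (R : Set G) : Subgroup G) ≤ Nat.card (fixOf ρΔ Rb) := by
    rw [← Subgroup.card_map_of_injective (K := fixOf ρΔ Rb) W.subtype_injective]
    refine card_le_of_le fun w hw => ⟨⟨w, hw.1⟩, mem_fixOf.2 ?_, rfl⟩
    rintro x ⟨r, hr, hrx⟩
    refine Subtype.ext ?_
    show ((ρ (x : G ⧸ σ.ker) ⟨w, hw.1⟩ : W) : G) = w
    rw [← show π r = (x : G ⧸ σ.ker) from hrx, hact]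
    exact mul_inv_eq_iff_eq_mul.2 (mem_centralizer_iff.1 hw.2 r hr)
  have e3 : Nat.card (comIn ρΔ ⊤ Rb) ≤ Nat.card (⁅W, R⁆ : Subgroup G) := by
    rw [← Subgroup.card_map_of_injective (K := comIn ρΔ ⊤ Rb) W.subtype_injective]
    refine card_le_of_le ?_
    rw [map_le_iff_le_comap, comIn, closure_le]
    rintro _ ⟨x, ⟨r, hr, hrx⟩, w, -, rfl⟩
    show ((ρ (x : G ⧸ σ.ker) w / w : W) : G) ∈ ⁅W, R⁆
    rw [Subgroup.coe_div, ← show π r = (x : G ⧸ σ.ker) from hrx, hact, commutator_comm,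
      div_eq_mul_inv]
    exact commutator_mem_commutator hr w.2
  rw [e1]
  exact ⟨(Nat.mul_le_mul le_rfl e2).trans h1, h3.trans e3⟩

/-- The large elementary subgroups centralize such a subgroup. -/
theorem maxEA_le_centralizer (hfree : ¬ Cfsg.Involves (Equiv.Perm (Fin 4)) G) (hKS : KS G)
    (T : Sylow 2 G) (hstr : Supplemented (T : Subgroup G)) (D : Subgroup G) [D.Normal]
    {W : Subgroup G} [W.Normal] (hW : ∀ w ∈ W, w * w = 1) (hWT : W ≤ (T : Subgroup G))
    (hQW : Cfsg.pCore 2 G ⊓ D ≤ centralizer (W : Set G))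
    (hCT : centralizer (W : Set G) ⊔ (T : Subgroup G) ≠ ⊤)
    {E : Subgroup G} (hE : E ∈ maxEA 2 (T : Subgroup G)) (hED : E ≤ D) :
    E ≤ centralizer (W : Set G) := by
  obtain ⟨h1, -⟩ := quad_image hfree hKS T hstr D hW hQW hCT (le_inf hE.1 hED) fun r hr => by
    rw [show r * r = 1 by rw [← pow_two]; exact hE.2.1.2 r hr]
    exact one_mem _
  have h2 := card_le_relIndex_mul _ hE hWT hW
  set r := (centralizer (W : Set G)).relIndex E with hr
  have hpos : r ≠ 0 := index_ne_zero_of_finite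
  have h3 : r ^ 2 ≤ r := Nat.le_of_mul_le_mul_right (h1.trans h2) Nat.card_pos
  refine relIndex_eq_one.1 ?_
  rw [← hr]
  nlinarith [Nat.pos_of_ne_zero hpos]

theorem centerInvol_normal (Q : Subgroup G) [hQ : Q.Normal] : (centerInvol Q).Normal := by
  refine ⟨fun z hz g => ⟨hQ.conj_mem z hz.1 g, fun q hq => ?_, ?_⟩⟩
  · have := hz.2.1 (g⁻¹ * q * g) (by simpa using hQ.conj_mem q hq g⁻¹)
    calc g * z * g⁻¹ * q = g * (z * (g⁻¹ * q * g)) * g⁻¹ := by group
      _ = q * (g * z * g⁻¹) := by rw [this]; group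
  · calc g * z * g⁻¹ * (g * z * g⁻¹) = g * (z * z) * g⁻¹ := by group
      _ = 1 := by rw [hz.2.2]; group

theorem centerInvol_cent (Q : Subgroup G) : Q ≤ centralizer ((centerInvol Q : Subgroup G) : Set G) :=
  fun q hq => mem_centralizer_iff.2 fun _ hz => hz.2.1 q hq

/-- An element of odd order fixing the involutions of an abelian `2`-group fixes the group. -/
theorem commute_of_odd_of_fix_invol {Q : Subgroup G} (hQ : IsPGroup 2 Q) (hQn : Q.Normal)
    (hQc : ∀ a ∈ Q, ∀ b ∈ Q, a * b = b * a) {x : G} (hx : Odd (orderOf x))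
    (hfix : ∀ a ∈ Q, a * a = 1 → x * a = a * x) : ∀ a ∈ Q, x * a = a * x := by
  suffices h : ∀ n, ∀ a ∈ Q, a ^ 2 ^ n = 1 → x * a = a * x from fun a ha => by
    obtain ⟨k, hk⟩ := hQ ⟨a, ha⟩
    exact h k a ha (congrArg Subtype.val hk)
  intro n
  induction n with
  | zero =>
    intro a _ h
    rw [pow_zero, pow_one] at h
    rw [h, mul_one, one_mul]
  | succ n ih =>
    intro a ha h
    have h2 := ih (a * a) (mul_mem ha ha) (by rw [← pow_two, ← pow_mul, ← pow_succ']; exact h)
    set d := x * a * x⁻¹ * a⁻¹ with hd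
    have hdQ : d ∈ Q := mul_mem (hQn.conj_mem a ha x) (inv_mem ha)
    have hdd : d * d = 1 := by
      have e1 : x * a * x⁻¹ * (x * a * x⁻¹) = a * a := by
        calc x * a * x⁻¹ * (x * a * x⁻¹) = x * (a * a) * x⁻¹ := by group
          _ = a * a := by rw [h2, mul_inv_cancel_right]
      calc d * d = x * a * x⁻¹ * (x * a * x⁻¹) * (a⁻¹ * a⁻¹) := by
            rw [hd]
            have hc : a⁻¹ * (x * a * x⁻¹) = x * a * x⁻¹ * a⁻¹ :=
              hQc _ (inv_mem ha) _ (hQn.conj_mem a ha x)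
            calc x * a * x⁻¹ * a⁻¹ * (x * a * x⁻¹ * a⁻¹)
                = x * a * x⁻¹ * (a⁻¹ * (x * a * x⁻¹)) * a⁻¹ := by group
              _ = _ := by rw [hc]; group
        _ = 1 := by rw [e1]; group
    have hxd := hfix d hdQ hdd
    have hxa : x * a * x⁻¹ = d * a := by rw [hd]; group
    have hpow : ∀ m : ℕ, x ^ m * a * (x ^ m)⁻¹ = d ^ m * a := by
      intro m
      induction m with
      | zero => simp
      | succ m ihm =>
        have hc : x * d ^ m = d ^ m * x := (Commute.pow_right hxd m).eq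
        calc x ^ (m + 1) * a * (x ^ (m + 1))⁻¹ = x * (x ^ m * a * (x ^ m)⁻¹) * x⁻¹ := by
              rw [pow_succ']; group
          _ = x * d ^ m * a * x⁻¹ := by rw [ihm]; group
          _ = d ^ m * (x * a * x⁻¹) := by rw [hc]; group
          _ = d ^ (m + 1) * a := by rw [hxa, pow_succ]; group
    obtain ⟨j, hj⟩ := hx
    have h1 := hpow (orderOf x)
    rw [pow_orderOf_eq_one, one_mul, inv_one, mul_one, hj, pow_succ, pow_mul, pow_two, hdd,
      one_pow, one_mul, right_eq_mul] at h1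
    rw [hd, mul_inv_eq_one, mul_inv_eq_iff_eq_mul] at h1
    exact h1

/-- The subgroup `Ĵ` version of the first factorization. -/
theorem fac_jHat (hfree : ¬ Cfsg.Involves (Equiv.Perm (Fin 4)) G) (hKS : KS G)
    (hcon : centralizer (Cfsg.pCore 2 G : Set G) ≤ Cfsg.pCore 2 G) (T : Sylow 2 G)
    (hrec : ∀ H : Subgroup G, H ≠ ⊤ → (T : Subgroup G) ≤ H → ∀ h ∈ H,
      Fac (centralizer (((T : Subgroup G) ⊓ centralizer ((T : Subgroup G) : Set G) :
        Subgroup G) : Set G))
        (normalizer ((jHatIn (T : Subgroup G) : Subgroup G) : Set G)) h) (g : G) :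
    Fac (centralizer (((T : Subgroup G) ⊓ centralizer ((T : Subgroup G) : Set G) :
        Subgroup G) : Set G))
        (normalizer ((jHatIn (T : Subgroup G) : Subgroup G) : Set G)) g := by
  haveI : Fact (Nat.Prime 2) := ⟨Nat.prime_two⟩
  by_contra hg
  have hstr := supplemented_of_fail T hrec fun h => hg (h g)
  haveI hQn : (Cfsg.pCore 2 G).Normal := CfsgLib.Coprime.pCore_normal' 2
  set Q := Cfsg.pCore 2 G with hQ
  have hQp : IsPGroup 2 Q := CfsgLib.Coprime.pCore_isPGroup 2
  have hQT : Q ≤ (T : Subgroup G) := hQp.le_sylow_of_normal T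
  set ZQ := Q ⊓ centralizer (Q : Set G) with hZQ
  haveI : ZQ.Normal := Subgroup.normal_inf_normal Q _
  set X2 := centralizer (ZQ : Set G) with hX2
  have hTJ : (T : Subgroup G) ≤ normalizer ((jHatIn (T : Subgroup G) : Subgroup G) : Set G) :=
    fun t ht => CfsgLib.Fusion.conjBy_eq_iff.1 (by
      rw [conjBy_jHatIn_le, CfsgLib.Fusion.conjBy_eq_iff.2 (le_normalizer ht)])
  by_cases hX2T : X2 ⊔ (T : Subgroup G) = ⊤
  · obtain ⟨x, hx, t, ht, rfl⟩ := Subgroup.mem_sup_of_normal_left.1 (hX2T.symm ▸ mem_top g)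
    refine hg ⟨x, centralizer_le ?_ hx, t, hTJ ht, rfl⟩
    intro z hz
    have h1 : z ∈ centralizer (Q : Set G) := centralizer_le (fun q hq => hQT hq) hz.2
    exact ⟨hcon h1, h1⟩
  set W1 := centerInvol Q with hW1
  haveI : W1.Normal := centerInvol_normal Q
  set X1 := centralizer (W1 : Set G) with hX1
  have hX1T : X1 ⊔ (T : Subgroup G) ≠ ⊤ := by
    intro e
    apply hX2T
    set π := QuotientGroup.mk' X2
    have hπ := QuotientGroup.mk'_surjective X2
    haveI : (X1.map π).Normal := Normal.map inferInstance _ hπ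
    have hp : IsPGroup 2 (X1.map π) := by
      rintro ⟨_, x, hx, rfl⟩
      obtain ⟨i, hi⟩ := exists_two_pow_odd x
      refine ⟨i, Subtype.ext ?_⟩
      show π x ^ 2 ^ i = 1
      rw [← map_pow, QuotientGroup.mk'_apply, QuotientGroup.eq_one_iff]
      refine mem_centralizer_iff.2 fun a ha => (commute_of_odd_of_fix_invol (hQp.to_le inf_le_left)
        inferInstance (fun b hb c hc => (mem_centralizer_iff.1 hb.2 c hc.1).symm) hi
        (fun b hb hb2 => (mem_centralizer_iff.1 (pow_mem hx _) b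
          ⟨hb.1, fun q hq => (mem_centralizer_iff.1 hb.2 q hq).symm, hb2⟩).symm) a ha).symm
    have hle : X1.map π ≤ (T : Subgroup G).map π := hp.le_sylow_of_normal (T.mapSurjective hπ)
    rw [map_le_iff_le_comap, comap_map_eq, QuotientGroup.ker_mk', sup_comm] at hle
    exact top_le_iff.1 (e ▸ sup_le hle le_sup_right)
  have hTX1 : (T : Subgroup G) ⊓ X1 ≤ Q := (hstr X1 inferInstance).resolve_left hX1T
  have hW2 : ∀ w ∈ W1, w * w = 1 := fun w hw => hw.2.2
  have hW1T : W1 ≤ (T : Subgroup G) := fun w hw => hQT hw.1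
  have hQW : Q ⊓ ⊤ ≤ X1 := inf_le_left.trans (centerInvol_cent Q)
  have hEX : ∀ E ∈ maxEA 2 (T : Subgroup G), E ≤ X1 := fun E hE =>
    maxEA_le_centralizer hfree hKS T hstr ⊤ hW2 hW1T hQW hX1T hE le_top
  have hJQ : Cfsg.thompsonSubgroupOf 2 (T : Subgroup G) ≤ Q :=
    thompson_le_of_maxEA fun E hE => (le_inf hE.1 (hEX E hE)).trans hTX1
  have hWJ : W1 ≤ Cfsg.thompsonSubgroupOf 2 (T : Subgroup G) := by
    obtain ⟨E, hE⟩ := CfsgLib.Fusion.exists_isMaxEA 2 (T : Subgroup G)
    intro w hw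
    exact le_thompson hE ((CfsgLib.CFun.abFam_maxEA (T : Subgroup G)).mem_of_commute hE
      (hW1T hw) (hW2 w hw) fun e he => (mem_centralizer_iff.1 (hEX E hE he) w hw).symm)
  have hUQ : ∀ U : Subgroup G, U ≤ (T : Subgroup G) →
      Cfsg.thompsonSubgroupOf 2 (T : Subgroup G) ≤ U → EG U → U ≤ Q := by
    intro U hUT hJU hU
    refine (le_inf hUT (hU W1 ⟨hWJ.trans hJU, hW2, le_top.trans (normalizer_eq_top W1).ge,
      fun R hR hR2 hRW => ?_⟩)).trans hTX1
    obtain ⟨h1, h2⟩ := quad_image hfree hKS T hstr ⊤ hW2 hQW hX1T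
      (le_inf (hR.trans hUT) le_top) hR2
    have hr2 : 2 ≤ X1.relIndex R := by
      by_contra hlt
      have hpos : X1.relIndex R ≠ 0 := index_ne_zero_of_finite
      exact hRW (relIndex_eq_one.1 (show X1.relIndex R = 1 by omega))
    rw [card_eq_inf_mul_relIndex X1 R]
    set r := X1.relIndex R
    set c := Nat.card (R ⊓ X1 : Subgroup G) with hc
    set w := Nat.card (W1 ⊓ centralizer (R : Set G) : Subgroup G) with hw
    have hcpos : 0 < c := Nat.card_pos
    have hwpos : 0 < w := Nat.card_pos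
    constructor
    · calc (c * r) ^ 3 * w ^ 2 = r ^ 3 * (w ^ 2 * c ^ 3) := by ring
        _ < r ^ 4 * (w ^ 2 * c ^ 3) := Nat.mul_lt_mul_of_pos_right
            (Nat.pow_lt_pow_right (by omega) (by norm_num)) (by positivity)
        _ = (r ^ 2 * w) ^ 2 * c ^ 3 := by ring
        _ ≤ Nat.card W1 ^ 2 * c ^ 3 := Nat.mul_le_mul_right _ (Nat.pow_le_pow_left h1 2)
    · calc c * r = r * c := mul_comm c r
        _ < r ^ 2 * c := Nat.mul_lt_mul_of_pos_right (by
          calc r = r ^ 1 := (pow_one r).symm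
            _ < r ^ 2 := Nat.pow_lt_pow_right (by omega) (by norm_num)) hcpos
        _ ≤ Nat.card (⁅W1, R⁆ : Subgroup G) * c := Nat.mul_le_mul_right _ h2
  refine hg ⟨1, one_mem _, g, CfsgLib.Fusion.conjBy_eq_iff.1
    (CfsgLib.Fusion.conjBy_eq_of_le ?_), (one_mul g).symm⟩
  rw [jHatIn, conjBy, map_le_iff_le_comap]
  refine sSup_le ?_
  rintro U ⟨hUT, hJU, hU⟩
  rw [← map_le_iff_le_comap]
  refine le_sSup ⟨(conjBy_le_iff.2 fun x hx => hQn.conj_mem x (hUQ U hUT hJU hU hx) g).trans hQT,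
    ?_, (eG_map_iff (MulAut.conj g).injective U).2 hU⟩
  rw [← CfsgLib.Fusion.conjBy_eq_iff.2
    ((normalizer_thompson_eq_top T hJQ).ge (mem_top g))]
  exact map_mono hJU

/-- The group generated by `J` and `O₂` of its normal closure is an E-group. -/
theorem eG_sup_thompson (hfree : ¬ Cfsg.Involves (Equiv.Perm (Fin 4)) G) (hKS : KS G)
    (hcon : centralizer (Cfsg.pCore 2 G : Set G) ≤ Cfsg.pCore 2 G) (T : Sylow 2 G)
    (hstr : Supplemented (T : Subgroup G))
    (hJQ : ¬ Cfsg.thompsonSubgroupOf 2 (T : Subgroup G) ≤ Cfsg.pCore 2 G)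
    (D : Subgroup G) [D.Normal] (hJD : Cfsg.thompsonSubgroupOf 2 (T : Subgroup G) ≤ D)
    (hDmin : ∀ X : Subgroup G, X.Normal → Cfsg.thompsonSubgroupOf 2 (T : Subgroup G) ≤ X →
      D ≤ X)
    (hDT : D ⊔ (T : Subgroup G) = ⊤)
    (hconD : centralizer (Cfsg.pCore 2 D : Set D) ≤ Cfsg.pCore 2 D) :
    EG (Cfsg.pCore 2 G ⊓ D ⊔ Cfsg.thompsonSubgroupOf 2 (T : Subgroup G)) := by
  classical
  haveI : Fact (Nat.Prime 2) := ⟨Nat.prime_two⟩
  haveI hQn : (Cfsg.pCore 2 G).Normal := CfsgLib.Coprime.pCore_normal' 2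
  haveI hQDn : (Cfsg.pCore 2 G ⊓ D).Normal := Subgroup.normal_inf_normal _ D
  set Q := Cfsg.pCore 2 G with hQ
  set QD := Q ⊓ D with hQD
  set T0 : Subgroup G := (T : Subgroup G) with hT0
  set J := Cfsg.thompsonSubgroupOf 2 T0 with hJ
  set U := QD ⊔ J with hU
  have hQp : IsPGroup 2 Q := CfsgLib.Coprime.pCore_isPGroup 2
  have hQT : Q ≤ T0 := hQp.le_sylow_of_normal T
  have hQDT : QD ≤ T0 := inf_le_left.trans hQT
  have hJT : J ≤ T0 := CfsgLib.Fusion.thompsonSubgroupOf_le T0
  have hUT : U ≤ T0 := sup_le hQDT hJT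
  have hUD : U ≤ D := sup_le inf_le_right hJD
  intro V1 hV1
  set ℱ := {V : Subgroup G | EProp U V} with hℱ
  set A := sSup ℱ with hA
  have hV1A : V1 ≤ A := le_sSup hV1
  have hAE : ∀ E ∈ maxEA 2 T0, A ≤ E := by
    intro E hE
    refine sSup_le fun V hV v hv => ?_
    have hV' : EProp U V := hV
    have hEU : E ≤ U := (le_thompson hE).trans le_sup_right
    have hEV : E ≤ centralizer (V : Set G) := by
      by_contra hne
      have hcube := hV'.cube (le_refl U) E hEU (fun r hr => by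
        rw [show r * r = 1 by rw [← pow_two]; exact hE.2.1.2 r hr]
        exact one_mem _) hne
      have h2 := card_le_relIndex_mul T0 hE (hV'.1.trans hUT) hV'.2.1
      set r := (centralizer (V : Set G)).relIndex E
      set w := Nat.card (V ⊓ centralizer (E : Set G) : Subgroup G)
      have hlt : r ^ 3 * w ^ 2 < r ^ 2 * w ^ 2 := lt_of_lt_of_le hcube (by
        rw [← mul_pow]; exact Nat.pow_le_pow_left h2 2)
      have hrpos : 1 ≤ r := Nat.pos_of_ne_zero index_ne_zero_of_finite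
      exact absurd hlt (not_lt.2 (Nat.mul_le_mul_right _ (Nat.pow_le_pow_right hrpos (by norm_num))))
    exact (CfsgLib.CFun.abFam_maxEA T0).mem_of_commute hE (hUT (hV'.1 hv)) (hV'.2.1 v hv)
      fun e he => (mem_centralizer_iff.1 (hEV he) v hv).symm
  obtain ⟨E0, hE0⟩ := CfsgLib.Fusion.exists_isMaxEA 2 T0
  have hA2 : ∀ a ∈ A, a * a = 1 := fun a ha => by
    rw [← pow_two]; exact hE0.2.1.2 a (hAE E0 hE0 ha)
  have hJA : J ≤ centralizer (A : Set G) := thompson_le_of_maxEA fun E hE e he =>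
    mem_centralizer_iff.2 fun a ha => elem_comm (fun x hx => by
      rw [← pow_two]; exact hE.2.1.2 x hx) (hAE E hE ha) he
  have hTU : ∀ t ∈ T0, conjBy t U = U := fun t ht => by
    rw [hU, conjBy, Subgroup.map_sup]
    refine congrArg₂ _ ?_ ?_
    · exact CfsgLib.Fusion.conjBy_eq_iff.2 ((normalizer_eq_top QD).ge (mem_top t))
    · exact CfsgLib.Fusion.conjBy_eq_iff.2
        (CfsgLib.Fusion.normalizer_le_normalizer_thompsonSubgroupOf T0 (le_normalizer ht))
  have hTA : T0 ≤ normalizer (A : Set G) := fun t ht => by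
    refine CfsgLib.Fusion.conjBy_eq_iff.1 (CfsgLib.Fusion.conjBy_eq_of_le ?_)
    rw [hA, conjBy, map_le_iff_le_comap]
    refine sSup_le fun V hV => ?_
    rw [← map_le_iff_le_comap]
    refine le_sSup ?_
    show EProp U (conjBy t V)
    rw [← hTU t ht]
    exact EProp.map (MulAut.conj t).injective hV
  have hcube : CubeImages QD A := cubeImages_sSup ℱ fun V hV => EProp.cube hV le_sup_left
  -- inside `D`
  set AD := A.subgroupOf D with hADdef
  have hAD : A ≤ D := sSup_le fun V hV => hV.1.trans hUD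
  haveI : (Cfsg.pCore 2 D).Normal := CfsgLib.Coprime.pCore_normal' 2
  have hcoreD : (Cfsg.pCore 2 D).map D.subtype = QD := CfsgLib.Coprime.pCore_map_subtype_eq 2 D
  have hmemQD : ∀ q : D, q ∈ Cfsg.pCore 2 D ↔ (q : G) ∈ QD := fun q => by
    rw [← hcoreD]
    exact (Subgroup.mem_map_iff_mem D.subtype_injective).symm
  have hfreeD : ¬ Cfsg.Involves (Equiv.Perm (Fin 4)) D := fun h =>
    hfree (CfsgLib.Fusion.involves_of_injective D.subtype D.subtype_injective h)
  have hsmD : SmallImages (Cfsg.pCore 2 D) AD := by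
    intro R hR hR2 hne
    have hm : AD.map D.subtype = A := map_subgroupOf_eq_of_le hAD
    have h1 := hcube.small (R.map D.subtype) (hcoreD ▸ map_mono hR)
      (by rintro _ ⟨r, hr, rfl⟩; rw [← map_mul, hR2 r hr, map_one])
      (fun hle => hne (by rw [← hm] at hle; exact (map_le_centralizer_map D.subtype_injective).1 hle))
    rw [← hm, card_inf_centralizer_map D.subtype_injective,
      card_inf_centralizer_map D.subtype_injective,
      Subgroup.card_map_of_injective D.subtype_injective,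
      Subgroup.card_map_of_injective D.subtype_injective] at h1
    exact h1
  obtain ⟨hAQD', hcommD⟩ := le_pCore_of_smallImages hconD (hg_quotient_pCore hfreeD hconD)
    ((hKS.subgroup D).quotient _) (V := AD) (fun a ha => Subtype.ext (hA2 _ ha))
    (fun q hq a ha => (Subgroup.mem_normalizer_iff.1 (hTA (hQDT ((hmemQD q).1 hq))) _).1 ha) hsmD
  have hAQD : A ≤ QD := fun a ha => (hmemQD ⟨a, hAD ha⟩).1 (hAQD' ha)
  have hsplit : ∀ g : G, ∃ d ∈ D, ∃ t ∈ T0, g = d * t := fun g => by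
    obtain ⟨d, hd, t, ht, h⟩ := Subgroup.mem_sup_of_normal_left.1 (hDT.symm ▸ mem_top g)
    exact ⟨d, hd, t, ht, h.symm⟩
  have hconjD : ∀ g : G, ∃ d ∈ D, conjBy g A = conjBy d A := fun g => by
    obtain ⟨d, hd, t, ht, rfl⟩ := hsplit g
    exact ⟨d, hd, by rw [← CfsgLib.Fusion.conjBy_conjBy, CfsgLib.Fusion.conjBy_eq_iff.2 (hTA ht)]⟩
  have hcomm : ∀ g : G, ∀ x ∈ A, ∀ y ∈ conjBy g A, x * y = y * x := by
    intro g x hx y hy
    obtain ⟨d, hd, e⟩ := hconjD g
    rw [e] at hy
    have hyD : y ∈ D := (inferInstance : D.Normal).conj_mem _ (hAD (mem_conjBy.1 hy)) d |> fun h =>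
      by simpa [mul_assoc] using h
    exact congrArg Subtype.val (hcommD ⟨d, hd⟩ ⟨x, hAD hx⟩ hx ⟨y, hyD⟩
      (mem_conjBy.2 (show d⁻¹ * y * d ∈ A from mem_conjBy.1 hy)))
  set W := normalClosure (A : Set G) with hWdef
  haveI hWn : W.Normal := normalClosure_normal
  have hAW : A ≤ W := subset_normalClosure
  have hWQD : W ≤ QD := normalClosure_le_normal hAQD
  have hWgen : W = ⨆ g : G, conjBy g A := by
    refine le_antisymm ?_ (iSup_le fun g => conjBy_le_iff.2 fun a ha => hWn.conj_mem a (hAW ha) g)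
    rw [hWdef, normalClosure, closure_le]
    intro y hy
    obtain ⟨a, ha, hay⟩ := Group.mem_conjugatesOfSet_iff.1 hy
    obtain ⟨g, rfl⟩ := isConj_iff.1 hay
    exact mem_iSup_of_mem g (conj_mem_conjBy ha)
  have hWc : ∀ x ∈ W, ∀ y ∈ W, Commute x y := by
    have key : W ≤ centralizer (W : Set G) := by
      refine normalClosure_le_normal ?_
      intro a ha
      refine mem_centralizer_iff.2 fun w hw => ?_
      have hle : W ≤ centralizer ({a} : Set G) := hWgen.le.trans (iSup_le fun g x hx =>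
        mem_centralizer_singleton_iff.2 (hcomm g a ha x hx).symm)
      exact mem_centralizer_singleton_iff.1 (hle hw)
    exact fun x hx y hy => (mem_centralizer_iff.1 (key hy) x hx)
  have hW2' : ∀ w ∈ W, w * w = 1 := by
    let E : Subgroup G :=
      { carrier := {e | e ∈ W ∧ e * e = 1}
        one_mem' := ⟨one_mem W, one_mul 1⟩
        mul_mem' := fun {a b} ha hb => ⟨mul_mem ha.1 hb.1, by
          rw [(hWc a ha.1 b hb.1).symm.mul_mul_mul_comm, ha.2, hb.2, one_mul]⟩
        inv_mem' := fun {a} ha => ⟨inv_mem ha.1, by rw [← mul_inv_rev, ha.2, inv_one]⟩ }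
    have hle : W ≤ E := hWgen.le.trans (iSup_le fun g x hx => ⟨by
        have h1 : g⁻¹ * x * g ∈ W := hAW (mem_conjBy.1 hx)
        simpa [mul_assoc] using hWn.conj_mem _ h1 g, by
        have h1 : g⁻¹ * x * g ∈ A := mem_conjBy.1 hx
        calc x * x = g * ((g⁻¹ * x * g) * (g⁻¹ * x * g)) * g⁻¹ := by group
          _ = 1 := by rw [hA2 _ h1]; group⟩)
    exact fun w hw => (hle hw).2
  -- it suffices that `J` centralizes `W`
  by_cases hCT : centralizer (W : Set G) ⊔ T0 = ⊤
  · have hAn : A.Normal := by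
      refine normalizer_eq_top_iff.1 (top_le_iff.1 (hCT ▸ sup_le ?_ hTA))
      exact (centralizer_le (show (A : Set G) ⊆ W from hAW)).trans (centralizer_le_normalizer _)
    haveI := hAn
    exact (hUD.trans (hDmin _ inferInstance hJA)).trans
      (centralizer_le (show (V1 : Set G) ⊆ A from hV1A))
  exfalso
  apply hJQ
  letI : CommGroup W := { mul_comm := fun a b => Subtype.ext (hWc _ a.2 _ b.2) }
  have hW2 : ∀ w : W, w * w = 1 := fun w => Subtype.ext (hW2' w w.2)
  set σ : G →* MulAut W := MulAut.conjNormal with hσ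
  set π := QuotientGroup.mk' σ.ker with hπdef
  have hπ : Function.Surjective π := QuotientGroup.mk'_surjective _
  set ρ := QuotientGroup.kerLift σ with hρdef
  have hρ : Function.Injective ρ := QuotientGroup.kerLift_injective σ
  have hact : ∀ (y : G) (w : W), ((ρ (π y) w : W) : G) = y * w * y⁻¹ := fun y w =>
    MulAut.conjNormal_apply y w
  have hkerW : σ.ker = centralizer (W : Set G) := by
    ext y
    rw [MonoidHom.mem_ker, mem_centralizer_iff]
    constructor
    · intro h w hw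
      have h1 := MulAut.conjNormal_apply y (⟨w, hw⟩ : W)
      rw [← hσ, h, MulAut.one_apply] at h1
      exact (mul_inv_eq_iff_eq_mul.1 h1.symm).symm
    · intro h
      refine MulEquiv.ext fun w => Subtype.ext ?_
      rw [hσ, MulAut.conjNormal_apply, MulAut.one_apply]
      exact mul_inv_eq_iff_eq_mul.2 (h w w.2).symm
  have hπker : π.ker = centralizer (W : Set G) := by
    rw [hπdef, QuotientGroup.ker_mk', hkerW]
  have hHG : HG (G ⧸ σ.ker) := hg_of_not_involves hfree π hπ (MonoidHom.id W)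
    Function.surjective_id hρ hWn (fun g e => Subtype.ext (hact g e)) hWc hW2
  set Tb := T.mapSurjective hπ with hTb
  have hTbne : (Tb : Subgroup (G ⧸ σ.ker)) ≠ ⊤ := by
    intro e
    apply hCT
    have e' : (T0.map π).comap π = ⊤ := by
      rw [show T0.map π = ⊤ from e, comap_top]
    rw [comap_map_eq, hπker, sup_comm] at e'
    exact e'
  haveI : (QD.map π).Normal := Normal.map inferInstance _ hπ
  have hstr' : ∀ K : Subgroup (G ⧸ σ.ker), K.Normal → K ⊔ (Tb : Subgroup (G ⧸ σ.ker)) = ⊤ ∨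
      K ⊓ (T0 ⊓ D).map π ≤ QD.map π := by
    intro K hK
    haveI := hK
    rcases hstr (K.comap π) inferInstance with h | h
    · refine Or.inl ?_
      have := congrArg (Subgroup.map π) h
      rwa [Subgroup.map_sup, map_comap_eq_self_of_surjective hπ, map_top_of_surjective π hπ] at this
    · refine Or.inr ?_
      rintro _ ⟨hK', x, hx, rfl⟩
      exact mem_map_of_mem π ⟨h ⟨hx.1, hK'⟩, hx.2⟩
  set A' := A.subgroupOf W with hA'
  have hAT : ∀ t ∈ (Tb : Subgroup (G ⧸ σ.ker)), ∀ a ∈ A', ρ t a ∈ A' := by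
    rintro _ ⟨t, ht, rfl⟩ a ha
    show ((ρ (π t) a : W) : G) ∈ A
    rw [hact]
    exact (Subgroup.mem_normalizer_iff.1 (hTA ht) _).1 ha
  have hgen : transl ρ ⊤ A' = ⊤ := by
    refine (Subgroup.eq_top_iff' _).2 fun w => ?_
    have hle : (⨆ g : G, conjBy g A) ≤ (transl ρ ⊤ A').map W.subtype := by
      refine iSup_le fun g => conjBy_le_iff.2 fun a ha =>
        ⟨ρ (π g) ⟨a, hAW ha⟩, mem_transl (mem_top _) ha, ?_⟩
      exact hact g _
    obtain ⟨v, hv, hvw⟩ := hle (hWgen.le w.2)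
    rwa [← Subtype.ext hvw]
  have hhyp : ∀ X : Subgroup (G ⧸ σ.ker), X ≤ QD.map π → (∀ x ∈ X, x * x = 1) → X ≠ ⊥ →
      Nat.card X ^ 3 * Nat.card (fixOf ρ X) ^ 2 < Nat.card W ^ 2 := by
    intro X hX hX2 hXne
    set R := QD ⊓ X.comap π with hR
    have hRX : R.map π = X := by
      refine le_antisymm (map_le_iff_le_comap.2 inf_le_right) fun x hx => ?_
      obtain ⟨r, hr, rfl⟩ := hX hx
      exact mem_map_of_mem π ⟨hr, hx⟩
    have hcubeW : CubeImages QD W := by
      rw [hWgen, ← sSup_range]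
      refine cubeImages_sSup _ ?_
      rintro _ ⟨g, rfl⟩
      exact hcube.conj ((normalizer_eq_top QD).ge (mem_top g))
    have h1 := hcubeW R inf_le_left (fun r hr => by
      rw [← hπker, MonoidHom.mem_ker, map_mul]
      exact hX2 _ hr.2) (fun hle => hXne (by
      rw [← hRX, Subgroup.map_eq_bot_iff, hπker]; exact hle))
    have e1 : (centralizer (W : Set G)).relIndex R = Nat.card X := by
      rw [← hπker, relIndex_ker, hRX]
    have e2 : Nat.card (fixOf ρ X) ≤ Nat.card (W ⊓ centralizer (R : Set G) : Subgroup G) := by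
      rw [← Subgroup.card_map_of_injective (K := fixOf ρ X) W.subtype_injective]
      refine card_le_of_le ?_
      rintro _ ⟨v, hv, rfl⟩
      refine ⟨v.2, mem_centralizer_iff.2 fun r hr => ?_⟩
      have := congrArg Subtype.val (mem_fixOf.1 hv _ (hRX ▸ mem_map_of_mem π hr))
      rw [hact] at this
      exact mul_inv_eq_iff_eq_mul.1 this
    rw [e1] at h1
    exact lt_of_le_of_lt (Nat.mul_le_mul le_rfl (Nat.pow_le_pow_left e2 2)) h1
  refine thompson_le_of_maxEA fun E hE => ?_
  have hE2 : ∀ e ∈ E, e * e = 1 := fun e he => by rw [← pow_two]; exact hE.2.1.2 e he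
  have hWT : W ≤ T0 := hWQD.trans hQDT
  have hoff : IsOff ρ (E.map π) := by
    have h1 := card_le_relIndex_mul T0 hE hWT hW2'
    unfold IsOff
    refine h1.trans (Nat.mul_le_mul ?_ ?_)
    · rw [← hπker, relIndex_ker]
    · rw [← Subgroup.card_map_of_injective (K := fixOf ρ (E.map π)) W.subtype_injective]
      refine card_le_of_le fun w hw => ⟨⟨w, hw.1⟩, mem_fixOf.2 ?_, rfl⟩
      rintro _ ⟨e, he, rfl⟩
      refine Subtype.ext ?_
      rw [hact]
      exact mul_inv_eq_iff_eq_mul.2 (mem_centralizer_iff.1 hw.2 e he)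
  have hED : E ≤ D := (le_thompson hE).trans hJD
  have hbot := one_layer ρ hρ hW2 hHG (hKS.of_surjective π hπ) Tb hTbne
    (TD := (T0 ⊓ D).map π) (P := QD.map π) (map_mono (le_inf hQDT inf_le_right))
    (map_mono inf_le_left) hstr' hAT hgen hhyp (elem_map hE2 π) (map_mono (le_inf hE.1 hED))
    (fun a ha => mem_fixOf.2 (by
      rintro _ ⟨e, he, rfl⟩
      refine Subtype.ext ?_
      rw [hact]
      exact mul_inv_eq_iff_eq_mul.2
        (mem_centralizer_iff.1 (hJA (le_thompson hE he)) _ ha).symm)) hoff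
  rw [Subgroup.map_eq_bot_iff, hπker] at hbot
  exact (le_inf hE.1 hbot).trans ((hstr _ inferInstance).resolve_left hCT)

/-- The version with the centre of `Ĵ`. -/
theorem fac_omega_jHat (hfree : ¬ Cfsg.Involves (Equiv.Perm (Fin 4)) G) (hKS : KS G)
    (hcon : centralizer (Cfsg.pCore 2 G : Set G) ≤ Cfsg.pCore 2 G) (T : Sylow 2 G)
    (hrec : ∀ H : Subgroup G, H ≠ ⊤ → (T : Subgroup G) ≤ H → ∀ h ∈ H,
      Fac (centralizer ((omegaCenter (jHatIn (T : Subgroup G)) : Subgroup G) : Set G))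
        (normalizer ((Cfsg.thompsonSubgroupOf 2 (T : Subgroup G) : Subgroup G) : Set G)) h) (g : G) :
    Fac (centralizer ((omegaCenter (jHatIn (T : Subgroup G)) : Subgroup G) : Set G))
        (normalizer ((Cfsg.thompsonSubgroupOf 2 (T : Subgroup G) : Subgroup G) : Set G)) g := by
  classical
  haveI : Fact (Nat.Prime 2) := ⟨Nat.prime_two⟩
  by_contra hg
  have hstr := supplemented_of_fail T hrec fun h => hg (h g)
  haveI hQn : (Cfsg.pCore 2 G).Normal := CfsgLib.Coprime.pCore_normal' 2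
  set Q := Cfsg.pCore 2 G with hQ
  have hQp : IsPGroup 2 Q := CfsgLib.Coprime.pCore_isPGroup 2
  set T0 : Subgroup G := (T : Subgroup G) with hT0
  have hQT : Q ≤ T0 := hQp.le_sylow_of_normal T
  set J := Cfsg.thompsonSubgroupOf 2 T0 with hJ
  have hJT : J ≤ T0 := CfsgLib.Fusion.thompsonSubgroupOf_le T0
  have hJQ : ¬ J ≤ Q := fun h =>
    hg ⟨1, one_mem _, g, (normalizer_thompson_eq_top T h).ge (mem_top g), (one_mul g).symm⟩
  set D := normalClosure (J : Set G) with hD
  haveI hDn : D.Normal := normalClosure_normal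
  have hJD : J ≤ D := subset_normalClosure
  have hDmin : ∀ X : Subgroup G, X.Normal → J ≤ X → D ≤ X := fun X hX h =>
    haveI := hX
    normalClosure_le_normal h
  have hDT : D ⊔ T0 = ⊤ := (hstr D hDn).resolve_right fun h => hJQ ((le_inf hJT hJD).trans h)
  haveI : (Q ⊓ D).Normal := Subgroup.normal_inf_normal Q D
  set QD := Q ⊓ D with hQD
  have hcoreD : (Cfsg.pCore 2 D).map D.subtype = QD := CfsgLib.Coprime.pCore_map_subtype_eq 2 D
  haveI : (Cfsg.pCore 2 D).Normal := CfsgLib.Coprime.pCore_normal' 2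
  have hcentQD : ∀ d ∈ D, (∀ q ∈ QD, d * q = q * d) → ∃ k : ℕ, d ^ 2 ^ k = 1 := by
    intro d hd hc
    obtain ⟨k, hk⟩ := CfsgLib.CFun.exists_ppow_mem_of_stabilizes (P := Q) hQp (Q := QD) inf_le_left
      (d := d) hc (fun a ha => ⟨Q.mul_mem (hQn.conj_mem a ha d) (Q.inv_mem ha), by
        have h := D.mul_mem hd (hDn.conj_mem _ (D.inv_mem hd) a)
        simpa [mul_assoc] using h⟩)
    obtain ⟨i, hi⟩ := hQp ⟨_, hcon hk⟩
    exact ⟨k + i, by rw [pow_add, pow_mul]; exact congrArg Subtype.val hi⟩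
  have hconD : centralizer (Cfsg.pCore 2 D : Set D) ≤ Cfsg.pCore 2 D := by
    refine CfsgLib.Coprime.le_pCore ?_
    rintro ⟨d, hd⟩
    obtain ⟨k, hk⟩ := hcentQD d d.2 fun q hq => by
      rw [← hcoreD] at hq
      obtain ⟨q', hq', rfl⟩ := hq
      exact congrArg Subtype.val (mem_centralizer_iff.1 hd q' hq').symm
    exact ⟨k, Subtype.ext (Subtype.ext hk)⟩
  have hU := eG_sup_thompson hfree hKS hcon T hstr hJQ D hJD hDmin hDT hconD
  have hUJ : QD ⊔ J ≤ jHatIn T0 :=
    le_jHatIn (sup_le (inf_le_left.trans hQT) hJT) le_sup_right hU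
  set W0 := centerInvol QD with hW0
  haveI : W0.Normal := centerInvol_normal QD
  have hVW : omegaCenter (jHatIn T0) ≤ W0 := by
    refine (closure_le _).2 ?_
    rintro x ⟨⟨hxJ, hxc⟩, hx2⟩
    have hxx : x * x = 1 := by rw [← pow_two]; exact hx2
    obtain ⟨E, hE⟩ := CfsgLib.Fusion.exists_isMaxEA 2 T0
    have hxD : x ∈ D := hJD (le_thompson hE ((CfsgLib.CFun.abFam_maxEA T0).mem_of_commute hE
      (jHatIn_le T0 hxJ) hxx fun e he =>
        mem_centralizer_iff.1 hxc e (hUJ (mem_sup_right (le_thompson hE he)))))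
    have hxcQ : ∀ q ∈ QD, x * q = q * x := fun q hq =>
      (mem_centralizer_iff.1 hxc q (hUJ (mem_sup_left hq))).symm
    have hxQ : x ∈ QD := by
      rw [← hcoreD]
      exact ⟨⟨x, hxD⟩, hconD (mem_centralizer_iff.2 fun q hq => Subtype.ext
        (hxcQ q (hcoreD ▸ mem_map_of_mem D.subtype hq)).symm), rfl⟩
    exact ⟨hxQ, hxcQ, hxx⟩
  by_cases hCT : centralizer (W0 : Set G) ⊔ T0 = ⊤
  · obtain ⟨x, hx, t, ht, rfl⟩ := Subgroup.mem_sup_of_normal_left.1 (hCT.symm ▸ mem_top g)
    exact hg ⟨x, centralizer_le (show (omegaCenter (jHatIn T0) : Set G) ⊆ W0 from hVW) hx, t,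
      CfsgLib.Fusion.normalizer_le_normalizer_thompsonSubgroupOf T0 (le_normalizer ht), rfl⟩
  refine hJQ ((le_inf hJT (thompson_le_of_maxEA fun E hE => ?_)).trans
    ((hstr _ inferInstance).resolve_left hCT))
  exact maxEA_le_centralizer hfree hKS T hstr D (W := W0) (fun w hw => hw.2.2)
    (fun w hw => hQT hw.1.1) (centerInvol_cent QD) hCT hE ((le_thompson hE).trans hJD)

end CfsgLib.FourFree
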