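import Cfsg.Agent.Lib.FourFree.K.Key
import Cfsg.Agent.Lib.Coprime.Fitting
import Cfsg.Agent.Lib.Fusion.ZJ

/-!
# An element separating every element of an elementary `2`-subgroup from its conjugate

In a group with `O₂ = 1`, listed simple sections and no inverted element of order three, every
elementary `2`-subgroup `E` has a conjugate `hEh⁻¹` such that for no `e ≠ 1` in `E` the product of
`e` with `heh⁻¹` is a `2`-element; hence `⟨E, hEh⁻¹⟩` has no normal `2`-subgroup meeting `E`.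
-/

set_option autoImplicit false
set_option linter.style.haveILetI false

open Subgroup
open CfsgLib.Fusion (conjBy mem_conjBy conj_mem_conjBy conjBy_le_iff conjBy_eq_iff)

namespace CfsgLib.FourFree

universe u

variable {Q : Type u} [Group Q]

/-- Some element of `M` is moved by more than a `2`-element by all elements of `E` not centralizing
`M`. -/
def HasMover (E M : Subgroup Q) : Prop :=
  ∃ h ∈ M, ∀ e ∈ E, (∀ m ∈ M, e * m = m * e) ∨ ∀ k : ℕ, (e * h * e⁻¹ * h⁻¹) ^ 2 ^ k ≠ 1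

theorem hasMover_bot (E : Subgroup Q) : HasMover E ⊥ :=
  ⟨1, one_mem _, fun e _ => Or.inl fun m hm => by rw [mem_bot.1 hm, mul_one, one_mul]⟩

theorem hasMover_sup {E M M' : Subgroup Q} (hn' : ∀ e ∈ E, ∀ x ∈ M', e * x * e⁻¹ ∈ M')
    (hn : ∀ e ∈ E, ∀ x ∈ M, e * x * e⁻¹ ∈ M)
    (hc : ∀ x ∈ M, ∀ y ∈ M', x * y = y * x) (hd : M ⊓ M' = ⊥) (h : HasMover E M) (h' : HasMover E M') :
    HasMover E (M ⊔ M') := by
  obtain ⟨a, ha, hga⟩ := h
  obtain ⟨b, hb, hgb⟩ := h'
  refine ⟨a * b, mul_mem (mem_sup_left ha) (mem_sup_right hb), fun e he => ?_⟩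
  set p := e * a * e⁻¹ * a⁻¹ with hp
  set q := e * b * e⁻¹ * b⁻¹ with hq
  have hpM : p ∈ M := mul_mem (hn e he a ha) (inv_mem ha)
  have hqM : q ∈ M' := mul_mem (hn' e he b hb) (inv_mem hb)
  have hpq : e * (a * b) * e⁻¹ * (a * b)⁻¹ = p * q := by
    calc e * (a * b) * e⁻¹ * (a * b)⁻¹ = (e * a * e⁻¹) * (q * a⁻¹) := by rw [hq]; group
      _ = (e * a * e⁻¹) * (a⁻¹ * q) := by rw [hc _ (inv_mem ha) _ hqM]
      _ = p * q := by rw [hp]; group
  have hsplit : ∀ k : ℕ, (p * q) ^ 2 ^ k = 1 → p ^ 2 ^ k = 1 ∧ q ^ 2 ^ k = 1 := by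
    intro k hk
    rw [(show Commute p q from hc _ hpM _ hqM).mul_pow] at hk
    have h1 : p ^ 2 ^ k ∈ M ⊓ M' := ⟨pow_mem hpM _, by
      rw [eq_inv_of_mul_eq_one_left hk]; exact (inv_mem (pow_mem hqM _) : (q ^ 2 ^ k)⁻¹ ∈ M')⟩
    rw [hd, mem_bot] at h1
    rw [h1, one_mul] at hk
    exact ⟨h1, hk⟩
  rcases hga e he with hca | hna
  · rcases hgb e he with hcb | hnb
    · refine Or.inl fun m hm => ?_
      have hle : M ⊔ M' ≤ centralizer ({e} : Set Q) := sup_le
        (fun x hx => mem_centralizer_singleton_iff.2 (hca x hx).symm)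
        (fun x hx => mem_centralizer_singleton_iff.2 (hcb x hx).symm)
      exact (mem_centralizer_singleton_iff.1 (hle hm)).symm
    · exact Or.inr fun k hk => hnb k (hsplit k (hpq ▸ hk)).2
  · exact Or.inr fun k hk => hna k (hsplit k (hpq ▸ hk)).1

variable [Finite Q]

/-- The orbit of a factor. -/
theorem good_orbit (hG : HG Q) (hKS : KS Q) {E N L : Subgroup Q} (hE : ∀ e ∈ E, e * e = 1)
    (hN : MinNormal N) (hnc : ¬ IsMulCommutative N) (hL : IsFactor N L) :
    HasMover E (⨆ e : E, conjBy (e : Q) L) := by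
  classical
  obtain ⟨hLs, hLnc⟩ := hL.simple hN hnc
  haveI := hLs
  have hfact : CompFact L := compFact_of_listed
    (KS.of_quot hKS (H := L) (MonoidHom.id L) Function.surjective_id hLnc) hLnc
  set E1 := E ⊓ normalizer (L : Set Q) with hE1
  let φ : E1 →* MulAut L := L.normalizerMonoidHom.comp (inclusion inf_le_right)
  have hφ : ∀ (e : E1) (x : L), ((φ e x : L) : Q) = e * x * (e : Q)⁻¹ := fun e x => rfl
  have hφ2 : ∀ e ∈ φ.range, e * e = 1 := by
    rintro _ ⟨e, rfl⟩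
    rw [← map_mul, show e * e = 1 from Subtype.ext (hE _ e.2.1), map_one]
  obtain ⟨x, hx, hgood⟩ := hfact.gen φ.range hφ2 (by
    rintro _ ⟨e, rfl⟩ z hz hez
    refine Subtype.ext (hG (e : Q) z (congrArg Subtype.val hz) ?_)
    rw [← hφ, hez]; rfl)
  refine ⟨x, le_iSup (fun e : E => conjBy (e : Q) L) 1 (by
    rw [show ((1 : E) : Q) = 1 from rfl, CfsgLib.Fusion.conjBy_one]; exact x.2), fun e he => ?_⟩
  by_cases hn : e ∈ normalizer (L : Set Q)
  · by_cases htriv : φ ⟨e, he, hn⟩ = 1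
    · refine Or.inl fun m hm => ?_
      have hcent : ∀ y ∈ L, e * y * e⁻¹ = y := fun y hy => by
        have := congrArg (fun θ : MulAut L => ((θ ⟨y, hy⟩ : L) : Q)) htriv
        simp only [hφ, MulAut.one_apply] at this
        exact this
      have hle : (⨆ f : E, conjBy (f : Q) L) ≤ centralizer ({e} : Set Q) := iSup_le fun f y hy => by
        rw [mem_conjBy] at hy
        refine mem_centralizer_singleton_iff.2 (Eq.symm (mul_inv_eq_iff_eq_mul.1 ?_))
        have hef := elem_comm hE he f.2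
        calc e * y * e⁻¹ = (e * f) * ((f : Q)⁻¹ * y * f) * (e * f)⁻¹ := by group
          _ = (f : Q) * (e * ((f : Q)⁻¹ * y * f) * e⁻¹) * (f : Q)⁻¹ := by rw [hef]; group
          _ = y := by rw [hcent _ hy]; group
      exact (mem_centralizer_singleton_iff.1 (hle hm)).symm
    · refine Or.inr fun k hk => hgood (φ ⟨e, he, hn⟩) ⟨_, rfl⟩ htriv k (Subtype.ext ?_)
      rw [Subgroup.coe_pow, Subgroup.coe_mul, Subgroup.coe_inv, hφ]
      exact hk
  · refine Or.inr fun k hk => hx k (Subtype.ext ?_)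
    have hne : conjBy e L ≠ L := fun h => hn (conjBy_eq_iff.1 h)
    have hF := hL.conj hN.normal e
    have h1 : e * x * e⁻¹ ∈ conjBy e L := conj_mem_conjBy x.2
    have hc := hF.commute hL hne h1 (inv_mem x.2)
    rw [(show Commute _ _ from hc).mul_pow, inv_pow, mul_inv_eq_one] at hk
    have hmem : (x : Q) ^ 2 ^ k ∈ conjBy e L ⊓ L := ⟨hk ▸ pow_mem h1 _, pow_mem x.2 _⟩
    rw [hF.disjoint hL hne, mem_bot] at hmem
    rw [Subgroup.coe_pow, hmem, Subgroup.coe_one]

/-- A non-abelian minimal normal subgroup. -/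
theorem good_minNormal (hG : HG Q) (hKS : KS Q) {E N : Subgroup Q} (hE : ∀ e ∈ E, e * e = 1)
    (hN : MinNormal N) (hnc : ¬ IsMulCommutative N) : HasMover E N := by
  classical
  let P : Subgroup Q → Prop := fun M => M ≤ N ∧ (∀ n ∈ N, ∀ x ∈ M, n * x * n⁻¹ ∈ M) ∧
    (∀ e ∈ E, ∀ x ∈ M, e * x * e⁻¹ ∈ M) ∧ HasMover E M
  obtain ⟨M, -, ⟨hMN, hMn, hME, hMg⟩, hmax⟩ := exists_maximal_ge_of_wellFoundedGT P ⊥
    ⟨bot_le, fun n _ x hx => by rw [mem_bot.1 hx]; simp,
      fun e _ x hx => by rw [mem_bot.1 hx]; simp, hasMover_bot E⟩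
  by_cases hMeq : M = N
  · exact hMeq ▸ hMg
  exfalso
  obtain ⟨L₀, hL₀⟩ := IsFactor.exists_factor hN.normal hN.ne_bot
  obtain ⟨L, hL, hLM⟩ : ∃ L, IsFactor N L ∧ ¬ L ≤ M := by
    by_contra h
    push Not at h
    refine hMeq (le_antisymm hMN ?_)
    rw [IsFactor.generate hN hL₀]
    exact iSup_le fun g => h _ (hL₀.conj hN.normal g)
  set M1 := ⨆ e : E, conjBy (e : Q) L with hM1
  have hM1N : M1 ≤ N := iSup_le fun e => (hL.conj hN.normal _).le
  have hM1n : ∀ n ∈ N, ∀ x ∈ M1, n * x * n⁻¹ ∈ M1 := by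
    intro n hn
    have h : conjBy n M1 ≤ M1 := by
      show M1.map (MulAut.conj n).toMonoidHom ≤ _
      rw [hM1, Subgroup.map_iSup]
      refine iSup_le fun e => le_iSup_of_le e (conjBy_le_iff.2 ?_)
      exact fun x hx => (hL.conj hN.normal _).norm n hn x hx
    exact fun x hx => h (conj_mem_conjBy hx)
  have hM1E : ∀ e ∈ E, ∀ x ∈ M1, e * x * e⁻¹ ∈ M1 := by
    intro f hf
    have h : conjBy f M1 ≤ M1 := by
      show M1.map (MulAut.conj f).toMonoidHom ≤ _
      rw [hM1, Subgroup.map_iSup]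
      refine iSup_le fun e => le_iSup_of_le (⟨f, hf⟩ * e) (le_of_eq ?_)
      exact CfsgLib.Fusion.conjBy_conjBy f _ L
    exact fun x hx => h (conj_mem_conjBy hx)
  have hcomm : ∀ x ∈ M, ∀ y ∈ M1, x * y = y * x := by
    have hle : M1 ≤ centralizer (M : Set Q) := iSup_le fun e y hy => by
      refine mem_centralizer_iff.2 fun x hx => ?_
      set L' := conjBy (e : Q) L
      have hF := hL.conj hN.normal (e : Q)
      have hd : L' ⊓ M = ⊥ := by
        by_contra hb
        have heq : L' ⊓ M = L' := hF.min _ inf_le_left hb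
          fun n hn z hz => ⟨hF.norm n hn z hz.1, hMn n hn z hz.2⟩
        refine hLM fun z hz => ?_
        have h1 : (e : Q) * z * (e : Q)⁻¹ ∈ M := (heq.ge (conj_mem_conjBy hz)).2
        have := hME _ (inv_mem e.2) _ h1
        simpa [mul_assoc] using this
      have h1 : x * y * x⁻¹ * y⁻¹ ∈ L' ⊓ M := ⟨(mul_mem (hF.norm x (hMN hx) y hy) (inv_mem hy) : x * y * x⁻¹ * y⁻¹ ∈ L'), by
        rw [show x * y * x⁻¹ * y⁻¹ = x * (y * x⁻¹ * y⁻¹) by group]
        exact mul_mem hx (hMn y (hF.le hy) _ (inv_mem hx))⟩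
      rw [hd, mem_bot] at h1
      exact mul_inv_eq_iff_eq_mul.1 (mul_inv_eq_one.1 h1)
    exact fun x hx y hy => mem_centralizer_iff.1 (hle hy) x hx
  have hd : M ⊓ M1 = ⊥ := IsFactor.comm_eq_bot hN hnc (inf_le_left.trans hMN)
    (fun n hn x hx => ⟨hMn n hn x hx.1, hM1n n hn x hx.2⟩)
    fun x hx y hy => hcomm x hx.1 y hy.2
  have hP : P (M ⊔ M1) := by
    refine ⟨sup_le hMN hM1N, fun n hn => ?_, fun f hf => ?_,
      hasMover_sup hM1E hME hcomm hd hMg (good_orbit hG hKS hE hN hnc hL)⟩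
    · have h : conjBy n (M ⊔ M1) ≤ M ⊔ M1 := by
        show (M ⊔ M1).map (MulAut.conj n).toMonoidHom ≤ _
        rw [Subgroup.map_sup]
        exact sup_le_sup (conjBy_le_iff.2 (hMn n hn)) (conjBy_le_iff.2 (hM1n n hn))
      exact fun x hx => h (conj_mem_conjBy hx)
    · have h : conjBy f (M ⊔ M1) ≤ M ⊔ M1 := by
        show (M ⊔ M1).map (MulAut.conj f).toMonoidHom ≤ _
        rw [Subgroup.map_sup]
        exact sup_le_sup (conjBy_le_iff.2 (hME f hf)) (conjBy_le_iff.2 (hM1E f hf))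
      exact fun x hx => h (conj_mem_conjBy hx)
  refine hLM (le_trans ?_ (hmax hP le_sup_left))
  refine le_trans ?_ le_sup_right
  refine le_iSup_of_le (1 : E) (le_of_eq ?_)
  rw [show ((1 : E) : Q) = 1 from rfl, CfsgLib.Fusion.conjBy_one]

/-- A normal subgroup without abelian normal subgroups of the whole group. -/
theorem good_semisimple (hG : HG Q) (hKS : KS Q) {E : Subgroup Q} (hE : ∀ e ∈ E, e * e = 1)
    (n : ℕ) : ∀ C : Subgroup Q, Nat.card C = n → C.Normal →
      (∀ K : Subgroup Q, K.Normal → K ≤ C → (∀ x ∈ K, ∀ y ∈ K, x * y = y * x) → K = ⊥) →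
      HasMover E C := by
  induction n using Nat.strong_induction_on with
  | _ n ih =>
  intro C hn hC hab
  haveI := hC
  by_cases hC1 : C = ⊥
  · exact hC1 ▸ hasMover_bot E
  obtain ⟨N, -, ⟨hNn, hNC, hN1⟩, hmin⟩ := exists_minimal_le_of_wellFoundedLT
    (fun N : Subgroup Q => N.Normal ∧ N ≤ C ∧ N ≠ ⊥) C ⟨hC, le_rfl, hC1⟩
  haveI := hNn
  have hN : MinNormal N := ⟨hNn, hN1, fun K hK hKN hK1 =>
    le_antisymm hKN (hmin ⟨hK, hKN.trans hNC, hK1⟩ hKN)⟩
  have hnc : ¬ IsMulCommutative N := fun h => hN1 (hab N hNn hNC fun x hx y hy =>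
    congrArg Subtype.val (h.is_comm.comm (⟨x, hx⟩ : N) ⟨y, hy⟩))
  set C1 := C ⊓ centralizer (N : Set Q) with hC1'
  haveI : C1.Normal := inferInstance
  have hd : N ⊓ C1 = ⊥ := hab _ inferInstance (inf_le_left.trans hNC)
    fun x hx y hy => (mem_centralizer_iff.1 hy.2.2 x hx.1)
  have hcomm : ∀ x ∈ N, ∀ y ∈ C1, x * y = y * x := fun x hx y hy =>
    mem_centralizer_iff.1 hy.2 x hx
  have hlt : Nat.card C1 < n := by
    rw [← hn]
    refine CfsgLib.Fusion.card_lt_card_of_lt (lt_of_le_of_ne inf_le_left fun e => hN1 ?_)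
    rw [← hd]
    exact le_antisymm (le_inf le_rfl (hNC.trans e.ge)) inf_le_left
  have hg1 : HasMover E C1 := ih _ hlt C1 rfl inferInstance
    fun K hK hKC => hab K hK (hKC.trans inf_le_left)
  obtain ⟨h, hh, hgood⟩ := hasMover_sup (fun e _ x hx => (inferInstance : C1.Normal).conj_mem x hx e)
    (fun e _ x hx => hNn.conj_mem x hx e) hcomm hd (good_minNormal hG hKS hE hN hnc) hg1
  refine ⟨h, (sup_le hNC inf_le_left : N ⊔ C1 ≤ C) hh, fun e he => ?_⟩
  rcases hgood e he with hc | hk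
  swap
  · exact Or.inr hk
  refine Or.inl fun c hcC => ?_
  have hcN : ∀ x ∈ N, e * x = x * e := fun x hx => hc x (mem_sup_left hx)
  have hcC1 : ∀ x ∈ C1, e * x = x * e := fun x hx => hc x (mem_sup_right hx)
  have hei := elem_inv hE he
  set k := c⁻¹ * (e * c * e⁻¹) with hk
  have hkC : k ∈ C := mul_mem (inv_mem hcC) (hC.conj_mem c hcC e)
  have hcent : ∀ M : Subgroup Q, M.Normal → (∀ x ∈ M, e * x = x * e) → ∀ y ∈ M, y * k = k * y := by
    intro M hM hcM y hy
    have h1 : e⁻¹ * y = y * e⁻¹ := by rw [hei]; exact hcM y hy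
    have h2 := hcM _ (hM.conj_mem y hy c)
    calc y * k = c⁻¹ * ((c * y * c⁻¹) * e) * c * e⁻¹ := by rw [hk]; group
      _ = c⁻¹ * (e * (c * y * c⁻¹)) * c * e⁻¹ := by rw [h2]
      _ = c⁻¹ * e * c * (y * e⁻¹) := by group
      _ = c⁻¹ * e * c * (e⁻¹ * y) := by rw [h1]
      _ = k * y := by rw [hk]; group
  have hk1 : k ∈ C1 := ⟨hkC, mem_centralizer_iff.2 fun y hy => hcent N hNn hcN y hy⟩
  have hk2 : k ∈ C1 ⊓ centralizer (C1 : Set Q) :=
    ⟨hk1, mem_centralizer_iff.2 fun y hy => hcent C1 inferInstance hcC1 y hy⟩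
  rw [hab (C1 ⊓ centralizer (C1 : Set Q)) inferInstance (inf_le_left.trans inf_le_left)
    (fun x hx y hy => mem_centralizer_iff.1 hy.2 x hx.1), mem_bot] at hk2
  exact mul_inv_eq_iff_eq_mul.1 (inv_mul_eq_one.1 hk2).symm

section Main

variable {X : Type u} [Group X] [Finite X]

theorem fitting_odd (h2 : Cfsg.pCore 2 X = ⊥) : ∀ x ∈ Cfsg.fittingSubgroup X, Odd (orderOf x) := by
  classical
  haveI : Fact (Nat.Prime 2) := ⟨Nat.prime_two⟩
  set F := Cfsg.fittingSubgroup X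
  haveI := CfsgLib.Coprime.fitting_normal (G := X)
  haveI hFn : Group.IsNilpotent F := CfsgLib.Coprime.fitting_isNilpotent
  obtain ⟨P⟩ : Nonempty (Sylow 2 F) := inferInstance
  haveI : (P : Subgroup F).Normal := by
    exact Sylow.normal_of_normalizerCondition Group.normalizerCondition_of_isNilpotent P
  haveI : (P : Subgroup F).Characteristic := Sylow.characteristic_of_normal P inferInstance
  haveI : ((P : Subgroup F).map F.subtype).Normal :=
    ConjAct.normal_of_characteristic_of_normal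
  have hP := CfsgLib.Coprime.le_pCore (G := X) (p := 2) (P.2.map F.subtype)
  rw [h2, le_bot_iff, map_eq_bot_iff_of_injective _ F.subtype_injective] at hP
  have hodd : ¬ 2 ∣ Nat.card F := fun hd => by
    have := P.dvd_card_of_dvd_card hd
    rw [hP, Subgroup.card_bot] at this
    omega
  intro x hx
  exact Nat.not_even_iff_odd.1 fun he => hodd ((even_iff_two_dvd.1 he).trans
    (Subgroup.orderOf_dvd_natCard F hx))

theorem sq_inj_of_odd {x y : X} (hx : Odd (orderOf x)) (ho : orderOf y = orderOf x)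
    (h : x * x = y * y) : x = y := by
  obtain ⟨j, hj⟩ := hx
  have key : ∀ w : X, orderOf w = orderOf x → (w * w) ^ (j + 1) = w := fun w hw => by
    rw [← pow_two, ← pow_mul, show 2 * (j + 1) = orderOf w + 1 by omega, pow_succ,
      pow_orderOf_eq_one, one_mul]
  rw [← key x rfl, h, key y ho]

/-- Every elementary subgroup is separated from one of its conjugates. -/
theorem gen_exists (h2 : Cfsg.pCore 2 X = ⊥) (hG : HG X) (hKS : KS X) {E : Subgroup X}
    (hE : ∀ e ∈ E, e * e = 1) :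
    ∃ h : X, ∀ e ∈ E, e ≠ 1 → ∀ k : ℕ, (e * h * e⁻¹ * h⁻¹) ^ 2 ^ k ≠ 1 := by
  classical
  haveI : Fintype X := Fintype.ofFinite X
  set F := Cfsg.fittingSubgroup X with hF
  haveI hFnorm : F.Normal := CfsgLib.Coprime.fitting_normal
  have hFodd := fitting_odd h2
  set C := centralizer (F : Set X) with hC
  haveI : C.Normal := inferInstance
  set Z := F ⊓ C with hZ
  haveI : Z.Normal := inferInstance
  set π := QuotientGroup.mk' Z
  have hπ : Function.Surjective π := QuotientGroup.mk'_surjective Z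
  have hker : ∀ k, π k = 1 ↔ k ∈ Z := fun k => QuotientGroup.eq_one_iff k
  set C' := C.map π with hC'
  have hC'n : C'.Normal := (inferInstance : C.Normal).map π hπ
  have hdisj : ∀ x, x ∈ C → ∀ y ∈ F, π x = π y → π x = 1 := by
    intro x hx y hy hxy
    have hz : x⁻¹ * y ∈ Z := (hker _).1 (by rw [map_mul, map_inv, hxy, inv_mul_cancel])
    have hyC : y ∈ C := by simpa using mul_mem hx hz.2
    rw [hxy, hker]
    exact ⟨hy, hyC⟩
  -- no abelian normal subgroups in the image of `C`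
  have hab : ∀ K : Subgroup (X ⧸ Z), K.Normal → K ≤ C' →
      (∀ x ∈ K, ∀ y ∈ K, x * y = y * x) → K = ⊥ := by
    intro K hK hKC hKc
    set K' := K.comap π with hK'
    haveI : K'.Normal := hK.comap π
    have hK'C : K' ≤ C := fun x hx => by
      obtain ⟨c, hc, hcx⟩ := hKC hx
      have : c⁻¹ * x ∈ Z := (hker _).1 (by rw [map_mul, map_inv, hcx, inv_mul_cancel])
      simpa using mul_mem hc this.2
    haveI : Group.IsNilpotent (K.comap π) := by
      let f : K' →* K := π.subgroupComap K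
      letI : CommGroup K := { mul_comm := fun a b => Subtype.ext (hKc _ a.2 _ b.2) }
      refine Subgroup.isNilpotent_of_ker_le_center f (fun x hx => Subgroup.mem_center_iff.2 fun y => ?_)
      have hxZ : (x : X) ∈ Z := (hker _).1 (congrArg Subtype.val (MonoidHom.mem_ker.1 hx))
      exact Subtype.ext (mem_centralizer_iff.1 (hK'C y.2) _ hxZ.1).symm
    have hKF : K' ≤ F := CfsgLib.Coprime.le_fitting ‹_›
    refine (Subgroup.eq_bot_iff_forall _).2 fun y hy => ?_
    obtain ⟨x, rfl⟩ := hπ y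
    exact (hker x).2 ⟨hKF hy, hK'C hy⟩
  obtain ⟨_, ⟨h₁, hh₁, rfl⟩, hgood⟩ := good_semisimple (hG.quotient π hπ) (hKS.of_surjective π hπ)
    (elem_map hE π) _ C' rfl hC'n hab
  -- the elements centralizing the image of `C`
  let E' : Subgroup X := E ⊓ (centralizer (C' : Set (X ⧸ Z))).comap π
  have hE'E : E' ≤ E := inf_le_left
  -- a lift fixed by them
  obtain ⟨h₀, hh₀, hmax⟩ := (Finset.univ.filter fun h : X => h ∈ C ∧ π h = π h₁).exists_max_image
    (fun h => Nat.card (E' ⊓ centralizer ({h} : Set X) : Subgroup X))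
    ⟨h₁, Finset.mem_filter.2 ⟨Finset.mem_univ _, hh₁, rfl⟩⟩
  obtain ⟨hh₀C, hh₀π⟩ := (Finset.mem_filter.1 hh₀).2
  have hfix : ∀ e ∈ E', e * h₀ * e⁻¹ = h₀ := by
    intro e he
    by_contra hne
    have hei := elem_inv hE (hE'E he)
    have hee := hE e (hE'E he)
    set z := h₀⁻¹ * (e * h₀ * e⁻¹) with hz
    have hzZ : z ∈ Z := (hker _).1 (by
      have h := mem_centralizer_iff.1 he.2 (π h₀) (mem_map_of_mem π hh₀C)
      simp only [hz, map_mul, map_inv, ← h]
      group)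
    have hzi : e * z * e⁻¹ = z⁻¹ := by
      rw [hz, hei]
      calc e * (h₀⁻¹ * (e * h₀ * e)) * e = (e * h₀⁻¹ * e) * h₀ * (e * e) := by group
        _ = (e * h₀⁻¹ * e) * h₀ := by rw [hee, mul_one]
        _ = (h₀⁻¹ * (e * h₀ * e))⁻¹ := by
          rw [mul_inv_rev, mul_inv_rev, mul_inv_rev, hei, inv_inv]; group
    obtain ⟨u, hu, huu⟩ := CfsgLib.Invol.exists_sqrt_of_odd (hFodd z hzZ.1)
    have huZ : u ∈ Z := zpowers_le.2 hzZ hu
    have hconj : ∀ g : X, ∀ w : X, g * z * g⁻¹ = w → ∀ i : ℤ, g * z ^ i * g⁻¹ = w ^ i :=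
      fun g w h i => by rw [← conj_zpow, h]
    obtain ⟨i, rfl⟩ := mem_zpowers_iff.1 hu
    have hnew : e * (h₀ * z ^ i) * e⁻¹ = h₀ * z ^ i := by
      calc e * (h₀ * z ^ i) * e⁻¹ = h₀ * z * (e * z ^ i * e⁻¹) := by rw [hz]; group
        _ = h₀ * z * (z⁻¹) ^ i := by rw [hconj e _ hzi i]
        _ = h₀ * (z ^ i * z ^ i) * (z⁻¹) ^ i := by rw [huu]
        _ = h₀ * z ^ i := by rw [inv_zpow]; group
    have hle : E' ⊓ centralizer ({h₀} : Set X) < E' ⊓ centralizer ({h₀ * z ^ i} : Set X) := by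
      refine lt_of_le_of_ne (fun f hf => ⟨hf.1, mem_centralizer_singleton_iff.2
        (mul_inv_eq_iff_eq_mul.1 ?_)⟩) fun heq => hne ?_
      · have hfh : f * h₀ * f⁻¹ = h₀ := mul_inv_eq_iff_eq_mul.2 (mem_centralizer_singleton_iff.1 hf.2)
        have hfe := elem_comm hE (hE'E hf.1) (hE'E he)
        have hfz : f * z * f⁻¹ = z := by
          calc f * z * f⁻¹ = (f * h₀ * f⁻¹)⁻¹ * ((f * e) * h₀ * (f * e)⁻¹) := by rw [hz]; group
            _ = (f * h₀ * f⁻¹)⁻¹ * (e * (f * h₀ * f⁻¹) * e⁻¹) := by rw [hfe]; group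
            _ = z := by rw [hfh, hz]
        calc f * (h₀ * z ^ i) * f⁻¹ = (f * h₀ * f⁻¹) * (f * z ^ i * f⁻¹) := by group
          _ = _ := by rw [hfh, hconj f _ hfz i]
      · have hmem : e ∈ E' ⊓ centralizer ({h₀ * z ^ i} : Set X) :=
          ⟨he, mem_centralizer_singleton_iff.2 (mul_inv_eq_iff_eq_mul.1 hnew)⟩
        rw [← heq] at hmem
        exact mul_inv_eq_iff_eq_mul.2 (mem_centralizer_singleton_iff.1 hmem.2)
    refine absurd (hmax (h₀ * z ^ i) (Finset.mem_filter.2 ⟨Finset.mem_univ _,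
      mul_mem hh₀C huZ.2, ?_⟩)) (not_le.2 (CfsgLib.Fusion.card_lt_card_of_lt hle))
    rw [map_mul, (hker _).2 huZ, mul_one, hh₀π]
  -- a regular element of `F`
  obtain ⟨n, hn, hmin⟩ := (Finset.univ.filter fun n : X => n ∈ F).exists_min_image
    (fun n => Nat.card (E' ⊓ centralizer ({n} : Set X) : Subgroup X))
    ⟨1, Finset.mem_filter.2 ⟨Finset.mem_univ _, one_mem F⟩⟩
  have hnF : n ∈ F := (Finset.mem_filter.1 hn).2
  have hreg : ∀ e ∈ E', e * n = n * e → e = 1 := by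
    intro e he hen
    by_contra he1
    have hee := hE e (hE'E he)
    have hei := elem_inv hE (hE'E he)
    obtain ⟨m₀, hm₀, hmove⟩ : ∃ m ∈ F, e * m * e⁻¹ ≠ m := by
      by_contra h
      push Not at h
      have heC : e ∈ C := mem_centralizer_iff.2 fun m hm => (mul_inv_eq_iff_eq_mul.1 (h m hm)).symm
      have hmem : π e ∈ C' ⊓ centralizer (C' : Set (X ⧸ Z)) := ⟨mem_map_of_mem π heC, he.2⟩
      haveI := hC'n
      rw [hab (C' ⊓ centralizer (C' : Set (X ⧸ Z))) inferInstance inf_le_left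
        (fun x hx y hy => mem_centralizer_iff.1 hy.2 x hx.1), mem_bot, hker] at hmem
      exact he1 (CfsgLib.Invol.eq_one_of_odd_of_mul_self (hFodd e hmem.1) hee)
    set y := m₀⁻¹ * (e * m₀ * e⁻¹) with hy
    have hyF : y ∈ F := mul_mem (inv_mem hm₀) (hFnorm.conj_mem m₀ hm₀ e)
    have hyi : e * y * e⁻¹ = y⁻¹ := by
      rw [hy, hei]
      calc e * (m₀⁻¹ * (e * m₀ * e)) * e = (e * m₀⁻¹ * e) * m₀ * (e * e) := by group
        _ = (e * m₀⁻¹ * e) * m₀ := by rw [hee, mul_one]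
        _ = (m₀⁻¹ * (e * m₀ * e))⁻¹ := by
          rw [mul_inv_rev, mul_inv_rev, mul_inv_rev, hei, inv_inv]; group
    have hy1 : y ≠ 1 := fun h => hmove (inv_mul_eq_one.1 h).symm
    have hen' : e * n * e⁻¹ = n := mul_inv_eq_iff_eq_mul.2 hen
    have hlt : E' ⊓ centralizer ({n * y} : Set X) < E' ⊓ centralizer ({n} : Set X) := by
      refine lt_of_le_of_ne (fun f hf => ?_) fun heq => hy1 ?_
      · set n' := f * n * f⁻¹ with hn'
        set y' := f * y * f⁻¹ with hy'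
        have hfe := elem_comm hE (hE'E hf.1) (hE'E he)
        have h1 : n' * y' = n * y := by
          rw [hn', hy', ← mul_inv_eq_iff_eq_mul.2 (mem_centralizer_singleton_iff.1 hf.2)]; group
        have hen2 : e * n' * e⁻¹ = n' := by
          calc e * n' * e⁻¹ = (e * f) * n * (e * f)⁻¹ := by rw [hn']; group
            _ = f * (e * n * e⁻¹) * f⁻¹ := by rw [← hfe]; group
            _ = n' := by rw [hen']
        have hey2 : e * y' * e⁻¹ = y'⁻¹ := by
          calc e * y' * e⁻¹ = (e * f) * y * (e * f)⁻¹ := by rw [hy']; group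
            _ = f * (e * y * e⁻¹) * f⁻¹ := by rw [← hfe]; group
            _ = y'⁻¹ := by rw [hyi, hy', conj_inv]
        have h2' : n' * y'⁻¹ = n * y⁻¹ := by
          calc n' * y'⁻¹ = (e * n' * e⁻¹) * (e * y' * e⁻¹) := by rw [hen2, hey2]
            _ = e * (n' * y') * e⁻¹ := by group
            _ = (e * n * e⁻¹) * (e * y * e⁻¹) := by rw [h1]; group
            _ = n * y⁻¹ := by rw [hen', hyi]
        have h3 : y' * y' = y * y := by
          have e1 : n⁻¹ * n' = y * y'⁻¹ := by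
            rw [eq_mul_inv_iff_mul_eq, mul_assoc, h1, inv_mul_cancel_left]
          have e2 : n⁻¹ * n' = y⁻¹ * y' := by
            calc n⁻¹ * n' = n⁻¹ * (n' * y'⁻¹) * y' := by group
              _ = _ := by rw [h2']; group
          rw [e1] at e2
          calc y' * y' = y * (y⁻¹ * y') * y' := by group
            _ = y * (y * y'⁻¹) * y' := by rw [e2]
            _ = y * y := by group
        have hyy : y' = y := sq_inj_of_odd
          (by rw [hy', ← MulAut.conj_apply, MulEquiv.orderOf_eq]; exact hFodd y hyF)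
          (by rw [hy', ← MulAut.conj_apply, MulEquiv.orderOf_eq]) h3
        rw [hyy] at h1
        exact ⟨hf.1, mem_centralizer_singleton_iff.2 (mul_inv_eq_iff_eq_mul.1 (mul_right_cancel h1))⟩
      · have hmem : e ∈ E' ⊓ centralizer ({n} : Set X) := ⟨he, mem_centralizer_singleton_iff.2 hen⟩
        rw [← heq] at hmem
        have h := mul_inv_eq_iff_eq_mul.2 (mem_centralizer_singleton_iff.1 hmem.2)
        rw [show e * (n * y) * e⁻¹ = (e * n * e⁻¹) * (e * y * e⁻¹) by group, hen', hyi] at h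
        exact CfsgLib.Invol.eq_one_of_odd_of_mul_self (hFodd y hyF)
          (inv_eq_iff_mul_eq_one.1 (mul_left_cancel h))
    exact absurd (hmin (n * y) (Finset.mem_filter.2 ⟨Finset.mem_univ _, mul_mem hnF hyF⟩))
      (not_le.2 (CfsgLib.Fusion.card_lt_card_of_lt hlt))
  refine ⟨h₀ * n, fun e he he1 k hk => ?_⟩
  set p := e * h₀ * e⁻¹ * h₀⁻¹ with hp
  set q := e * n * e⁻¹ * n⁻¹ with hq
  have hqF : q ∈ F := mul_mem (hFnorm.conj_mem n hnF e) (inv_mem hnF)
  have hpC : p ∈ C := mul_mem ((inferInstance : C.Normal).conj_mem h₀ hh₀C e) (inv_mem hh₀C)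
  have hcq : q * h₀⁻¹ = h₀⁻¹ * q := mem_centralizer_iff.1 (inv_mem hh₀C) q hqF
  have hpq : e * (h₀ * n) * e⁻¹ * (h₀ * n)⁻¹ = p * q := by
    calc e * (h₀ * n) * e⁻¹ * (h₀ * n)⁻¹ = (e * h₀ * e⁻¹) * (q * h₀⁻¹) := by rw [hq]; group
      _ = (e * h₀ * e⁻¹) * (h₀⁻¹ * q) := by rw [hcq]
      _ = p * q := by rw [hp]; group
  rw [hpq, (show Commute p q from (mem_centralizer_iff.1 hpC q hqF).symm).mul_pow] at hk
  rcases hgood (π e) (mem_map_of_mem π he) with hc | hnk
  · have heE' : e ∈ E' := ⟨he, mem_centralizer_iff.2 fun y hy => (hc y hy).symm⟩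
    have hp1 : p = 1 := by rw [hp, hfix e heE', mul_inv_cancel]
    rw [hp1, one_pow, one_mul] at hk
    obtain ⟨i, hi, hqi⟩ := (Nat.dvd_prime_pow Nat.prime_two).1 (orderOf_dvd_of_pow_eq_one hk)
    have ho := hFodd q hqF
    rw [hqi] at ho
    rcases Nat.eq_zero_or_pos i with h0 | h0
    · rw [h0, pow_zero, orderOf_eq_one_iff, hq, mul_inv_eq_one, mul_inv_eq_iff_eq_mul] at hqi
      exact he1 (hreg e heE' hqi)
    · exact absurd ho (Nat.not_odd_iff_even.2 (Nat.even_pow.2 ⟨even_two, h0.ne'⟩))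
  · refine hnk k ?_
    have hπp : π (p ^ 2 ^ k) = 1 := by
      refine hdisj _ (pow_mem hpC _) _ (inv_mem (pow_mem hqF (2 ^ k))) ?_
      rw [eq_inv_of_mul_eq_one_left hk]
    rw [← hπp, hp]
    simp only [map_mul, map_inv, map_pow, hh₀π]

/-- Hence no `2`-group normalized by `E` and its conjugate meets `E`. -/
theorem exists_conj_meet_eq_bot (h2 : Cfsg.pCore 2 X = ⊥) (hG : HG X) (hKS : KS X)
    {E : Subgroup X} (hE : ∀ e ∈ E, e * e = 1) :
    ∃ h : X, ∀ O : Subgroup X, IsPGroup 2 O →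
      (∀ f ∈ conjBy h E, ∀ o ∈ O, f * o * f⁻¹ ∈ O) → O ⊓ E = ⊥ := by
  obtain ⟨h, hh⟩ := gen_exists h2 hG hKS hE
  refine ⟨h, fun O hO hn => (Subgroup.eq_bot_iff_forall _).2 fun e he => ?_⟩
  by_contra he1
  have h1 := hn _ (conj_mem_conjBy (g := h) he.2) e he.1
  have hsq : (e * h * e⁻¹ * h⁻¹) ^ 2 ∈ O := by
    rw [pow_two]
    have := mul_mem he.1 h1
    rw [show (e * h * e⁻¹ * h⁻¹) * (e * h * e⁻¹ * h⁻¹) =
      e * (h * e * h⁻¹ * e * (h * e * h⁻¹)⁻¹) by
        rw [elem_inv hE he.2, mul_inv_rev, mul_inv_rev, inv_inv, elem_inv hE he.2]; group]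
    exact this
  obtain ⟨k, hk⟩ := hO ⟨_, hsq⟩
  refine hh e he.2 he1 (k + 1) ?_
  rw [pow_succ', pow_mul]
  exact congrArg Subtype.val hk

end Main

end CfsgLib.FourFree
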