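import Cfsg.Agent.Lib.FourFree.K.Tight

/-!
# Elementary subgroups normalized by `O₂` of a constrained group

If every elementary subgroup `R` of `Q = O₂(Y)` inducing a nontrivial group on the elementary
subgroup `V` normalized by `Q` satisfies `|V : C_V(R)|² > |R : C_R(V)|³`, then `V ≤ Q` and the
conjugates of `V` commute with each other.
-/

set_option autoImplicit false
set_option linter.style.haveILetI false

open Subgroup
open CfsgLib.CFun (delt fixOf mem_fixOf card_mul_relIndex')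
open CfsgLib.Fusion (conjBy mem_conjBy conj_mem_conjBy conjBy_le_iff card_conjBy)

namespace CfsgLib.FourFree

universe u

theorem card_inf_ker_mul {G Q : Type*} [Group G] [Group Q] [Finite G] (f : G →* Q)
    (X : Subgroup G) :
    Nat.card X = Nat.card (X ⊓ f.ker : Subgroup G) * Nat.card (X.map f) := by
  rw [← relIndex_ker, ← Subgroup.inf_relIndex_left X f.ker, card_mul_relIndex' inf_le_left]

theorem centerInvol_ne_bot {G : Type*} [Group G] [Finite G] {Q : Subgroup G} (hQp : IsPGroup 2 Q)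
    (hQ : Q ≠ ⊥) : centerInvol Q ≠ ⊥ := by
  haveI : Fact (Nat.Prime 2) := ⟨Nat.prime_two⟩
  haveI : Nontrivial Q := (Subgroup.nontrivial_iff_ne_bot _).2 hQ
  haveI := hQp.center_nontrivial
  obtain ⟨n, hn⟩ := (hQp.to_subgroup (center Q)).exists_card_eq
  obtain ⟨c, hc⟩ := exists_prime_orderOf_dvd_card' (G := center Q) 2 (by
    rcases n with _ | n
    · exact absurd hn (by rw [pow_zero]; exact (Finite.one_lt_card (α := center Q)).ne')
    · exact hn ▸ dvd_pow_self 2 n.succ_ne_zero)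
  intro e
  have hcZ : ((c : Q) : G) ∈ centerInvol Q := by
    refine ⟨(c : Q).2, fun q hq => congrArg Subtype.val
      ((Subgroup.mem_center_iff.1 c.2 ⟨q, hq⟩).symm), ?_⟩
    have h := pow_orderOf_eq_one c
    rw [hc, pow_two] at h
    exact congrArg (fun w : center Q => ((w : Q) : G)) h
  rw [e, mem_bot] at hcZ
  have : c = 1 := Subtype.ext (Subtype.ext hcZ)
  rw [this, orderOf_one] at hc
  omega

variable {Q : Type u} [Group Q] [Finite Q]

/-- The lower bound for the commutators of an elementary image in a normal `2`-subgroup. -/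
theorem layer_aux (hG : HG Q) (hKS : KS Q) (n : ℕ) :
    ∀ (G : Type u) [Group G] [Finite G], Nat.card G = n → ∀ π : G →* Q, Function.Surjective π →
      IsPGroup 2 π.ker → ∀ E I X : Subgroup G, (∀ e ∈ E.map π, e * e = 1) → I ≤ π.ker →
      (∀ p ∈ π.ker, ∀ e ∈ E, p * e * p⁻¹ * e⁻¹ ∈ I) → X.map π = ⊤ →
      ∃ K : Subgroup Q, K.Normal ∧
        (∀ x : G, π x ∈ K → ∃ k : ℕ, x ^ 2 ^ k ∈ centralizer (π.ker : Set G)) ∧
        K.relIndex (E.map π) ^ 2 * Nat.card (I ⊓ centralizer (X : Set G) : Subgroup G) ≤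
          Nat.card I := by
  induction n using Nat.strong_induction_on with
  | _ n ih =>
  intro G _ _ hn π hπ hP E I X hE hIP hI hX
  by_cases hker : π.ker = ⊥
  · refine ⟨⊤, inferInstance, fun x _ => ⟨0, ?_⟩, ?_⟩
    · rw [hker]
      exact mem_centralizer_iff.2 fun p hp => by
        rw [SetLike.mem_coe, mem_bot] at hp
        rw [hp, one_mul, mul_one]
    · rw [relIndex_top_left, one_pow, one_mul]
      exact card_le_of_le inf_le_left
  set P := π.ker with hPdef
  set Z := centerInvol P with hZdef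
  have hZP : Z ≤ P := fun z hz => hz.1
  haveI hZn : Z.Normal := ⟨fun z hz g => ⟨(π.normal_ker).conj_mem z hz.1 g, fun q hq => by
    have := hz.2.1 (g⁻¹ * q * g) (by
      have h := (π.normal_ker).conj_mem q hq g⁻¹
      rwa [inv_inv] at h)
    calc g * z * g⁻¹ * q = g * (z * (g⁻¹ * q * g)) * g⁻¹ := by group
      _ = q * (g * z * g⁻¹) := by rw [this]; group, by
    calc g * z * g⁻¹ * (g * z * g⁻¹) = g * (z * z) * g⁻¹ := by group
      _ = 1 := by rw [hz.2.2]; group⟩⟩
  -- the action on `Z`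
  letI : CommGroup Z := { mul_comm := fun s t => Subtype.ext (s.2.2.1 _ t.2.1) }
  have hZ2 : ∀ z : Z, z * z = 1 := fun z => Subtype.ext z.2.2.2
  let e := QuotientGroup.quotientKerEquivOfSurjective π hπ
  let σ0 : G ⧸ π.ker →* MulAut Z := QuotientGroup.lift π.ker MulAut.conjNormal fun p hp =>
    MulEquiv.ext fun z => Subtype.ext (by
      simp only [MulAut.conjNormal_apply, MulAut.one_apply]
      rw [← z.2.2.1 p hp, mul_inv_cancel_right])
  let σ : Q →* MulAut Z := σ0.comp e.symm.toMonoidHom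
  have hσ : ∀ (g : G) (z : Z), ((σ (π g) z : Z) : G) = g * z * g⁻¹ := by
    intro g z
    have h1 : e.symm (π g) = QuotientGroup.mk g := e.injective (by
      rw [e.apply_symm_apply]; rfl)
    show ((σ0 (e.symm (π g)) z : Z) : G) = _
    rw [h1]
    exact MulAut.conjNormal_apply g z
  -- the quotient
  set f := QuotientGroup.mk' Z with hf
  have hfs : Function.Surjective f := QuotientGroup.mk'_surjective Z
  let π' : G ⧸ Z →* Q := QuotientGroup.lift Z π fun z hz => hZP hz
  have hπf : π'.comp f = π := MonoidHom.ext fun g => rfl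
  have hπ' : Function.Surjective π' := fun q => by
    obtain ⟨g, rfl⟩ := hπ q; exact ⟨f g, rfl⟩
  have hker' : π'.ker = P.map f := by
    ext y
    constructor
    · intro hy
      obtain ⟨g, rfl⟩ := hfs y
      exact mem_map_of_mem f hy
    · rintro ⟨p, hp, rfl⟩
      exact hp
  have hlt : Nat.card (G ⧸ Z) < n := by
    rw [← hn, Subgroup.card_eq_card_quotient_mul_card_subgroup Z]
    exact lt_mul_of_one_lt_right Nat.card_pos
      ((Subgroup.one_lt_card_iff_ne_bot Z).2 (centerInvol_ne_bot hP hker))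
  obtain ⟨K', hK'n, hK'p, hK'b⟩ := ih _ hlt (G ⧸ Z) rfl π' hπ' (hker' ▸ hP.map f) (E.map f)
    (I.map f) (X.map f) (by rw [map_map, hπf]; exact hE) (hker' ▸ map_mono hIP)
    (by
      rw [hker']
      rintro _ ⟨p, hp, rfl⟩ _ ⟨x, hx, rfl⟩
      simp only [← map_inv, ← map_mul]
      exact mem_map_of_mem f (hI p hp x hx))
    (by rw [map_map, hπf]; exact hX)
  rw [map_map, hπf] at hK'b
  obtain ⟨K1, hK1n, hK1p, hK1b⟩ := exists_kernel_bounds σ hZ2 hG hKS ⊤ fun _ _ _ => mem_top _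
  haveI := hK'n
  haveI := hK1n
  refine ⟨K1 ⊓ K', inferInstance, fun x hx => ?_, ?_⟩
  · obtain ⟨a, ha⟩ := hK'p (f x) hx.2
    obtain ⟨b, hb⟩ := hK1p (π x) hx.1
    set y := x ^ 2 ^ (a + b) with hy
    refine ⟨a + b + 1, mem_centralizer_iff.2 fun p hp => ?_⟩
    rw [pow_succ, pow_mul, ← hy, pow_two]
    have hy1 : f y ∈ centralizer ((π'.ker : Subgroup (G ⧸ Z)) : Set (G ⧸ Z)) := by
      rw [hy, map_pow, pow_add, pow_mul]; exact pow_mem ha _
    have hy2 : π y ∈ ptFix σ (⊤ : Subgroup Z) := by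
      rw [hy, map_pow, add_comm, pow_add, pow_mul]; exact pow_mem hb _
    set d := p⁻¹ * (y * p * y⁻¹) with hd
    have hdZ : d ∈ Z := by
      have h := mem_centralizer_iff.1 hy1 (f p) (hker' ▸ mem_map_of_mem f hp)
      rw [← QuotientGroup.eq_one_iff (N := Z) d]
      show f d = 1
      rw [hd, map_mul, map_mul, map_mul, map_inv, map_inv, ← h]
      group
    have hdy : y * d * y⁻¹ = d := by
      have h := congrArg Subtype.val (hy2 ⟨d, hdZ⟩ (mem_top _))
      rwa [hσ] at h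
    have hpd : y * p * y⁻¹ = p * d := by rw [hd]; group
    have : y * y * p * (y * y)⁻¹ = p := by
      calc y * y * p * (y * y)⁻¹ = y * (y * p * y⁻¹) * y⁻¹ := by group
        _ = y * (p * d) * y⁻¹ := by rw [hpd]
        _ = (y * p * y⁻¹) * (y * d * y⁻¹) := by group
        _ = p := by rw [hdy, hpd, mul_assoc, hdZ.2.2, mul_one]
    exact (mul_inv_eq_iff_eq_mul.1 this).symm
  set E2 := K' ⊓ E.map π with hE2
  have hb4 := (hK1b E2 fun x hx => hE x hx.2).2.2.2 (I.subgroupOf Z) ((closure_le _).2 (by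
    rintro _ ⟨q, hq, z, -, rfl⟩
    obtain ⟨x, hx, rfl⟩ := hq.2
    show ((delt σ (π x) z : Z) : G) ∈ I
    rw [delt, Subgroup.coe_div, hσ, div_eq_mul_inv]
    have h := inv_mem (hI z (hZP z.2) x hx)
    simpa [mul_assoc] using h))
  have hfker : f.ker = Z := QuotientGroup.ker_mk' Z
  have hm : ∀ Y : Subgroup G, Nat.card ((Y.subgroupOf Z).map Z.subtype) =
      Nat.card (Y ⊓ Z : Subgroup G) := fun Y => by rw [subgroupOf_map_subtype]
  have h1 : Nat.card (I ⊓ Z : Subgroup G) =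
      Nat.card (⊤ ⊓ I.subgroupOf Z : Subgroup Z) := by
    rw [top_inf_eq, ← hm I, Subgroup.card_map_of_injective Z.subtype_injective]
  have h2 : Nat.card (I ⊓ centralizer (X : Set G) ⊓ Z : Subgroup G) ≤
      Nat.card (⊤ ⊓ I.subgroupOf Z ⊓ fixOf σ ⊤ : Subgroup Z) := by
    rw [← hm (I ⊓ centralizer (X : Set G)), Subgroup.card_map_of_injective Z.subtype_injective]
    refine card_le_of_le fun z hz => ⟨⟨mem_top _, hz.1⟩, mem_fixOf.2 fun q _ => ?_⟩
    obtain ⟨x, hx, rfl⟩ : q ∈ X.map π := hX ▸ mem_top q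
    refine Subtype.ext ?_
    rw [hσ]
    exact mul_inv_eq_iff_eq_mul.2 (mem_centralizer_iff.1 hz.2 x hx)
  have h3 : Nat.card ((I ⊓ centralizer (X : Set G)).map f) ≤
      Nat.card (I.map f ⊓ centralizer ((X.map f : Subgroup (G ⧸ Z)) : Set (G ⧸ Z)) :
        Subgroup (G ⧸ Z)) := by
    refine card_le_of_le (le_inf (map_mono inf_le_left) ?_)
    rintro _ ⟨z, hz, rfl⟩
    refine mem_centralizer_iff.2 ?_
    rintro _ ⟨x, hx, rfl⟩
    rw [← map_mul, mem_centralizer_iff.1 hz.2 x hx, map_mul]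
  rw [card_inf_ker_mul f I, card_inf_ker_mul f (I ⊓ centralizer (X : Set G)), hfker,
    ← relIndex_inf_mul_relIndex]
  calc (K1.relIndex (K' ⊓ E.map π) * K'.relIndex (E.map π)) ^ 2 *
        (Nat.card (I ⊓ centralizer (X : Set G) ⊓ Z : Subgroup G) *
          Nat.card ((I ⊓ centralizer (X : Set G)).map f))
      = (K1.relIndex E2 ^ 2 * Nat.card (I ⊓ centralizer (X : Set G) ⊓ Z : Subgroup G)) *
          (K'.relIndex (E.map π) ^ 2 * Nat.card ((I ⊓ centralizer (X : Set G)).map f)) := by ring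
    _ ≤ _ := Nat.mul_le_mul
      (((Nat.mul_le_mul le_rfl h2).trans hb4).trans h1.ge)
      ((Nat.mul_le_mul le_rfl h3).trans hK'b)

variable {Y : Type u} [Group Y] [Finite Y]

/-- The commutators of an elementary subgroup normalized by `O₂` in the constrained case. -/
theorem layer_bound (hcon : centralizer (Cfsg.pCore 2 Y : Set Y) ≤ Cfsg.pCore 2 Y)
    [(Cfsg.pCore 2 Y).Normal]
    (hG : HG (Y ⧸ Cfsg.pCore 2 Y)) (hKS : KS (Y ⧸ Cfsg.pCore 2 Y)) {V V' : Subgroup Y}
    (hV : ∀ x ∈ V, x * x = 1) (hVQ : ∀ q ∈ Cfsg.pCore 2 Y, ∀ x ∈ V, q * x * q⁻¹ ∈ V)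
    (hmeet : ∀ O : Subgroup (Y ⧸ Cfsg.pCore 2 Y), IsPGroup 2 O →
      (∀ f ∈ V'.map (QuotientGroup.mk' (Cfsg.pCore 2 Y)), ∀ o ∈ O, f * o * f⁻¹ ∈ O) →
        O ⊓ V.map (QuotientGroup.mk' (Cfsg.pCore 2 Y)) = ⊥) :
    (Cfsg.pCore 2 Y).relIndex V ^ 2 *
        Nat.card (V ⊓ Cfsg.pCore 2 Y ⊓ centralizer (V' : Set Y) : Subgroup Y) ≤
      Nat.card (V ⊓ Cfsg.pCore 2 Y : Subgroup Y) := by
  set P := Cfsg.pCore 2 Y with hP
  set q := QuotientGroup.mk' P with hq
  set H := V ⊔ V' ⊔ P with hH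
  have hVH : V ≤ H := le_sup_left.trans le_sup_left
  have hV'H : V' ≤ H := le_sup_right.trans le_sup_left
  have hPH : P ≤ H := le_sup_right
  let π : H →* H.map q := q.subgroupMap H
  have hπ : Function.Surjective π := q.subgroupMap_surjective H
  have hker : π.ker = P.subgroupOf H := by
    ext x
    rw [MonoidHom.mem_ker, Subtype.ext_iff, mem_subgroupOf]
    exact QuotientGroup.eq_one_iff (x : Y)
  have hP2 : IsPGroup 2 P := CfsgLib.Coprime.pCore_isPGroup 2
  set X := (V ⊔ V').subgroupOf H with hXdef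
  have hXtop : X.map π = ⊤ := by
    refine (Subgroup.eq_top_iff' _).2 ?_
    rintro ⟨_, y, hy, rfl⟩
    rw [hH, SetLike.mem_coe] at hy
    obtain ⟨x, hx, p, hp, rfl⟩ := Subgroup.mem_sup_of_normal_right.1 hy
    refine ⟨⟨x, (le_sup_left : V ⊔ V' ≤ H) hx⟩, hx, Subtype.ext ?_⟩
    show q x = q (x * p)
    rw [map_mul, show q p = 1 from (QuotientGroup.eq_one_iff p).2 hp, mul_one]
  obtain ⟨K, hKn, hKp, hKb⟩ := layer_aux (hG.subgroup (H.map q)) (hKS.subgroup (H.map q)) _ H rfl π
    hπ (by rw [hker]; exact hP2.comap_of_injective _ H.subtype_injective) (V.subgroupOf H)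
    ((V ⊓ P).subgroupOf H) X
    (by
      rintro _ ⟨x, hx, rfl⟩
      rw [← map_mul, show x * x = 1 from Subtype.ext (hV _ hx), map_one])
    (hker ▸ comap_mono inf_le_right)
    (fun p hp x hx => by
      rw [hker] at hp
      exact ⟨V.mul_mem (hVQ _ hp _ hx) (V.inv_mem hx), by
        show (p : Y) * x * (p : Y)⁻¹ * (x : Y)⁻¹ ∈ P
        rw [mul_assoc (p : Y), mul_assoc]
        exact mul_mem hp (by
          simpa using (inferInstance : P.Normal).conj_mem _ (inv_mem hp) (x : Y))⟩)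
    hXtop
  have hK2 : IsPGroup 2 (K.map (H.map q).subtype) := by
    rintro ⟨_, k, hk, rfl⟩
    obtain ⟨x, rfl⟩ := hπ k
    obtain ⟨i, hi⟩ := hKp x hk
    refine ⟨i, Subtype.ext ?_⟩
    show (q (x : Y)) ^ 2 ^ i = 1
    rw [← map_pow]
    refine (QuotientGroup.eq_one_iff _).2 (hcon (mem_centralizer_iff.2 fun p hp => ?_))
    have h := mem_centralizer_iff.1 hi ⟨p, hPH hp⟩ (by rw [hker]; exact hp)
    exact congrArg Subtype.val h
  have hmap : ((V.subgroupOf H).map π).map (H.map q).subtype = V.map q := by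
    rw [map_map, show (H.map q).subtype.comp π = q.comp H.subtype from rfl, ← map_map,
      map_subgroupOf_eq_of_le hVH]
  have hbot : K ⊓ (V.subgroupOf H).map π = ⊥ := by
    refine (Subgroup.map_eq_bot_iff_of_injective _ (H.map q).subtype_injective).1 ?_
    rw [Subgroup.map_inf _ _ _ (H.map q).subtype_injective, hmap]
    refine hmeet _ hK2 fun f hf o ho => ?_
    obtain ⟨k, hk, rfl⟩ := ho
    obtain ⟨x, hx, rfl⟩ := hf
    exact ⟨⟨q x, mem_map_of_mem q (hV'H hx)⟩ * k * ⟨q x, mem_map_of_mem q (hV'H hx)⟩⁻¹,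
      hKn.conj_mem k hk _, rfl⟩
  have hidx : K.relIndex ((V.subgroupOf H).map π) = P.relIndex V := by
    rw [← Subgroup.inf_relIndex_right, hbot, relIndex_bot_left,
      ← Subgroup.card_map_of_injective (K := (V.subgroupOf H).map π) (H.map q).subtype_injective,
      hmap, ← relIndex_ker, hq, QuotientGroup.ker_mk']
  rw [hidx] at hKb
  have e1 : Nat.card ((V ⊓ P).subgroupOf H) = Nat.card (V ⊓ P : Subgroup Y) :=
    Nat.card_congr (Subgroup.subgroupOfEquivOfLe (inf_le_left.trans hVH)).toEquiv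
  rw [e1] at hKb
  refine le_trans (Nat.mul_le_mul le_rfl ?_) hKb
  rw [← Nat.card_congr (Subgroup.subgroupOfEquivOfLe
    ((inf_le_left.trans inf_le_left).trans hVH : V ⊓ P ⊓ centralizer (V' : Set Y) ≤ H)).toEquiv]
  refine card_le_of_le fun z hz => ⟨hz.1, mem_centralizer_iff.2 fun x hx => Subtype.ext ?_⟩
  have hle : V ⊔ V' ≤ centralizer ({(z : Y)} : Set Y) := sup_le
    (fun v hv => mem_centralizer_singleton_iff.2 (elem_comm hV hv hz.1.1))
    (fun v hv => mem_centralizer_singleton_iff.2 (mem_centralizer_iff.1 hz.2 v hv))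
  exact mem_centralizer_singleton_iff.1 (hle hx)

/-- `V` has codimensions above three halves of the ranks of the elementary subgroups of `S`. -/
def SmallImages (S V : Subgroup Y) : Prop :=
  ∀ R : Subgroup Y, R ≤ S → (∀ r ∈ R, r * r = 1) → ¬ R ≤ centralizer (V : Set Y) →
    Nat.card R ^ 3 * Nat.card (V ⊓ centralizer (R : Set Y) : Subgroup Y) ^ 2 <
      Nat.card V ^ 2 * Nat.card (R ⊓ centralizer (V : Set Y) : Subgroup Y) ^ 3

theorem card_conjBy_inf (g : Y) (A B : Subgroup Y) :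
    Nat.card (conjBy g A ⊓ conjBy g B : Subgroup Y) = Nat.card (A ⊓ B : Subgroup Y) := by
  rw [conjBy, conjBy, ← Subgroup.map_inf _ _ _ (MulAut.conj g).injective]
  exact Subgroup.card_map_of_injective (MulAut.conj g).injective

theorem centralizer_conjBy (g : Y) (A : Subgroup Y) :
    centralizer ((conjBy g A : Subgroup Y) : Set Y) = conjBy g (centralizer (A : Set Y)) := by
  ext y
  rw [mem_conjBy, mem_centralizer_iff, mem_centralizer_iff]
  constructor
  · intro h a ha
    have := h _ (conj_mem_conjBy (g := g) ha)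
    calc a * (g⁻¹ * y * g) = g⁻¹ * ((g * a * g⁻¹) * y) * g := by group
      _ = g⁻¹ * y * g * a := by rw [this]; group
  · intro h a ha
    have := h _ (mem_conjBy.1 ha)
    calc a * y = g * ((g⁻¹ * a * g) * (g⁻¹ * y * g)) * g⁻¹ := by group
      _ = y * a := by rw [this]; group

theorem SmallImages.conj {S V : Subgroup Y} [S.Normal] (h : SmallImages S V) (g : Y) :
    SmallImages S (conjBy g V) := by
  intro R hR hR2 hRV
  obtain ⟨R', rfl⟩ : ∃ R', R = conjBy g R' :=
    ⟨conjBy g⁻¹ R, (CfsgLib.Fusion.conjBy_conjBy_inv g R).symm⟩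
  have hR' : R' ≤ S := fun r hr => by
    have := (inferInstance : S.Normal).conj_mem _ (hR (conj_mem_conjBy (g := g) hr)) g⁻¹
    simpa [mul_assoc] using this
  have hR'2 : ∀ r ∈ R', r * r = 1 := fun r hr => by
    have h1 := hR2 _ (conj_mem_conjBy (g := g) hr)
    calc r * r = g⁻¹ * ((g * r * g⁻¹) * (g * r * g⁻¹)) * g := by group
      _ = 1 := by rw [h1]; group
  rw [centralizer_conjBy] at hRV ⊢
  rw [centralizer_conjBy, card_conjBy_inf, card_conjBy_inf, card_conjBy, card_conjBy]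
  exact h R' hR' hR'2 fun hle => hRV (map_mono hle)

/-- Elementary subgroups with small images lie in `O₂` and commute with their conjugates. -/
theorem le_pCore_of_smallImages (hcon : centralizer (Cfsg.pCore 2 Y : Set Y) ≤ Cfsg.pCore 2 Y)
    [(Cfsg.pCore 2 Y).Normal] (hG : HG (Y ⧸ Cfsg.pCore 2 Y)) (hKS : KS (Y ⧸ Cfsg.pCore 2 Y))
    {V : Subgroup Y} (hV : ∀ x ∈ V, x * x = 1)
    (hVQ : ∀ q ∈ Cfsg.pCore 2 Y, ∀ x ∈ V, q * x * q⁻¹ ∈ V)
    (hsm : SmallImages (Cfsg.pCore 2 Y) V) :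
    V ≤ Cfsg.pCore 2 Y ∧ ∀ g : Y, ∀ x ∈ V, ∀ y ∈ conjBy g V, x * y = y * x := by
  set P := Cfsg.pCore 2 Y with hP
  set q := QuotientGroup.mk' P with hq
  have hVP : V ≤ P := by
    by_contra hne
    obtain ⟨h, hh⟩ := exists_conj_meet_both (CfsgLib.Coprime.pCore_quotient_eq_bot 2) hG hKS
      (E := V.map q) (elem_map hV q)
    obtain ⟨g, rfl⟩ := QuotientGroup.mk'_surjective P h
    rw [← map_conjBy] at hh
    set V' := conjBy g V with hV'
    have hV'2 : ∀ x ∈ V', x * x = 1 := fun x hx => by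
      have h1 : g⁻¹ * x * g ∈ V := mem_conjBy.1 hx
      calc x * x = g * ((g⁻¹ * x * g) * (g⁻¹ * x * g)) * g⁻¹ := by group
        _ = 1 := by rw [hV _ h1]; group
    have hV'Q : ∀ p ∈ P, ∀ x ∈ V', p * x * p⁻¹ ∈ V' := fun p hp x hx => by
      refine mem_conjBy.2 ?_
      have := hVQ (g⁻¹ * p * g) (by simpa using (inferInstance : P.Normal).conj_mem p hp g⁻¹)
        _ (mem_conjBy.1 hx)
      convert this using 1
      group
    have l1 := layer_bound hcon hG hKS hV hVQ fun O hO hn => (hh O hO).1 hn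
    have l2 := layer_bound hcon hG hKS (V' := V) hV'2 hV'Q fun O hO hn => (hh O hO).2 hn
    set v := P.relIndex V with hv
    have hconjP : conjBy g P = P :=
      CfsgLib.Fusion.conjBy_eq_iff.2 ((normalizer_eq_top P).ge (mem_top g))
    have hv' : P.relIndex V' = v := by
      rw [hv, hV']
      conv_lhs => arg 1; rw [← hconjP]
      exact relIndex_map_map_of_injective _ _ (MulAut.conj g).injective
    rw [hv'] at l2
    set i1 := Nat.card (V ⊓ P : Subgroup Y) with hi1
    set i2 := Nat.card (V' ⊓ P : Subgroup Y) with hi2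
    have hi : i2 = i1 := by rw [hi2, ← hconjP, hV', card_conjBy_inf]
    set c1 := Nat.card (V ⊓ P ⊓ centralizer (V' : Set Y) : Subgroup Y) with hc1
    set c2 := Nat.card (V' ⊓ P ⊓ centralizer (V : Set Y) : Subgroup Y) with hc2
    have hv2 : 2 ≤ v := by
      by_contra hlt
      have hpos : v ≠ 0 := index_ne_zero_of_finite
      exact hne (relIndex_eq_one.1 (by omega))
    have hVcard : Nat.card V = i1 * v := by
      rw [hi1, hv, ← Subgroup.inf_relIndex_left V P, card_mul_relIndex' inf_le_left]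
    have hV'card : Nat.card V' = i2 * v := by
      rw [hi2, ← hv', ← Subgroup.inf_relIndex_left V' P, card_mul_relIndex' inf_le_left]
    have p1 : i2 ^ 3 * c1 ^ 2 < (i1 * v) ^ 2 * c2 ^ 3 := by
      have h1 := hsm (V' ⊓ P) inf_le_right (fun r hr => hV'2 r hr.1) (fun hle => by
        have e : c2 = i2 := by rw [hc2, inf_eq_left.2 hle]
        rw [e] at l2
        have hpos : 0 < i2 := Nat.card_pos
        nlinarith)
      refine lt_of_le_of_lt ?_ (hVcard ▸ h1)
      refine Nat.mul_le_mul le_rfl (Nat.pow_le_pow_left (card_le_of_le ?_) 2)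
      exact le_inf (inf_le_left.trans inf_le_left)
        (inf_le_right.trans (centralizer_le (fun r hr => hr.1)))
    have p2 : i1 ^ 3 * c2 ^ 2 < (i2 * v) ^ 2 * c1 ^ 3 := by
      have h1 := (hsm.conj g) (V ⊓ P) inf_le_right (fun r hr => hV r hr.1) (fun hle => by
        have e : c1 = i1 := by rw [hc1, hV', inf_eq_left.2 hle]
        rw [e] at l1
        have hpos : 0 < i1 := Nat.card_pos
        nlinarith)
      refine lt_of_le_of_lt ?_ (hV'card ▸ h1)
      refine Nat.mul_le_mul le_rfl (Nat.pow_le_pow_left (card_le_of_le ?_) 2)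
      exact le_inf (inf_le_left.trans inf_le_left)
        (inf_le_right.trans (centralizer_le (fun r hr => hr.1)))
    have hprod := Nat.mul_lt_mul_of_lt_of_lt p1 p2
    have hll := Nat.mul_le_mul l1 l2
    refine absurd hprod (not_lt.2 ?_)
    calc (i1 * v) ^ 2 * c2 ^ 3 * ((i2 * v) ^ 2 * c1 ^ 3)
        = (v ^ 2 * c1 * (v ^ 2 * c2)) * (i1 ^ 2 * i2 ^ 2 * c1 ^ 2 * c2 ^ 2) := by ring
      _ ≤ (i1 * i2) * (i1 ^ 2 * i2 ^ 2 * c1 ^ 2 * c2 ^ 2) := Nat.mul_le_mul_right _ hll
      _ = _ := by ring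
  refine ⟨hVP, fun g x hx y hy => ?_⟩
  by_contra hne
  set V' := conjBy g V with hV'
  have hV'P : V' ≤ P := conjBy_le_iff.2 fun z hz => (inferInstance : P.Normal).conj_mem z (hVP hz) g
  have hV'2 : ∀ z ∈ V', z * z = 1 := fun z hz => by
    have h1 : g⁻¹ * z * g ∈ V := mem_conjBy.1 hz
    calc z * z = g * ((g⁻¹ * z * g) * (g⁻¹ * z * g)) * g⁻¹ := by group
      _ = 1 := by rw [hV _ h1]; group
  have p1 := hsm V' hV'P hV'2 fun hle => hne (mem_centralizer_iff.1 (hle hy) x hx)
  have p2 := (hsm.conj g) V hVP hV fun hle => hne (mem_centralizer_iff.1 (hle hx) y hy).symm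
  rw [← hV'] at p2
  set a := Nat.card (V ⊓ centralizer (V' : Set Y) : Subgroup Y)
  set b := Nat.card (V' ⊓ centralizer (V : Set Y) : Subgroup Y)
  have hcard : Nat.card V' = Nat.card V := card_conjBy g V
  rw [hcard] at p1 p2
  have ha : a ≤ Nat.card V := card_le_of_le inf_le_left
  have hb : b ≤ Nat.card V := hcard ▸ card_le_of_le inf_le_left
  have hprod := Nat.mul_lt_mul_of_lt_of_lt p1 p2
  refine absurd hprod (not_lt.2 ?_)
  calc Nat.card V ^ 2 * b ^ 3 * (Nat.card V ^ 2 * a ^ 3)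
      = (Nat.card V ^ 4 * a ^ 2 * b ^ 2) * (a * b) := by ring
    _ ≤ (Nat.card V ^ 4 * a ^ 2 * b ^ 2) * (Nat.card V * Nat.card V) :=
      Nat.mul_le_mul_left _ (Nat.mul_le_mul ha hb)
    _ = _ := by ring

end CfsgLib.FourFree
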