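import Cfsg.Agent.Lib.FourFree.K.Bound

/-!
# The quadratic bound for modules which need not be faithful

For an action of a group with listed simple sections and no inverted element of order three on an
elementary `2`-group, a normal subgroup `K` acting as a `2`-group on an invariant subgroup `U`
measures every elementary `2`-subgroup `E`: the index of `K` in `E` squared bounds the codimension
of the fixed points and the order of the commutator of `E` in `U`.
-/

set_option autoImplicit false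
set_option linter.style.haveILetI false

open Subgroup
open CfsgLib.CFun (delt fixOf mem_fixOf card_mul_relIndex')

namespace CfsgLib.FourFree

universe u v

variable {G : Type u} {M : Type v} [Group G] [CommGroup M]

/-- A set acting quadratically. -/
def IsQuad (ρ : G →* MulAut M) (E : Subgroup G) : Prop :=
  ∀ a ∈ E, ∀ b ∈ E, ∀ x : M, delt ρ a (delt ρ b x) = 1

theorem IsQuad.comIn_le {ρ : G →* MulAut M} {E : Subgroup G} (h : IsQuad ρ E) (P : Subgroup M) :
    comIn ρ P E ≤ fixOf ρ E := by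
  refine (closure_le _).2 ?_
  rintro _ ⟨b, hb, x, -, rfl⟩
  refine mem_fixOf.2 fun a ha => ?_
  exact div_eq_one.1 (h a ha b hb x)

theorem comIn_le_of_inv {ρ : G →* MulAut M} {U : Subgroup M} (hU : ∀ g, ∀ u ∈ U, ρ g u ∈ U)
    (E : Subgroup G) : comIn ρ U E ≤ U := by
  refine (closure_le _).2 ?_
  rintro _ ⟨b, -, x, hx, rfl⟩
  exact div_mem (hU b x hx) hx

theorem comIn_mono_left {ρ : G →* MulAut M} {U U' : Subgroup M} (h : U' ≤ U) (E : Subgroup G) :
    comIn ρ U' E ≤ comIn ρ U E :=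
  closure_mono fun _ ⟨b, hb, x, hx, e⟩ => ⟨b, hb, x, h hx, e⟩

/-- Counting through a homomorphism of an invariant subgroup. -/
theorem card_section {U U' X : Subgroup M} [Finite M] {W : Type v} [Group W] (q : U →* W)
    (hqker : ∀ x : U, q x = 1 ↔ (x : M) ∈ U') (hX : X ≤ U) :
    Nat.card X = Nat.card (X ⊓ U' : Subgroup M) * Nat.card ((X.subgroupOf U).map q) := by
  have hker : q.ker = U'.subgroupOf U := by
    ext x; exact (hqker x)
  rw [← relIndex_ker, hker, subgroupOf, relIndex_comap, subgroupOf_map_subtype, inf_eq_left.2 hX,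
    ← Subgroup.inf_relIndex_left X U', card_mul_relIndex' inf_le_left]

variable [Finite G] [Finite M]

/-- Normal subgroups measuring the action of elementary `2`-subgroups on invariant subgroups. -/
theorem exists_kernel_bounds (ρ : G →* MulAut M) (h2 : ∀ x : M, x * x = 1) (hG : HG G)
    (hKS : KS G) (U : Subgroup M) (hU : ∀ g, ∀ u ∈ U, ρ g u ∈ U) :
    ∃ K : Subgroup G, K.Normal ∧ (∀ x ∈ K, ∃ k : ℕ, x ^ 2 ^ k ∈ ptFix ρ U) ∧
      ∀ E : Subgroup G, (∀ e ∈ E, e * e = 1) →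
        K.relIndex E ^ 2 * Nat.card (U ⊓ fixOf ρ E : Subgroup M) ≤ Nat.card U ∧
        K.relIndex E ^ 2 ≤ Nat.card (comIn ρ U E) ∧
        (∀ E' : Subgroup G, (∀ e ∈ E', e * e = 1) → IsQuad ρ E → IsQuad ρ E' → E ⊔ E' = ⊤ →
          K.relIndex E ^ 2 * K.relIndex E' ^ 2 * Nat.card (U ⊓ fixOf ρ ⊤ : Subgroup M) ≤
            Nat.card U) ∧
        ∀ Y : Subgroup M, comIn ρ U E ≤ Y →
          K.relIndex E ^ 2 * Nat.card (U ⊓ Y ⊓ fixOf ρ ⊤ : Subgroup M) ≤
            Nat.card (U ⊓ Y : Subgroup M) := by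
  haveI : Fact (Nat.Prime 2) := ⟨Nat.prime_two⟩
  induction hn : Nat.card U using Nat.strong_induction_on generalizing U with
  | _ n ih =>
  subst hn
  by_cases hU1 : U = ⊥
  · subst hU1
    refine ⟨⊤, inferInstance, fun x _ => ⟨0, fun u hu => ?_⟩, fun E _ => ⟨?_, ?_, fun E' _ _ _ _ => ?_, fun Y _ => ?_⟩⟩
    · rw [mem_bot.1 hu, map_one]
    · simp
    · simp only [relIndex_top_left, one_pow]; exact Nat.card_pos
    · simp
    · simp
  obtain ⟨U', -, ⟨hU'U, hU'inv⟩, hmax⟩ := exists_maximal_ge_of_wellFoundedGT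
    (fun D : Subgroup M => D < U ∧ ∀ g, ∀ u ∈ D, ρ g u ∈ D) ⊥
    ⟨bot_lt_iff_ne_bot.2 hU1, fun g u hu => by rw [mem_bot.1 hu, map_one]; exact one_mem _⟩
  obtain ⟨K', hK'n, hK'p, hK'b⟩ := ih _ (CfsgLib.Fusion.card_lt_card_of_lt hU'U) U' hU'inv rfl
  obtain ⟨W, _, _, q, G', _, _, π, ρ', hq, hqker, hπ, hρ', hact⟩ :=
    exists_section (ρ := ρ) (P := U) (N := U') hU hU'inv
  have hW2 : ∀ w : W, w * w = 1 := fun w => by
    obtain ⟨x, rfl⟩ := hq w
    rw [← map_mul, hqker, show ((x * x : U) : M) = 1 from h2 x]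
    exact one_mem _
  -- the section is irreducible
  have hirr : ∀ D : Subgroup W, (∀ g, ∀ w ∈ D, ρ' g w ∈ D) → D = ⊥ ∨ D = ⊤ := by
    intro D hD
    set D' := (D.comap q).map U.subtype with hD'
    have hle : D' ≤ U := map_subtype_le _
    by_cases he : D' = U
    · refine Or.inr ((Subgroup.eq_top_iff' _).2 fun w => ?_)
      obtain ⟨x, rfl⟩ := hq w
      obtain ⟨y, hy, hyx⟩ := he.ge x.2
      rwa [← Subtype.ext hyx]
    · refine Or.inl ((Subgroup.eq_bot_iff_forall _).2 fun w hw => ?_)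
      have hU'D : U' ≤ D' := fun u hu => ⟨⟨u, hU'U.le hu⟩, by
        show q _ ∈ D
        rw [(hqker _).2 hu]; exact one_mem _, rfl⟩
      have hinv : ∀ g, ∀ u ∈ D', ρ g u ∈ D' := by
        rintro g _ ⟨x, hx, rfl⟩
        refine ⟨⟨ρ g x, hU g x x.2⟩, ?_, rfl⟩
        show q _ ∈ D
        rw [← hact]
        exact hD _ _ hx
      obtain ⟨x, rfl⟩ := hq w
      exact (hqker x).2 (hmax ⟨lt_of_le_of_ne hle he, hinv⟩ hU'D ⟨x, hw, rfl⟩)
  have hcore : Cfsg.pCore 2 G' = ⊥ := by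
    haveI hOn : (Cfsg.pCore 2 G').Normal := CfsgLib.Coprime.pCore_normal' 2
    have htop : (⊤ : Subgroup W) ≠ ⊥ := by
      intro e
      refine hU'U.not_ge fun u hu => (hqker ⟨u, hu⟩).1 ?_
      exact mem_bot.1 (e ▸ mem_top _)
    obtain ⟨w, -, hw1, hwfix⟩ := exists_fixed (ρ := ρ') hW2
      (CfsgLib.Coprime.pCore_isPGroup (G := G') 2) htop fun g _ =>
        ⟨fun x _ => mem_top _, fun x _ => mem_top _⟩
    rcases hirr (fixOf ρ' (Cfsg.pCore 2 G')) (fun g v hv => mem_fixOf.2 fun o ho => by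
      have := mem_fixOf.1 hv _ (hOn.conj_mem o ho g⁻¹)
      calc ρ' o (ρ' g v) = ρ' g (ρ' (g⁻¹ * o * g⁻¹⁻¹) v) := by
            simp only [← MulAut.mul_apply, ← map_mul]; congr 1; group
        _ = ρ' g v := by rw [this]) with h | h
    · exact absurd (mem_bot.1 (h ▸ hwfix)) hw1
    · refine le_bot_iff.1 ?_
      rw [← ptFix_top hρ', ← h]
      exact le_ptFix_iff.2 le_rfl
  have hHG' := hG.quotient π hπ
  have hKS' := hKS.of_surjective π hπ
  haveI := hK'n
  set K := π.ker ⊓ K' with hKdef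
  have hKidx : ∀ E : Subgroup G, K.relIndex E =
      Nat.card ((K' ⊓ E).map π) * K'.relIndex E := fun E => by
    rw [hKdef, ← relIndex_inf_mul_relIndex, relIndex_ker]
  refine ⟨K, inferInstance, fun x hx => ?_, fun E hE => ?_⟩
  · obtain ⟨k, hk⟩ := hK'p x hx.2
    set y := x ^ 2 ^ k with hy
    refine ⟨k + 1, fun u hu => ?_⟩
    rw [pow_succ, pow_mul, ← hy, pow_two, map_mul, MulAut.mul_apply]
    have hd : ρ y u / u ∈ U' := by
      have h := hact y ⟨u, hu⟩
      rw [hy, map_pow, MonoidHom.mem_ker.1 hx.1, one_pow, map_one, MulAut.one_apply, ← hy] at h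
      have h' := (hqker (⟨ρ y u, hU y u hu⟩ / ⟨u, hu⟩)).1 (by rw [map_div, ← h, div_self'])
      exact h'
    rw [CfsgLib.CFun.delt_apply ρ y u, map_mul, CfsgLib.CFun.delt_apply ρ y u,
      show ρ y (delt ρ y u) = delt ρ y u from hk _ hd, ← mul_assoc, h2, one_mul]
  obtain ⟨hb1, hb2, hb3, hb4⟩ := hK'b E hE
  set E2 := (K' ⊓ E).map π with hE2def
  have hE2 : ∀ e ∈ E2, e * e = 1 := by
    rintro _ ⟨e, he, rfl⟩
    rw [← map_mul, hE e he.2, map_one]
  obtain ⟨q1, q2⟩ := quadratic_bound ρ' hρ' hW2 hcore hHG' hKS' _ E2 rfl hE2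
  have hWcard : Nat.card U = Nat.card U' * Nat.card W := by
    rw [card_section q hqker le_rfl, inf_eq_right.2 hU'U.le, subgroupOf_self,
      ← MonoidHom.range_eq_map, MonoidHom.range_eq_top.2 hq, Subgroup.card_top]
  refine ⟨?_, ?_, fun E' hE' hQ hQ' htopE => ?_, fun Y hY => ?_⟩
  · rw [hKidx, card_section q hqker (inf_le_left : U ⊓ fixOf ρ E ≤ U), hWcard]
    have h1 : Nat.card (U ⊓ fixOf ρ E ⊓ U' : Subgroup M) =
        Nat.card (U' ⊓ fixOf ρ E : Subgroup M) := by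
      rw [inf_right_comm, inf_eq_right.2 hU'U.le]
    have h3 : Nat.card (((U ⊓ fixOf ρ E).subgroupOf U).map q) ≤ Nat.card (fixOf ρ' E2) := by
      refine card_le_of_le ?_
      rintro _ ⟨x, hx, rfl⟩
      refine mem_fixOf.2 ?_
      rintro _ ⟨e, he, rfl⟩
      rw [hact]
      exact congrArg q (Subtype.ext (mem_fixOf.1 hx.2 e he.2))
    rw [h1]
    calc (Nat.card E2 * K'.relIndex E) ^ 2 * (Nat.card (U' ⊓ fixOf ρ E : Subgroup M) * _)
        ≤ (Nat.card E2 * K'.relIndex E) ^ 2 *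
            (Nat.card (U' ⊓ fixOf ρ E : Subgroup M) * Nat.card (fixOf ρ' E2)) := by
          exact Nat.mul_le_mul le_rfl (Nat.mul_le_mul le_rfl h3)
      _ = (K'.relIndex E ^ 2 * Nat.card (U' ⊓ fixOf ρ E : Subgroup M)) *
            (Nat.card E2 ^ 2 * Nat.card (fixOf ρ' E2)) := by ring
      _ ≤ Nat.card U' * Nat.card W := Nat.mul_le_mul hb1 q1
  · rw [hKidx, card_section q hqker (comIn_le_of_inv hU E)]
    have h1 : Nat.card (comIn ρ U' E) ≤ Nat.card (comIn ρ U E ⊓ U' : Subgroup M) :=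
      card_le_of_le (le_inf (comIn_mono_left hU'U.le E) (comIn_le_of_inv hU'inv E))
    have h3 : Nat.card (comIn ρ' ⊤ E2) ≤ Nat.card (((comIn ρ U E).subgroupOf U).map q) := by
      refine card_le_of_le ((closure_le _).2 ?_)
      rintro _ ⟨_, ⟨e, he, rfl⟩, w, -, rfl⟩
      obtain ⟨x, rfl⟩ := hq w
      refine ⟨⟨ρ e x / x, div_mem (hU e x x.2) x.2⟩, delt_mem_comIn he.2 x.2, ?_⟩
      show q (⟨ρ e x, hU e x x.2⟩ / x) = _
      rw [map_div, ← hact, delt]
    calc (Nat.card E2 * K'.relIndex E) ^ 2 = K'.relIndex E ^ 2 * Nat.card E2 ^ 2 := by ring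
      _ ≤ _ := Nat.mul_le_mul (hb2.trans h1) (q2.trans h3)
  · have hb := hb3 E' hE' hQ hQ' htopE
    rw [hKidx, hKidx]
    set E2' := (K' ⊓ E').map π with hE2'def
    have hE2' : ∀ e ∈ E2', e * e = 1 := by
      rintro _ ⟨e, he, rfl⟩
      rw [← map_mul, hE' e he.2, map_one]
    set X := U ⊓ fixOf ρ ⊤ with hX
    have h1 : Nat.card (X ⊓ U' : Subgroup M) = Nat.card (U' ⊓ fixOf ρ ⊤ : Subgroup M) := by
      rw [hX, inf_right_comm, inf_eq_right.2 hU'U.le]
    have himg : (X.subgroupOf U).map q ≤ fixOf ρ' ⊤ := by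
      rintro _ ⟨x, hx, rfl⟩
      refine mem_fixOf.2 fun g' _ => ?_
      obtain ⟨g, rfl⟩ := hπ g'
      rw [hact]
      exact congrArg q (Subtype.ext (mem_fixOf.1 hx.2 g (mem_top g)))
    have key : Nat.card E2 ^ 2 * Nat.card E2' ^ 2 * Nat.card (fixOf ρ' ⊤) ≤ Nat.card W := by
      rcases hirr (fixOf ρ' ⊤) (fun g v hv => by
        rw [mem_fixOf.1 hv g (mem_top g)]; exact hv) with h | h
      · have hquad : ∀ F : Subgroup G, IsQuad ρ F →
            comIn ρ' ⊤ ((K' ⊓ F).map π) ≤ fixOf ρ' (F.map π) := by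
          intro F hF
          refine (closure_le _).2 ?_
          rintro _ ⟨_, ⟨e, he, rfl⟩, w, -, rfl⟩
          refine mem_fixOf.2 ?_
          rintro _ ⟨a, ha, rfl⟩
          obtain ⟨x, rfl⟩ := hq w
          have e1 : delt ρ' (π e) (q x) = q (⟨ρ e x, hU e x x.2⟩ / x) := by
            rw [map_div, ← hact, delt]
          rw [e1, hact]
          refine congrArg q (Subtype.ext ?_)
          exact div_eq_one.1 (hF a ha e he.2 x)
        have hbot : comIn ρ' ⊤ E2 ⊓ comIn ρ' ⊤ E2' = ⊥ := by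
          refine le_bot_iff.1 (h ▸ ?_)
          refine le_ptFix_iff.1 ?_
          rw [← map_top_of_surjective π hπ, ← htopE, Subgroup.map_sup]
          exact sup_le (le_ptFix_iff.2 (inf_le_left.trans (hquad E hQ)))
            (le_ptFix_iff.2 (inf_le_right.trans (hquad E' hQ')))
        have hc := card_sup_mul_inf (comIn ρ' ⊤ E2) (comIn ρ' ⊤ E2')
        rw [hbot, Subgroup.card_bot, mul_one] at hc
        rw [h, Subgroup.card_bot, mul_one]
        calc Nat.card E2 ^ 2 * Nat.card E2' ^ 2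
            ≤ Nat.card (comIn ρ' ⊤ E2) * Nat.card (comIn ρ' ⊤ E2') :=
              Nat.mul_le_mul q2 (quadratic_bound ρ' hρ' hW2 hcore hHG' hKS' _ E2' rfl hE2').2
          _ ≤ Nat.card W := by rw [← hc]; exact Subgroup.card_le_card_group _
      · have htriv : ∀ g : G', g = 1 := fun g => by
          have hg : g ∈ ptFix ρ' (⊤ : Subgroup W) := le_ptFix_iff.2 h.ge (mem_top g)
          rw [ptFix_top hρ'] at hg
          exact mem_bot.1 hg
        have hone : ∀ F : Subgroup G', Nat.card F = 1 := fun F =>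
          Subgroup.card_eq_one.2 ((Subgroup.eq_bot_iff_forall _).2 fun g _ => htriv g)
        rw [hone, hone, h, Subgroup.card_top]
        simp
    rw [card_section q hqker (inf_le_left : X ≤ U), h1, hWcard]
    calc (Nat.card E2 * K'.relIndex E) ^ 2 * (Nat.card E2' * K'.relIndex E') ^ 2 *
          (Nat.card (U' ⊓ fixOf ρ ⊤ : Subgroup M) * Nat.card ((X.subgroupOf U).map q))
        ≤ (Nat.card E2 * K'.relIndex E) ^ 2 * (Nat.card E2' * K'.relIndex E') ^ 2 *
          (Nat.card (U' ⊓ fixOf ρ ⊤ : Subgroup M) * Nat.card (fixOf ρ' ⊤)) :=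
          Nat.mul_le_mul le_rfl (Nat.mul_le_mul le_rfl (card_le_of_le himg))
      _ = (K'.relIndex E ^ 2 * K'.relIndex E' ^ 2 * Nat.card (U' ⊓ fixOf ρ ⊤ : Subgroup M)) *
          (Nat.card E2 ^ 2 * Nat.card E2' ^ 2 * Nat.card (fixOf ρ' ⊤)) := by ring
      _ ≤ Nat.card U' * Nat.card W := Nat.mul_le_mul hb key
  · have hb := hb4 Y ((comIn_mono_left hU'U.le E).trans hY)
    rw [hKidx, card_section q hqker (inf_le_left.trans inf_le_left : U ⊓ Y ⊓ fixOf ρ ⊤ ≤ U),
      card_section q hqker (inf_le_left : U ⊓ Y ≤ U)]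
    have h1 : (U ⊓ Y ⊓ fixOf ρ ⊤ ⊓ U' : Subgroup M) = U' ⊓ Y ⊓ fixOf ρ ⊤ := by
      rw [inf_right_comm, inf_right_comm U Y U', inf_eq_right.2 hU'U.le]
    have h1' : (U ⊓ Y ⊓ U' : Subgroup M) = U' ⊓ Y := by
      rw [inf_right_comm, inf_eq_right.2 hU'U.le]
    rw [h1, h1']
    have himgE : comIn ρ' ⊤ E2 ≤ ((U ⊓ Y).subgroupOf U).map q := by
      refine (closure_le _).2 ?_
      rintro _ ⟨_, ⟨e, he, rfl⟩, w, -, rfl⟩
      obtain ⟨x, rfl⟩ := hq w
      refine ⟨⟨ρ e x / x, div_mem (hU e x x.2) x.2⟩,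
        ⟨U.div_mem (hU e x x.2) x.2, hY (delt_mem_comIn he.2 x.2)⟩, ?_⟩
      show q (⟨ρ e x, hU e x x.2⟩ / x) = _
      rw [map_div, ← hact, delt]
    have key : Nat.card E2 ^ 2 * Nat.card (((U ⊓ Y ⊓ fixOf ρ ⊤).subgroupOf U).map q) ≤
        Nat.card (((U ⊓ Y).subgroupOf U).map q) := by
      have himg : ((U ⊓ Y ⊓ fixOf ρ ⊤).subgroupOf U).map q ≤ fixOf ρ' ⊤ := by
        rintro _ ⟨x, hx, rfl⟩
        refine mem_fixOf.2 fun g' _ => ?_
        obtain ⟨g, rfl⟩ := hπ g'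
        rw [hact]
        exact congrArg q (Subtype.ext (mem_fixOf.1 hx.2 g (mem_top g)))
      rcases hirr (fixOf ρ' ⊤) (fun g v hv => by
        rw [mem_fixOf.1 hv g (mem_top g)]; exact hv) with h | h
      · rw [le_bot_iff.1 (himg.trans h.le), Subgroup.card_bot, mul_one]
        exact q2.trans (card_le_of_le himgE)
      · have h' : ∀ g : G', g ∈ (⊥ : Subgroup G') := fun g => by
          rw [← ptFix_top hρ']; exact le_ptFix_iff.2 h.ge (mem_top g)
        rw [Subgroup.card_eq_one.2 ((Subgroup.eq_bot_iff_forall E2).2 fun g _ => mem_bot.1 (h' g)),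
          one_pow, one_mul]
        exact card_le_of_le (map_mono (comap_mono inf_le_left))
    calc (Nat.card E2 * K'.relIndex E) ^ 2 * (Nat.card (U' ⊓ Y ⊓ fixOf ρ ⊤ : Subgroup M) *
          Nat.card (((U ⊓ Y ⊓ fixOf ρ ⊤).subgroupOf U).map q))
        = (K'.relIndex E ^ 2 * Nat.card (U' ⊓ Y ⊓ fixOf ρ ⊤ : Subgroup M)) *
          (Nat.card E2 ^ 2 * Nat.card (((U ⊓ Y ⊓ fixOf ρ ⊤).subgroupOf U).map q)) := by ring
      _ ≤ _ := Nat.mul_le_mul hb key

end CfsgLib.FourFree
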