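import Cfsg.Agent.Lib.FourFree.K.Core
import Cfsg.Agent.Lib.FourFree.Fusion
import Cfsg.Agent.Lib.CFun.FourFreeThompson
import Cfsg.Agent.Lib.Qd.SLTwo

/-!
# Fusion controlled by normalizers of subgroups of `Z(J(S))`

In a group without section `S₄` whose constrained sections have listed simple sections, an
elementary subgroup `A` of the centre of `J(S)` with the double bound, normalized by `N(J(S))`,
has a normalizer controlling strong fusion in `S`. The proof is an induction over subgroups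
containing `S` and quotients by cores of odd order.
-/

set_option autoImplicit false
set_option linter.style.haveILetI false

open Subgroup
open CfsgLib.CFun
open CfsgLib.Fusion (conjBy mem_conjBy conj_mem_conjBy conjBy_le_iff)

namespace CfsgLib.FourFree

universe u

variable {G : Type u} [Group G]

/-- The action of `g` on `B` is induced by an element normalizing `A`. -/
def Mimic (A : Subgroup G) (B : Set G) (g : G) : Prop :=
  ∃ x ∈ normalizer (A : Set G), ∀ b ∈ B, x * b * x⁻¹ = g * b * g⁻¹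

theorem Mimic.of_mem {A : Subgroup G} {B : Set G} {g : G} (h : g ∈ normalizer (A : Set G)) :
    Mimic A B g := ⟨g, h, fun _ _ => rfl⟩

theorem Mimic.mono {A : Subgroup G} {B B' : Set G} {g : G} (h : Mimic A B' g) (hB : B ⊆ B') :
    Mimic A B g := by
  obtain ⟨x, hx, he⟩ := h
  exact ⟨x, hx, fun b hb => he b (hB hb)⟩

theorem Mimic.congr {A : Subgroup G} {B : Set G} {g g' : G} (h : Mimic A B g)
    (he : ∀ b ∈ B, g * b * g⁻¹ = g' * b * g'⁻¹) : Mimic A B g' := by
  obtain ⟨x, hx, hxe⟩ := h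
  exact ⟨x, hx, fun b hb => (hxe b hb).trans (he b hb)⟩

theorem Mimic.mul {A : Subgroup G} {B : Set G} {g k : G} (h : Mimic A B g)
    (h' : Mimic A ((fun b => g * b * g⁻¹) '' B) k) : Mimic A B (k * g) := by
  obtain ⟨x, hx, hxe⟩ := h
  obtain ⟨y, hy, hye⟩ := h'
  refine ⟨y * x, mul_mem hy hx, fun b hb => ?_⟩
  calc y * x * b * (y * x)⁻¹ = y * (x * b * x⁻¹) * y⁻¹ := by group
    _ = k * (g * b * g⁻¹) * k⁻¹ := by rw [hxe b hb, hye _ ⟨b, hb, rfl⟩]
    _ = k * g * b * (k * g)⁻¹ := by group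

theorem Mimic.inv {A : Subgroup G} {B : Set G} {g : G} (h : Mimic A B g) :
    Mimic A ((fun b => g * b * g⁻¹) '' B) g⁻¹ := by
  obtain ⟨x, hx, hxe⟩ := h
  refine ⟨x⁻¹, inv_mem hx, ?_⟩
  rintro _ ⟨b, hb, rfl⟩
  calc x⁻¹ * (g * b * g⁻¹) * x⁻¹⁻¹ = x⁻¹ * (x * b * x⁻¹) * x⁻¹⁻¹ := by rw [hxe b hb]
    _ = g⁻¹ * (g * b * g⁻¹) * g⁻¹⁻¹ := by group

theorem image_conj (k : G) (K : Subgroup G) :
    (fun a => k * a * k⁻¹) '' (K : Set G) = (conjBy k K : Subgroup G) := by
  ext y
  exact ⟨by rintro ⟨a, ha, rfl⟩; exact conj_mem_conjBy ha,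
    fun hy => ⟨k⁻¹ * y * k, mem_conjBy.1 hy, by group⟩⟩

variable [Finite G]

/-- The data: an elementary subgroup of `Z(J(S))` with the double bound, normalized by
`N(J(S))`. -/
structure JData (S : Sylow 2 G) (A : Subgroup G) : Prop where
  elem : ∀ a ∈ A, a * a = 1
  le : A ≤ (S : Subgroup G)
  cent : A ≤ centralizer ((Cfsg.thompsonSubgroupOf 2 (S : Subgroup G) : Subgroup G) : Set G)
  norm : normalizer ((Cfsg.thompsonSubgroupOf 2 (S : Subgroup G) : Subgroup G) : Set G) ≤
    normalizer (A : Set G)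
  double : DoubleImages (S : Subgroup G) A

theorem JData.sylow_le {S : Sylow 2 G} {A : Subgroup G} (h : JData S A) :
    (S : Subgroup G) ≤ normalizer (A : Set G) :=
  (le_normalizer.trans
    (CfsgLib.Fusion.normalizer_le_normalizer_thompsonSubgroupOf _)).trans h.norm

/-- Strong fusion in `S` is realised in `N(A)`. -/
def Realises (S : Sylow 2 G) (A : Subgroup G) : Prop :=
  ∀ (B : Set G) (g : G), (∀ b ∈ B, b ∈ (S : Subgroup G)) →
    (∀ b ∈ B, g * b * g⁻¹ ∈ (S : Subgroup G)) → Mimic A B g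

/-- The statement for all smaller groups. -/
def RealisesBelow (G : Type u) [Group G] : Prop :=
  ∀ (X : Type u) [Group X] [Finite X], Nat.card X < Nat.card G → Cfsg.Involves X G →
    ∀ (T : Sylow 2 X) (A : Subgroup X), JData T A → Realises T A

/-- Overgroups of `S` that are proper. -/
theorem mimic_subgroup (hIH : RealisesBelow G) {S : Sylow 2 G} {A : Subgroup G} (hd : JData S A)
    {H : Subgroup G} (hSH : (S : Subgroup G) ≤ H) (hH : H ≠ ⊤) {B : Set G} {h : G} (hh : h ∈ H)
    (hB : ∀ b ∈ B, b ∈ (S : Subgroup G)) (hhB : ∀ b ∈ B, h * b * h⁻¹ ∈ (S : Subgroup G)) :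
    Mimic A B h := by
  haveI : Fact (Nat.Prime 2) := ⟨Nat.prime_two⟩
  obtain ⟨TH, hTH, hJH⟩ := exists_sylow_of_le S le_rfl hSH
    (fun hd => S.not_dvd_index (hd.trans (relIndex_dvd_index_of_le hSH)))
  have hAH : A ≤ H := hd.le.trans hSH
  set AH := A.subgroupOf H with hAH'
  have hmem : ∀ x : H, x ∈ TH ↔ (x : G) ∈ (S : Subgroup G) := fun x => by
    rw [← hTH]
    exact ⟨fun hx => mem_map_of_mem H.subtype hx,
      fun hx => (Subgroup.mem_map_iff_mem H.subtype_injective).1 hx⟩
  have hdata : JData TH AH := by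
    refine ⟨fun a ha => Subtype.ext (hd.elem _ ha), fun a ha => (hmem a).2 (hd.le ha),
      fun a ha => mem_centralizer_iff.2 fun j hj => Subtype.ext ?_, fun n hn => ?_, ?_⟩
    · exact mem_centralizer_iff.1 (hd.cent ha) (j : G) (by
        rw [← hJH]
        exact mem_map_of_mem H.subtype hj)
    · have h1 : (n : G) ∈ normalizer
          ((Cfsg.thompsonSubgroupOf 2 (S : Subgroup G) : Subgroup G) : Set G) := by
        rw [← hJH]
        exact le_normalizer_map H.subtype (mem_map_of_mem H.subtype hn)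
      have h2 := hd.norm h1
      exact Subgroup.mem_normalizer_iff.2 fun a => Subgroup.mem_normalizer_iff.1 h2 (a : G)
    · intro R hR hR2
      set R' := R.map H.subtype with hR'
      have h1 := hd.double R' (hTH ▸ map_mono hR) (by
        rintro _ ⟨r, hr, rfl⟩
        exact mem_centralizer_iff.2 fun a ha => congrArg Subtype.val
          (mem_centralizer_iff.1 (hR2 r hr) ⟨a, hAH ha⟩ ha))
      have e1 : (centralizer (AH : Set H)).relIndex R ≤
          (centralizer (A : Set G)).relIndex R' := by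
        rw [hR', ← relIndex_comap]
        refine Subgroup.relIndex_le_of_le_left (fun x hx => mem_centralizer_iff.2 fun a ha =>
          Subtype.ext ?_) index_ne_zero_of_finite
        exact mem_centralizer_iff.1 (mem_comap.1 hx) (a : G) ha
      have e2 : Nat.card (AH ⊓ centralizer (R : Set H) : Subgroup H) ≤
          Nat.card (A ⊓ centralizer (R' : Set G) : Subgroup G) := by
        rw [← Subgroup.card_map_of_injective (K := AH ⊓ centralizer (R : Set H))
          H.subtype_injective]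
        refine card_le_of_le ?_
        rintro _ ⟨a, ⟨ha, hac⟩, rfl⟩
        refine ⟨ha, mem_centralizer_iff.2 ?_⟩
        rintro _ ⟨r, hr, rfl⟩
        exact congrArg Subtype.val (mem_centralizer_iff.1 hac r hr)
      have e3 : Nat.card AH = Nat.card A := Nat.card_congr (subgroupOfEquivOfLe hAH).toEquiv
      rw [e3]
      exact (Nat.mul_le_mul (Nat.pow_le_pow_left e1 2) e2).trans h1
  have hlt : Nat.card H < Nat.card G :=
    lt_of_le_of_ne (Subgroup.card_le_card_group H) fun e => hH (Subgroup.eq_top_of_card_eq H e)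
  obtain ⟨x, hx, hxe⟩ := hIH H hlt
    (CfsgLib.Fusion.involves_of_injective H.subtype H.subtype_injective
      (CfsgLib.CFun.involves_self H)) TH AH hdata (Subtype.val ⁻¹' B) ⟨h, hh⟩
    (fun b hb => (hmem b).2 (hB _ hb)) fun b hb => (hmem _).2 (hhB _ hb)
  refine ⟨x, ?_, fun b hb => congrArg Subtype.val (hxe ⟨b, hSH (hB b hb)⟩ hb)⟩
  have h1 := le_normalizer_map H.subtype (mem_map_of_mem H.subtype hx)
  rwa [hAH', map_subgroupOf_eq_of_le hAH] at h1

/-- The core of odd order may be factored out. -/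
theorem mimic_quotient (hIH : RealisesBelow G) {S : Sylow 2 G} {A : Subgroup G} (hd : JData S A)
    (hO : Cfsg.pPrimeCore 2 G ≠ ⊥) : Realises S A := by
  haveI : Fact (Nat.Prime 2) := ⟨Nat.prime_two⟩
  haveI := CfsgLib.Coprime.pPrimeCore_characteristic (G := G) 2
  set O := Cfsg.pPrimeCore 2 G with hOdef
  have hOc : ¬ 2 ∣ Nat.card O := CfsgLib.Coprime.pPrimeCore_not_dvd Fact.out
  set π := QuotientGroup.mk' O with hπdef
  have hπ : Function.Surjective π := QuotientGroup.mk'_surjective O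
  set S0 : Subgroup G := (S : Subgroup G) with hS0
  have hinj : ∀ x ∈ S0, π x = 1 → x = 1 := fun x hx h1 =>
    CfsgLib.Fusion.eq_one_of_pGroup_of_coprime S.2 hx
      ((CfsgLib.Fusion.not_dvd_card_iff_forall_coprime_orderOf O).1 hOc x
        ((QuotientGroup.eq_one_iff x).1 h1))
  have hcomm : ∀ a ∈ S0, ∀ b ∈ S0, π a * π b = π b * π a → a * b = b * a := by
    intro a ha b hb h1
    refine mul_inv_eq_one.1 (hinj _ (mul_mem (mul_mem ha hb) (inv_mem (mul_mem hb ha))) ?_)
    rw [map_mul, map_inv, map_mul, map_mul, mul_inv_eq_one, h1]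
  set S' := S.mapSurjective hπ with hS'
  have hS'e : (S' : Subgroup (G ⧸ O)) = S0.map π := rfl
  set J := Cfsg.thompsonSubgroupOf 2 S0 with hJ
  have hJS : J ≤ S0 := CfsgLib.Fusion.thompsonSubgroupOf_le S0
  have hJ' : Cfsg.thompsonSubgroupOf 2 (S' : Subgroup (G ⧸ O)) = J.map π := by
    rw [hS'e, hJ, CfsgLib.Fusion.map_thompsonSubgroupOf π hinj]
  set A' := A.map π with hA'
  have hdata : JData S' A' := by
    refine ⟨?_, map_mono hd.le, ?_, ?_, ?_⟩
    · rintro _ ⟨a, ha, rfl⟩
      rw [← map_mul, hd.elem a ha, map_one]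
    · rw [hJ']
      rintro _ ⟨a, ha, rfl⟩
      refine mem_centralizer_iff.2 ?_
      rintro _ ⟨j, hj, rfl⟩
      rw [← map_mul, ← map_mul, mem_centralizer_iff.1 (hd.cent ha) j hj]
    · rw [hJ']
      exact ((CfsgLib.Fusion.normalizer_map_le O hOc (S.2.to_le hJS)).trans
        (map_mono hd.norm)).trans (le_normalizer_map π)
    · intro R' hR' hR2
      set R := S0 ⊓ R'.comap π with hR
      have hRmap : R.map π = R' := by
        refine le_antisymm (map_le_iff_le_comap.2 inf_le_right) fun y hy => ?_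
        obtain ⟨s, hs, rfl⟩ := hR' hy
        exact mem_map_of_mem π ⟨hs, hy⟩
      have h1 := hd.double R inf_le_left (by
        rintro r ⟨hrS, hrR⟩
        refine mem_centralizer_iff.2 fun a ha => hcomm a (hd.le ha) _ (mul_mem hrS hrS) ?_
        rw [map_mul π r r]
        exact mem_centralizer_iff.1 (hR2 (π r) hrR) (π a) (mem_map_of_mem π ha))
      have e1 : (centralizer (A' : Set (G ⧸ O))).relIndex R' ≤
          (centralizer (A : Set G)).relIndex R := by
        rw [← hRmap, ← relIndex_comap]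
        refine Subgroup.relIndex_le_of_le_left (fun x hx => mem_centralizer_iff.2 ?_)
          index_ne_zero_of_finite
        rintro _ ⟨a, ha, rfl⟩
        rw [← map_mul, ← map_mul, mem_centralizer_iff.1 hx a ha]
      have e2 : Nat.card (A' ⊓ centralizer (R' : Set (G ⧸ O)) : Subgroup (G ⧸ O)) ≤
          Nat.card (A ⊓ centralizer (R : Set G) : Subgroup G) := by
        refine le_trans (card_le_of_le (K := (A ⊓ centralizer (R : Set G)).map π) ?_)
          (Nat.le_of_dvd Nat.card_pos (Subgroup.card_map_dvd _ π))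
        rintro _ ⟨⟨a, ha, rfl⟩, hac⟩
        refine mem_map_of_mem π ⟨ha, mem_centralizer_iff.2 fun r hr => ?_⟩
        exact hcomm r hr.1 a (hd.le ha)
          (mem_centralizer_iff.1 hac (π r) (hRmap ▸ mem_map_of_mem π hr))
      have e3 : Nat.card A' = Nat.card A :=
        CfsgLib.Fusion.card_map_of_injOn π fun x hx => hinj x (hd.le hx)
      rw [e3]
      exact (Nat.mul_le_mul (Nat.pow_le_pow_left e1 2) e2).trans h1
  have hlt : Nat.card (G ⧸ O) < Nat.card G := by
    rw [Subgroup.card_eq_card_quotient_mul_card_subgroup O]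
    exact lt_mul_of_one_lt_right Nat.card_pos ((Subgroup.one_lt_card_iff_ne_bot O).2 hO)
  intro B g hB hgB
  obtain ⟨x', hx', hxe⟩ := hIH (G ⧸ O) hlt
    (CfsgLib.Fusion.involves_of_surjective π hπ (CfsgLib.CFun.involves_self _)) S' A' hdata
    (π '' B) (π g) (by rintro _ ⟨b, hb, rfl⟩; exact mem_map_of_mem π (hB b hb))
    (by
      rintro _ ⟨b, hb, rfl⟩
      rw [← map_inv, ← map_mul, ← map_mul]
      exact mem_map_of_mem π (hgB b hb))
  obtain ⟨n, hn, rfl⟩ := CfsgLib.Fusion.normalizer_map_le O hOc (S.2.to_le hd.le) hx'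
  set M := (S0.map π).comap π ⊓ normalizer (A : Set G) with hM
  have hSM : S0 ≤ M := le_inf (le_comap_map _ _) hd.sylow_le
  have hP : Subgroup.closure B ≤ S0 := (closure_le _).2 hB
  have hR : conjBy n (Subgroup.closure B) ≤ M := by
    show (Subgroup.closure B).map (MulAut.conj n).toMonoidHom ≤ M
    rw [MonoidHom.map_closure, closure_le]
    rintro _ ⟨b, hb, rfl⟩
    refine mem_inf.2 ⟨?_, mul_mem (mul_mem hn (hd.sylow_le (hB b hb))) (inv_mem hn)⟩
    rw [mem_comap]
    show π (n * b * n⁻¹) ∈ S0.map π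
    rw [map_mul, map_mul, map_inv, hxe _ ⟨b, hb, rfl⟩, ← map_inv, ← map_mul, ← map_mul]
    exact mem_map_of_mem π (hgB b hb)
  obtain ⟨l, hl, hle⟩ := CfsgLib.Fusion.exists_conj_le_of_not_dvd_relIndex S.2 hSM
    (fun hd' => S.not_dvd_index (hd'.trans (relIndex_dvd_index_of_le hSM)))
    (CfsgLib.Fusion.isPGroup_conjBy n (S.2.to_le hP)) hR
  rw [CfsgLib.Fusion.conjBy_conjBy] at hle
  obtain ⟨⟨s, hs, hsl⟩, hlA⟩ := hl
  refine ⟨s⁻¹ * l * n, mul_mem (mul_mem (inv_mem (hd.sylow_le hs)) hlA) hn, fun b hb => ?_⟩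
  have hin : s⁻¹ * l * n * b * (s⁻¹ * l * n)⁻¹ ∈ S0 := by
    have := conjBy_le_iff.1 hle b (subset_closure hb)
    convert mul_mem (mul_mem (inv_mem hs) this) hs using 1
    group
  refine mul_inv_eq_one.1 (hinj _ (mul_mem hin (inv_mem (hgB b hb))) ?_)
  have hpx : π (s⁻¹ * l * n) = π n := by
    rw [map_mul, map_mul, map_inv, hsl, inv_mul_cancel, one_mul]
  rw [map_mul π _ (g * b * g⁻¹)⁻¹, map_inv π (g * b * g⁻¹), mul_inv_eq_one, map_mul, map_mul,
    map_inv, hpx, hxe _ ⟨b, hb, rfl⟩, ← map_inv, ← map_mul, ← map_mul]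

/-- The case `G = C(O₂) S`. -/
theorem mimic_central (hfree : ¬ Cfsg.Involves (Equiv.Perm (Fin 4)) G) (hIH : RealisesBelow G)
    {S : Sylow 2 G} {A : Subgroup G} (hd : JData S A)
    (hSQ : (S : Subgroup G) ≠ Cfsg.pCore 2 G)
    (hCS : centralizer ((Cfsg.pCore 2 G : Subgroup G) : Set G) ⊔ (S : Subgroup G) = ⊤)
    {P : Subgroup G} {g : G} (hQP : Cfsg.pCore 2 G ≤ P) (hPS : P ≤ (S : Subgroup G))
    (hgP : conjBy g P ≤ (S : Subgroup G)) : Mimic A (P : Set G) g := by
  haveI : Fact (Nat.Prime 2) := ⟨Nat.prime_two⟩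
  haveI hQn := CfsgLib.Coprime.pCore_normal' (G := G) 2
  set Q := Cfsg.pCore 2 G with hQdef
  have hQp : IsPGroup 2 Q := CfsgLib.Coprime.pCore_isPGroup 2
  set S0 : Subgroup G := (S : Subgroup G) with hS0
  have hQS : Q ≤ S0 := hQp.le_sylow_of_normal S
  set C := centralizer (Q : Set G) with hC
  haveI hCn : C.Normal := inferInstance
  set π := QuotientGroup.mk' Q with hπdef
  have hπ : Function.Surjective π := QuotientGroup.mk'_surjective Q
  set Sb := S.mapSurjective hπ with hSb
  have hSbp : IsPGroup 2 (S0.map π) := S.2.map π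
  have hSbne : S0.map π ≠ ⊥ := by
    intro e'
    rw [Subgroup.map_eq_bot_iff, QuotientGroup.ker_mk'] at e'
    exact hSQ (le_antisymm e' hQS)
  -- lifting one step
  have lift : ∀ W ∈ pairFamily.{u}, ∀ (B : Set G), (∀ b ∈ B, b ∈ S0) → ∀ w : G,
      π w ∈ normalizer
        ((Cfsg.inducedFunctor W (S0.map π) : Subgroup (G ⧸ Q)) : Set (G ⧸ Q)) →
      (∀ b ∈ B, π (w * b * w⁻¹) ∈ S0.map π) →
      Mimic A B w ∧ ∀ b ∈ B, w * b * w⁻¹ ∈ S0 := by
    intro W hW B hB w hw hwB
    set H := (normalizer ((Cfsg.inducedFunctor W (S0.map π) : Subgroup (G ⧸ Q)) :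
      Set (G ⧸ Q))).comap π with hH
    have hSH : S0 ≤ H := by
      rw [hH, ← Subgroup.map_le_iff_le_comap]
      exact le_normalizer.trans
        (cfun_normalizer_le (isConjugacyFunctor_induced (isCharPFunctor_pair W hW)) hSbp)
    have hHne : H ≠ ⊤ := by
      intro e
      have e2 : normalizer ((Cfsg.inducedFunctor W (S0.map π) : Subgroup (G ⧸ Q)) :
          Set (G ⧸ Q)) = ⊤ := by
        rw [← Subgroup.map_comap_eq_self_of_surjective hπ (normalizer _),
          ← Subgroup.map_top_of_surjective π hπ, ← hH, e]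
      haveI : (Cfsg.inducedFunctor W (S0.map π)).Normal := Subgroup.normalizer_eq_top_iff.1 e2
      exact induced_ne_bot (isCharPFunctor_pair W hW) hSbp hSbne
        (le_bot_iff.1 ((CfsgLib.Coprime.le_pCore (hSbp.to_le (induced_le W _))).trans
          (CfsgLib.Coprime.pCore_quotient_eq_bot 2).le))
    have hback : ∀ b ∈ B, w * b * w⁻¹ ∈ S0 := fun b hb => by
      have h1 : w * b * w⁻¹ ∈ (S0.map π).comap π := hwB b hb
      rwa [Subgroup.comap_map_eq, QuotientGroup.ker_mk', sup_eq_left.2 hQS] at h1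
    exact ⟨mimic_subgroup hIH hd hSH hHne hw hB hback, hback⟩
  -- from a fully normalised subgroup
  have full : ∀ (P : Subgroup G) (g : G), Q ≤ P → P ≤ S0 → conjBy g P ≤ S0 →
      ¬ 2 ∣ (S0 ⊓ normalizer (P : Set G)).relIndex (normalizer (P : Set G)) →
      Mimic A (P : Set G) g := by
    intro P g hQP hPS hgP hfull
    have hfree' : ¬ Cfsg.Involves (Equiv.Perm (Fin 4)) (G ⧸ Q) := fun h =>
      hfree (CfsgLib.Fusion.involves_of_surjective π hπ h)
    obtain ⟨y, hy, hye⟩ := strongAtF_of_famCtrl isCharPFunctor_pair (famCtrl_pair hfree') Sb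
      (π '' P) (π g)
      (by rintro _ ⟨a, ha, rfl⟩; exact mem_map_of_mem π (hPS ha))
      (by
        rintro _ ⟨a, ha, rfl⟩
        rw [← map_inv, ← map_mul, ← map_mul]
        exact mem_map_of_mem π (conjBy_le_iff.1 hgP a ha))
    obtain ⟨h, hmim, hhy, -⟩ : ∃ h, Mimic A (P : Set G) h ∧ π h = y ∧
        ∀ a ∈ P, h * a * h⁻¹ ∈ S0 := by
      clear hye
      induction hy with
      | one _ => exact ⟨1, Mimic.of_mem (one_mem _), map_one π,
          fun a ha => by simpa using hPS ha⟩
      | step c W' w hc hW' hw hm ih =>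
        obtain ⟨W, hW, rfl⟩ := hW'
        obtain ⟨d, hd', hdc, hdm⟩ := ih
        obtain ⟨w₀, rfl⟩ := hπ w
        obtain ⟨r, hr⟩ := lift W hW ((fun a => d * a * d⁻¹) '' P)
          (by rintro _ ⟨a, ha, rfl⟩; exact hdm a ha) w₀ (mem_inf.1 hw).2 (by
            rintro _ ⟨a, ha, rfl⟩
            simp only [map_mul, map_inv, hdc]
            have hm' : π w₀ * c * π a * (π w₀ * c)⁻¹ ∈ S0.map π := hm (π a) ⟨a, ha, rfl⟩
            convert hm' using 1
            group)
        refine ⟨w₀ * d, hd'.mul r, by rw [map_mul, hdc], fun a ha => ?_⟩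
        convert hr _ ⟨a, ha, rfl⟩ using 1
        group
    subst hhy
    set d := h⁻¹ * g with hdd
    have hdP : ∀ a ∈ P, d * a * d⁻¹ * a⁻¹ ∈ Q := by
      intro a ha
      rw [← QuotientGroup.eq_one_iff, ← QuotientGroup.mk'_apply, hdd]
      have e := hye (π a) ⟨a, ha, rfl⟩
      simp only [map_mul, map_inv, mul_inv_rev, inv_inv]
      rw [show (π h)⁻¹ * π g * π a * ((π g)⁻¹ * π h) * (π a)⁻¹ =
        (π h)⁻¹ * (π g * π a * (π g)⁻¹) * π h * (π a)⁻¹ by group, ← e]
      group
    -- the stabilizer of `Q ≤ P`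
    set π' := π
    let D : Subgroup G := (centralizer ((P.map π' : Subgroup (G ⧸ Q)) : Set (G ⧸ Q))).comap π'
    have hmemD : ∀ z : G, z ∈ D ↔ ∀ a ∈ P, z * a * z⁻¹ * a⁻¹ ∈ Q := by
      intro z
      rw [mem_comap, mem_centralizer_iff]
      constructor
      · intro h a ha
        rw [← QuotientGroup.eq_one_iff, ← QuotientGroup.mk'_apply, map_mul, map_mul, map_mul,
          map_inv, map_inv, ← h _ (mem_map_of_mem π' ha), mul_inv_cancel_right, mul_inv_cancel]
      · rintro h _ ⟨a, ha, rfl⟩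
        have := h a ha
        rw [← QuotientGroup.eq_one_iff, ← QuotientGroup.mk'_apply, map_mul, map_mul, map_mul,
          map_inv, map_inv, mul_inv_eq_one, mul_inv_eq_iff_eq_mul] at this
        exact this.symm
    have hDN : D ≤ normalizer (P : Set G) := by
      intro z hz
      refine CfsgLib.Fusion.conjBy_eq_iff.1
        (CfsgLib.Fusion.conjBy_eq_of_le (conjBy_le_iff.2 fun a ha => ?_))
      simpa using mul_mem (hQP ((hmemD z).1 hz a ha)) ha
    have hfull' : ¬ 2 ∣ (S0 ⊓ D).relIndex D := by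
      set NP := normalizer (P : Set G)
      have hn : NP ≤ normalizer (D : Set G) := by
        intro n hn
        have h1 : π' n ∈ normalizer ((P.map π' : Subgroup (G ⧸ Q)) : Set (G ⧸ Q)) :=
          le_normalizer_map π' (mem_map_of_mem π' hn)
        have h2 := CfsgLib.CFun.le_normalizer_centralizer (A := P.map π') (H := normalizer
          ((P.map π' : Subgroup (G ⧸ Q)) : Set (G ⧸ Q))) le_rfl h1
        refine Subgroup.mem_normalizer_iff.2 fun z => ?_
        rw [mem_comap, mem_comap, map_mul, map_mul, map_inv]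
        exact Subgroup.mem_normalizer_iff.1 h2 _
      haveI : (D.subgroupOf NP).Normal := normal_subgroupOf_of_le_normalizer hn
      let P1 : Sylow 2 NP := ((S.2.to_le inf_le_left).of_equiv
        (Subgroup.subgroupOfEquivOfLe (inf_le_right : S0 ⊓ NP ≤ NP)).symm).toSylow hfull
      have := CfsgLib.Fusion.not_dvd_relIndex_inf_of_normal P1 (D.subgroupOf NP)
      rw [← Subgroup.relIndex_map_map_of_injective _ _ NP.subtype_injective,
        Subgroup.map_inf _ _ _ NP.subtype_injective, map_subgroupOf_eq_of_le hDN] at this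
      change ¬ 2 ∣ (((S0 ⊓ NP).subgroupOf NP).map NP.subtype ⊓ D).relIndex D at this
      rwa [map_subgroupOf_eq_of_le inf_le_right, inf_assoc, inf_eq_right.2 hDN] at this
    -- `D` is a `2`-group modulo the centralizer of `P`
    have hppow : ∀ z ∈ D, ∃ k : ℕ, z ^ 2 ^ k ∈ centralizer (P : Set G) := by
      intro z hz
      have hzC : ∃ m : ℕ, z ^ 2 ^ m ∈ C := by
        have hzs : z ∈ C ⊔ S0 := hCS ▸ mem_top z
        obtain ⟨c, hc, s, hs, rfl⟩ := Subgroup.mem_sup_of_normal_left.1 hzs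
        obtain ⟨m, hm⟩ := S.2 ⟨s, hs⟩
        refine ⟨m, ?_⟩
        rw [← QuotientGroup.eq_one_iff, QuotientGroup.mk_pow, QuotientGroup.mk_mul,
          (QuotientGroup.eq_one_iff c).2 hc, one_mul, ← QuotientGroup.mk_pow,
          show s ^ 2 ^ m = 1 from congrArg Subtype.val hm]
        rfl
      obtain ⟨m, hm⟩ := hzC
      obtain ⟨k, hk⟩ := exists_ppow_mem_of_stabilizes (S.2.to_le hPS) hQP
        (d := z ^ 2 ^ m) (fun q hq => (mem_centralizer_iff.1 hm q hq).symm)
        ((hmemD _).1 (pow_mem hz _))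
      exact ⟨m + k, by rwa [pow_add, pow_mul]⟩
    obtain ⟨t, ht, htd⟩ : ∃ t ∈ S0 ⊓ D, ∀ a ∈ P, t * a * t⁻¹ = d * a * d⁻¹ := by
      set T := ((S.2.to_le inf_le_left).of_equiv
        (Subgroup.subgroupOfEquivOfLe (inf_le_right : S0 ⊓ D ≤ D)).symm).toSylow hfull' with hT
      set K := (centralizer (P : Set G)).subgroupOf D
      haveI : K.Normal := normal_subgroupOf_of_le_normalizer
        (hDN.trans (CfsgLib.CFun.le_normalizer_centralizer le_rfl))
      have hq : IsPGroup 2 (D ⧸ K) := by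
        intro x
        obtain ⟨z, rfl⟩ := QuotientGroup.mk'_surjective K x
        obtain ⟨k, hk⟩ := hppow z z.2
        refine ⟨k, ?_⟩
        rw [← map_pow, QuotientGroup.mk'_apply, QuotientGroup.eq_one_iff]
        exact hk
      have htop : (T : Subgroup D).map (QuotientGroup.mk' K) = ⊤ :=
        ((T.mapSurjective (QuotientGroup.mk'_surjective K)).is_maximal'
          (hq.to_subgroup ⊤) le_top).symm
      have hdD : d ∈ D := (hmemD d).2 hdP
      obtain ⟨t, ht, hte⟩ := mem_map.1 (htop.symm ▸ mem_top (QuotientGroup.mk' K ⟨d, hdD⟩) :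
        QuotientGroup.mk' K ⟨d, hdD⟩ ∈ (T : Subgroup D).map (QuotientGroup.mk' K))
      refine ⟨t, ht, fun a ha => ?_⟩
      have hc : ((t⁻¹ * ⟨d, hdD⟩ : D) : G) ∈ centralizer (P : Set G) :=
        (QuotientGroup.eq (s := K)).1 hte
      have hc : (t : G)⁻¹ * d ∈ centralizer (P : Set G) := hc
      have := mem_centralizer_iff.1 hc a ha
      calc (t : G) * a * (t : G)⁻¹ =
            (t : G) * (a * ((t : G)⁻¹ * d)) * d⁻¹ := by group
        _ = d * a * d⁻¹ := by rw [this]; group
    obtain ⟨htS, htD⟩ := mem_inf.1 ht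
    have htP : (fun a => t * a * t⁻¹) '' (P : Set G) = (P : Set G) := by
      rw [image_conj, CfsgLib.Fusion.conjBy_eq_iff.2 (hDN htD)]
    refine ((Mimic.of_mem (hd.sylow_le htS)).mul (k := h) (by rwa [htP])).congr fun a ha => ?_
    rw [show h * t * a * (h * t)⁻¹ = h * (t * a * t⁻¹) * h⁻¹ by group, htd a ha, hdd]
    group
  obtain ⟨k, hk1, -, hkfull⟩ := CfsgLib.Fusion.exists_conj_fully_normalized S hPS
  have hQk : Q ≤ conjBy k P := by
    intro q hq
    refine mem_conjBy.2 (hQP ?_)
    simpa using hQn.conj_mem q hq k⁻¹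
  have r₁ := (full (conjBy k P) k⁻¹ hQk hk1
    (by rw [CfsgLib.Fusion.conjBy_inv_conjBy]; exact hPS) hkfull).inv
  rw [image_conj, CfsgLib.Fusion.conjBy_inv_conjBy, inv_inv] at r₁
  have r₂ := full (conjBy k P) (g * k⁻¹) hQk hk1 (by
    rw [CfsgLib.Fusion.conjBy_conjBy, inv_mul_cancel_right]; exact hgP) hkfull
  have r := r₁.mul (k := g * k⁻¹) (by rw [image_conj]; exact r₂)
  rwa [inv_mul_cancel_right] at r

/-- The normalizer of `A` realises strong fusion in `S`. -/
theorem realises_of_data (n : ℕ) :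
    ∀ (G : Type u) [Group G] [Finite G], Nat.card G = n →
      ¬ Cfsg.Involves (Equiv.Perm (Fin 4)) G →
      (∀ (X : Type u) [Group X] [Finite X], Cfsg.Involves X G →
        centralizer ((Cfsg.pCore 2 X : Subgroup X) : Set X) ≤ Cfsg.pCore 2 X → KS X) →
      ∀ (S : Sylow 2 G) (A : Subgroup G), JData S A → Realises S A := by
  induction n using Nat.strong_induction_on with
  | _ n ih =>
  intro G _ _ hn hfree hsec S A hd
  haveI : Fact (Nat.Prime 2) := ⟨Nat.prime_two⟩
  have hIH : RealisesBelow G := by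
    intro X _ _ hlt hX T B hB
    exact ih _ (hn ▸ hlt) X rfl (fun h => hfree (CfsgLib.Qd.involves_trans h hX))
      (fun Z _ _ hZ => hsec Z (CfsgLib.Qd.involves_trans hZ hX)) T B hB
  by_cases hO : Cfsg.pPrimeCore 2 G ≠ ⊥
  · exact mimic_quotient hIH hd hO
  push Not at hO
  set S0 : Subgroup G := (S : Subgroup G) with hS0
  intro B g hB hgB
  by_cases hS : S0 = ⊥
  · refine ⟨1, one_mem _, fun b hb => ?_⟩
    have h1 : ∀ x ∈ S0, x = 1 := fun x hx => by rwa [hS, mem_bot] at hx
    rw [h1 _ (hgB b hb), h1 _ (hB b hb)]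
    simp
  set ZS := S0 ⊓ centralizer (S0 : Set G) with hZS
  by_cases hNZ : normalizer (ZS : Set G) ≠ ⊤
  · -- two proper steps
    have hSNZ : S0 ≤ normalizer (ZS : Set G) :=
      CfsgLib.CFun.le_normalizer_inf le_normalizer
        (CfsgLib.CFun.le_normalizer_centralizer le_normalizer)
    obtain ⟨c, hc, hce⟩ := strongAtF_of_famCtrl isCharPFunctor_pair (famCtrl_pair hfree) S B g
      hB hgB
    suffices key : Mimic A B c by exact key.congr hce
    clear hce
    induction hc with
    | one _ => exact Mimic.of_mem (one_mem _)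
    | step c W' w hc hW' hw hm ihc =>
      refine ihc.mul ?_
      rw [indFam_pair] at hW'
      rcases hW' with rfl | rfl
      · refine mimic_subgroup hIH hd hSNZ hNZ (mem_inf.1 hw).2
          (by rintro _ ⟨b, hb, rfl⟩; exact hc.mem b hb) ?_
        rintro _ ⟨b, hb, rfl⟩
        convert hm b hb using 1
        group
      · exact Mimic.of_mem (hd.norm (mem_inf.1 hw).2)
  push Not at hNZ
  haveI hQn := CfsgLib.Coprime.pCore_normal' (G := G) 2
  set Q := Cfsg.pCore 2 G with hQdef
  have hQp : IsPGroup 2 Q := CfsgLib.Coprime.pCore_isPGroup 2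
  have hQS : Q ≤ S0 := hQp.le_sylow_of_normal S
  set C := centralizer (Q : Set G) with hC
  haveI hCn : C.Normal := inferInstance
  set R := S0 ⊓ C with hR
  have hRp : IsPGroup 2 R := S.2.to_le inf_le_left
  by_cases hNR : normalizer (R : Set G) = ⊤
  · haveI : R.Normal := Subgroup.normalizer_eq_top_iff.1 hNR
    have hcon : C ≤ Q :=
      centralizer_pCore_le_of_inf_le hO S (CfsgLib.Coprime.le_pCore hRp)
    haveI := normal_of_double hfree hcon (hsec G (CfsgLib.CFun.involves_self G) hcon) S hd.elem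
      hd.le hd.cent hd.norm hd.double
    exact Mimic.of_mem (by rw [normalizer_eq_top A]; exact mem_top g)
  have hSN : S0 ≤ normalizer (R : Set G) :=
    CfsgLib.CFun.le_normalizer_inf le_normalizer
      (le_top.trans (Subgroup.normalizer_eq_top C).ge)
  by_cases hCS : C ⊔ S0 = ⊤
  · have hSQ : S0 ≠ Q := by
      intro e
      apply hNR
      haveI : R.Normal := by
        rw [hR, e]
        exact Subgroup.normal_inf_normal Q C
      exact Subgroup.normalizer_eq_top R
    set P := Subgroup.closure B ⊔ Q with hP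
    have hPS : P ≤ S0 := sup_le ((closure_le _).2 hB) hQS
    have hgP : conjBy g P ≤ S0 := by
      show P.map (MulAut.conj g).toMonoidHom ≤ S0
      rw [Subgroup.map_sup, MonoidHom.map_closure]
      refine sup_le ((closure_le _).2 ?_) ?_
      · rintro _ ⟨a, ha, rfl⟩; exact hgB a ha
      · rintro _ ⟨q, hq, rfl⟩; exact hQS (hQn.conj_mem q hq g)
    exact (mimic_central hfree hIH hd hSQ hCS le_sup_right hPS hgP).mono
      fun b hb => mem_sup_left (subset_closure hb)
  · -- both `N(R)` and `C S` are proper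
    have hfr : normalizer (R : Set G) ⊔ C = ⊤ := by
      have hRi : ¬ 2 ∣ R.relIndex C := CfsgLib.Fusion.not_dvd_relIndex_inf_of_normal S C
      let P : Sylow 2 C :=
        (hRp.of_equiv (Subgroup.subgroupOfEquivOfLe inf_le_right).symm).toSylow hRi
      have hmapP : (P : Subgroup C).map C.subtype = R := map_subgroupOf_eq_of_le inf_le_right
      rw [← hmapP]; exact Sylow.normalizer_sup_eq_top P
    have hg : g ∈ C ⊔ normalizer (R : Set G) := by rw [sup_comm, hfr]; exact mem_top g
    obtain ⟨c, hc, n', hn', rfl⟩ := Subgroup.mem_sup_of_normal_left.1 hg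
    set P := Subgroup.closure B with hP
    have hPS : P ≤ S0 := (closure_le _).2 hB
    have hgP : conjBy (c * n') P ≤ S0 := by
      show P.map (MulAut.conj (c * n')).toMonoidHom ≤ S0
      rw [hP, MonoidHom.map_closure, closure_le]
      rintro _ ⟨a, ha, rfl⟩; exact hgB a ha
    set M := normalizer (R : Set G) ⊓ (C ⊔ S0)
    have hSM : S0 ≤ M := le_inf hSN le_sup_right
    have hX : conjBy n' P ≤ M := by
      refine conjBy_le_iff.2 fun a ha => mem_inf.2
        ⟨mul_mem (mul_mem hn' (hSN (hPS ha))) (inv_mem hn'), ?_⟩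
      have h1 := conjBy_le_iff.1 hgP a ha
      have : n' * a * n'⁻¹ = c⁻¹ * (c * n' * a * (c * n')⁻¹) * c := by group
      rw [this]
      exact mul_mem (mul_mem (inv_mem (mem_sup_left hc)) (mem_sup_right h1)) (mem_sup_left hc)
    obtain ⟨c', hc', hle⟩ := CfsgLib.Fusion.exists_conj_le_of_not_dvd_relIndex S.2 hSM
      (fun hd => S.not_dvd_index (hd.trans (relIndex_dvd_index_of_le hSM)))
      (CfsgLib.Fusion.isPGroup_conjBy n' (S.2.to_le hPS)) hX
    rw [CfsgLib.Fusion.conjBy_conjBy] at hle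
    obtain ⟨hc'N, hc'CS⟩ := mem_inf.1 hc'
    have r₁ : Mimic A (P : Set G) (c' * n') := mimic_subgroup hIH hd hSN hNR (mul_mem hc'N hn')
      (fun a ha => hPS ha) fun a ha => conjBy_le_iff.1 hle a ha
    have r₂ : Mimic A (conjBy (c' * n') P : Set G) (c * c'⁻¹) :=
      mimic_subgroup hIH hd le_sup_right hCS (mul_mem (mem_sup_left hc) (inv_mem hc'CS))
        (fun a ha => hle ha) (by
          intro b hb
          obtain ⟨a, ha, rfl⟩ := hb
          have := conjBy_le_iff.1 hgP a ha
          show c * c'⁻¹ * (c' * n' * a * (c' * n')⁻¹) * (c * c'⁻¹)⁻¹ ∈ S0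
          convert this using 1
          group)
    have r := r₁.mul (k := c * c'⁻¹) (by rw [image_conj]; exact r₂)
    rw [← mul_assoc, inv_mul_cancel_right] at r
    exact r.mono subset_closure

end CfsgLib.FourFree
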