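import Cfsg.Agent.Lib.FourFree.K.StronglyClosed
import Cfsg.Agent.Lib.FourFree.K.Bound
import Cfsg.Agent.Lib.PGroup.ElementaryBasic

/-!
# The module generated by `Ω₁(Z(S))` under `N(J(S))`

In a group without section `S₄` whose constrained sections have listed simple sections, the
subgroup generated by the conjugates of `Ω₁(Z(S))` under `N(J(S))` has the double bound, so its
normalizer realises strong fusion in `S`.
-/

set_option autoImplicit false
set_option linter.style.haveILetI false

open Subgroup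
open CfsgLib.CFun (fixOf mem_fixOf)
open CfsgLib.Fusion (maxEA)

namespace CfsgLib.FourFree

universe u

variable {G : Type u} [Group G] [Finite G]

/-- The generators lie in `J ∩ C(J)`. -/
theorem omega_center_le (S : Sylow 2 G) :
    Cfsg.omegaOne 2 ((S : Subgroup G) ⊓ centralizer ((S : Subgroup G) : Set G)) ≤
      Cfsg.thompsonSubgroupOf 2 (S : Subgroup G) ⊓
        centralizer ((Cfsg.thompsonSubgroupOf 2 (S : Subgroup G) : Subgroup G) : Set G) := by
  set J := Cfsg.thompsonSubgroupOf 2 (S : Subgroup G) with hJ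
  refine (closure_le _).2 fun x hx => ?_
  obtain ⟨⟨hxS, hxc⟩, hx2⟩ := hx
  have hcomm : ∀ s ∈ (S : Subgroup G), s * x = x * s := fun s hs => mem_centralizer_iff.1 hxc s hs
  have hxE : ∀ E ∈ maxEA 2 (S : Subgroup G), x ∈ E := by
    intro E hE
    have hEx := CfsgLib.EABasic.isElementaryAbelian_sup hE.2.1
      (CfsgLib.EABasic.isElementaryAbelian_zpowers hx2) fun a ha b hb => by
        obtain ⟨i, rfl⟩ := mem_zpowers_iff.1 hb
        exact (Commute.zpow_right (hcomm a (hE.1 ha)) i).eq
    have hle := hE.2.2 _ (sup_le hE.1 (zpowers_le.2 hxS)) hEx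
    have he : E = E ⊔ zpowers x := Subgroup.eq_of_le_of_card_ge le_sup_left hle
    rw [he]
    exact mem_sup_right (mem_zpowers x)
  have hJS : J ≤ (S : Subgroup G) := CfsgLib.Fusion.thompsonSubgroupOf_le _
  refine ⟨?_, mem_centralizer_iff.2 fun j hj => hcomm j (hJS hj)⟩
  obtain ⟨E, hE⟩ := CfsgLib.Fusion.exists_isMaxEA 2 (S : Subgroup G)
  rw [hJ, CfsgLib.Fusion.thompsonSubgroupOf_eq]
  exact le_sSup (α := Subgroup G) hE (hxE E hE)

/-- The module generated by the conjugates of `Ω₁(Z(S))` in `N(J(S))`. -/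
theorem jdata_omega (hfree : ¬ Cfsg.Involves (Equiv.Perm (Fin 4)) G)
    (hsec : ∀ (X : Type u) [Group X] [Finite X], Cfsg.Involves X G →
      centralizer ((Cfsg.pCore 2 X : Subgroup X) : Set X) ≤ Cfsg.pCore 2 X → KS X)
    (S : Sylow 2 G) (N : Subgroup G)
    (hN : N = normalizer ((Cfsg.thompsonSubgroupOf 2 (S : Subgroup G) : Subgroup G) : Set G))
    (A : Subgroup G)
    (hA : A = (normalClosure (((Cfsg.omegaOne 2 ((S : Subgroup G) ⊓
      centralizer ((S : Subgroup G) : Set G))).subgroupOf N : Subgroup N) : Set N)).map N.subtype) :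
    JData S A := by
  classical
  haveI : Fact (Nat.Prime 2) := ⟨Nat.prime_two⟩
  set S0 : Subgroup G := (S : Subgroup G) with hS0
  set J := Cfsg.thompsonSubgroupOf 2 S0 with hJ
  set Z1 := Cfsg.omegaOne 2 (S0 ⊓ centralizer (S0 : Set G)) with hZ1
  have hJS : J ≤ S0 := CfsgLib.Fusion.thompsonSubgroupOf_le S0
  have hSN : S0 ≤ N := hN ▸ le_normalizer.trans
    (CfsgLib.Fusion.normalizer_le_normalizer_thompsonSubgroupOf S0)
  have hJn : ∀ n ∈ N, ∀ j, j ∈ J ↔ n * j * n⁻¹ ∈ J := fun n hn =>
    Subgroup.mem_normalizer_iff.1 (hN ▸ hn)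
  -- the invariant elementary subgroup
  let Ω : Subgroup G :=
    { carrier := {x | x ∈ J ⊓ centralizer (J : Set G) ∧ x * x = 1}
      one_mem' := ⟨one_mem _, one_mul 1⟩
      mul_mem' := fun {a b} ha hb => ⟨mul_mem ha.1 hb.1, by
        have hc : a * b = b * a := mem_centralizer_iff.1 hb.1.2 a ha.1.1
        calc a * b * (a * b) = a * (b * a) * b := by group
          _ = (a * a) * (b * b) := by rw [← hc]; group
          _ = 1 := by rw [ha.2, hb.2, one_mul]⟩
      inv_mem' := fun {a} ha => ⟨inv_mem ha.1, by rw [← mul_inv_rev, ha.2, inv_one]⟩ }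
  have hZΩ : Z1 ≤ Ω := by
    refine (closure_le _).2 fun x hx => ⟨omega_center_le S (subset_closure hx), ?_⟩
    rw [← pow_two]
    exact hx.2
  have hΩn : ∀ n ∈ N, ∀ x ∈ Ω, n * x * n⁻¹ ∈ Ω := by
    intro n hn x hx
    refine ⟨⟨(hJn n hn x).1 hx.1.1, mem_centralizer_iff.2 fun j hj => ?_⟩, ?_⟩
    · have h1 : n⁻¹ * j * n ∈ J := by simpa using (hJn n⁻¹ (inv_mem hn) j).1 hj
      have h2 := mem_centralizer_iff.1 hx.1.2 _ h1
      calc j * (n * x * n⁻¹) = n * ((n⁻¹ * j * n) * x) * n⁻¹ := by group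
        _ = n * x * n⁻¹ * j := by rw [h2]; group
    · calc n * x * n⁻¹ * (n * x * n⁻¹) = n * (x * x) * n⁻¹ := by group
        _ = 1 := by rw [hx.2]; group
  set A0 := normalClosure ((Z1.subgroupOf N : Subgroup N) : Set N) with hA0
  haveI hA0n : A0.Normal := normalClosure_normal
  have hAΩ : A ≤ Ω := by
    rw [hA, map_le_iff_le_comap]
    haveI : (Ω.comap N.subtype).Normal := ⟨fun x hx n => hΩn n n.2 x hx⟩
    exact normalClosure_le_normal fun x hx => hZΩ hx
  have hAelem : ∀ a ∈ A, a * a = 1 := fun a ha => (hAΩ ha).2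
  have hAJ : A ≤ J := fun a ha => (hAΩ ha).1.1
  have hAcJ : A ≤ centralizer (J : Set G) := fun a ha => (hAΩ ha).1.2
  have hAN : A ≤ N := hA ▸ map_subtype_le _
  have hNA : N ≤ normalizer (A : Set G) := by
    intro n hn
    have h1 : (⟨n, hn⟩ : N) ∈ normalizer (A0 : Set N) := by
      rw [normalizer_eq_top A0]; exact mem_top _
    rw [hA]
    exact le_normalizer_map N.subtype (mem_map_of_mem N.subtype h1)
  refine ⟨hAelem, hAJ.trans hJS, hAcJ, hN ▸ hNA, ?_⟩
  -- the action of `N` on `A`
  have hA0mem : ∀ x : N, x ∈ A0 ↔ (x : G) ∈ A := fun x => by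
    rw [hA]
    exact (Subgroup.mem_map_iff_mem N.subtype_injective).symm
  letI : CommGroup A0 :=
    { mul_comm := fun a b => Subtype.ext (Subtype.ext (mem_centralizer_iff.1
        (hAcJ ((hA0mem _).1 b.2)) _ (hAJ ((hA0mem _).1 a.2)))) }
  have hA02 : ∀ a : A0, a * a = 1 := fun a =>
    Subtype.ext (Subtype.ext (hAelem _ ((hA0mem _).1 a.2)))
  set σ : N →* MulAut A0 := MulAut.conjNormal with hσ
  set π := QuotientGroup.mk' σ.ker with hπdef
  have hπ : Function.Surjective π := QuotientGroup.mk'_surjective _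
  set ρ := QuotientGroup.kerLift σ with hρdef
  have hρ : Function.Injective ρ := QuotientGroup.kerLift_injective σ
  have hact : ∀ (n : N) (a : A0), ((ρ (π n) a : A0) : N) = n * a * n⁻¹ := fun n a =>
    MulAut.conjNormal_apply n a
  have hker : σ.ker = (centralizer (A : Set G)).comap N.subtype := by
    ext n
    rw [MonoidHom.mem_ker, mem_comap]
    constructor
    · intro h
      refine mem_centralizer_iff.2 fun a ha => ?_
      have h1 := hact n ⟨⟨a, hAN ha⟩, (hA0mem _).2 ha⟩
      have h2 : π n = 1 := (QuotientGroup.eq_one_iff n).2 h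
      rw [h2, map_one, MulAut.one_apply] at h1
      exact (mul_inv_eq_iff_eq_mul.1 (congrArg Subtype.val h1).symm).symm
    · intro h
      refine MulEquiv.ext fun a => Subtype.ext (Subtype.ext ?_)
      show ((n * (a : N) * n⁻¹ : N) : G) = ((a : N) : G)
      push_cast
      exact mul_inv_eq_iff_eq_mul.2 (mem_centralizer_iff.1 h _ ((hA0mem _).1 a.2)).symm
  set TN := S.subtype hSN with hTN
  have hTNe : (TN : Subgroup N) = S0.subgroupOf N := rfl
  -- `O₂` of the image is trivial
  have hcore : Cfsg.pCore 2 (N ⧸ σ.ker) = ⊥ := by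
    set P := Cfsg.pCore 2 (N ⧸ σ.ker) with hP
    haveI hPn : P.Normal := CfsgLib.Coprime.pCore_normal' 2
    have hPT : P ≤ (TN : Subgroup N).map π := by
      have h := (CfsgLib.Coprime.pCore_isPGroup (G := N ⧸ σ.ker) 2).le_sylow_of_normal
        (TN.mapSurjective hπ)
      exact h
    set K := P.comap π with hK
    set S1 := (TN : Subgroup N) ⊓ K with hS1
    have hlift : ∀ k ∈ K, ∃ s ∈ S1, π s = π k := fun k hk => by
      obtain ⟨s, hs, hsk⟩ := hPT hk
      exact ⟨s, ⟨hs, show π s ∈ P by rw [hsk]; exact hk⟩, hsk⟩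
    have hgen : A ≤ centralizer ((S1.map N.subtype : Subgroup G) : Set G) := by
      rw [hA, hA0, normalClosure, MonoidHom.map_closure, closure_le]
      rintro _ ⟨y, hy, rfl⟩
      obtain ⟨z, hz, hzy⟩ := Group.mem_conjugatesOfSet_iff.1 hy
      obtain ⟨g, rfl⟩ := isConj_iff.1 hzy
      obtain ⟨c, hc, hcg⟩ := frattini_rel (S := S1) (L := ⊤) (TN.2.to_le inf_le_left) inf_le_right
        (CfsgLib.Fusion.not_dvd_relIndex_inf_of_normal TN K)
        (fun g _ y hy => (inferInstance : K.Normal).conj_mem y hy g) (mem_top g)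
      obtain ⟨s, hs, hsc⟩ := hlift c hc
      set m := s⁻¹ * (c * g) with hm
      have hmS : m ∈ normalizer (S1 : Set N) := mul_mem (inv_mem (le_normalizer hs)) hcg
      have hmg : π m = π g := by
        rw [hm, map_mul, map_mul, map_inv, hsc, inv_mul_cancel_left]
      have hgz : g * z * g⁻¹ = m * z * m⁻¹ := by
        have hzA : z ∈ A0 := subset_normalClosure hz
        rw [← hact g ⟨z, hzA⟩, ← hmg, hact]
      rw [hgz]
      refine mem_centralizer_iff.2 ?_
      rintro _ ⟨s1, hs1, rfl⟩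
      have h1 : (m⁻¹ : N) * s1 * m ∈ S1 := by
        simpa using (Subgroup.mem_normalizer_iff.1 (inv_mem hmS) s1).1 hs1
      have hz' : (z : G) ∈ Z1 := hz
      have h2 : ((m⁻¹ * s1 * m : N) : G) * (z : G) = (z : G) * ((m⁻¹ * s1 * m : N) : G) :=
        mem_centralizer_iff.1 ((((closure_le _).2 fun _ h => h.1 : Z1 ≤ S0 ⊓ centralizer (S0 : Set G)) hz').2) _ h1.1
      show (s1 : G) * ((m * z * m⁻¹ : N) : G) = ((m * z * m⁻¹ : N) : G) * (s1 : G)
      push_cast at h2 ⊢
      calc (s1 : G) * ((m : G) * z * (m : G)⁻¹)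
          = (m : G) * (((m : G)⁻¹ * s1 * m) * z) * (m : G)⁻¹ := by group
        _ = (m : G) * z * (m : G)⁻¹ * s1 := by rw [h2]; group
    refine le_bot_iff.1 fun y hy => ?_
    obtain ⟨k, rfl⟩ := hπ y
    obtain ⟨s, hs, hsk⟩ := hlift k hy
    rw [← hsk, mem_bot, hπdef, QuotientGroup.mk'_apply, QuotientGroup.eq_one_iff, hker, mem_comap]
    refine mem_centralizer_iff.2 fun a ha => ?_
    exact (mem_centralizer_iff.1 (hgen ha) (s : G) (mem_map_of_mem N.subtype hs)).symm
  -- the simple sections of the image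
  have hKS : KS (N ⧸ σ.ker) := by
    set J' := J.subgroupOf N with hJ'
    haveI hJ'n : J'.Normal := ⟨fun j hj n => (hJn n n.2 j).1 hj⟩
    set C1 := centralizer (J' : Set N) with hC1
    haveI : C1.Normal := inferInstance
    have hC1ker : C1 ≤ σ.ker := by
      intro c hc
      rw [hker, mem_comap]
      refine mem_centralizer_iff.2 fun a ha => ?_
      exact congrArg Subtype.val (mem_centralizer_iff.1 hc ⟨a, hAN ha⟩ (hAJ ha))
    set R1 := (TN : Subgroup N) ⊓ C1 with hR1
    set M1 := normalizer (R1 : Set N) with hM1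
    have hTM : (TN : Subgroup N) ≤ M1 :=
      CfsgLib.CFun.le_normalizer_inf le_normalizer
        (le_top.trans (Subgroup.normalizer_eq_top C1).ge)
    have hsurj : Function.Surjective (π.comp M1.subtype) := by
      intro y
      obtain ⟨g, rfl⟩ := hπ y
      obtain ⟨c, hc, hcg⟩ := frattini_rel (S := R1) (L := ⊤) (TN.2.to_le inf_le_left) inf_le_right
        (CfsgLib.Fusion.not_dvd_relIndex_inf_of_normal TN C1)
        (fun g _ y hy => (inferInstance : C1.Normal).conj_mem y hy g) (mem_top g)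
      refine ⟨⟨c * g, hcg⟩, ?_⟩
      show π (c * g) = π g
      rw [map_mul, show π c = 1 from (QuotientGroup.eq_one_iff c).2 (hC1ker hc), one_mul]
    haveI := CfsgLib.Coprime.pPrimeCore_characteristic (G := M1) 2
    set O := Cfsg.pPrimeCore 2 M1 with hO
    have hOc : ¬ 2 ∣ Nat.card O := CfsgLib.Coprime.pPrimeCore_not_dvd Fact.out
    set J'' := J'.subgroupOf M1 with hJ''
    have hJ''p : IsPGroup 2 J'' :=
      ((S.2.to_le hJS).comap_of_injective N.subtype N.subtype_injective).comap_of_injective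
        M1.subtype M1.subtype_injective
    set ψ := QuotientGroup.mk' O with hψdef
    have hψ : Function.Surjective ψ := QuotientGroup.mk'_surjective O
    have hdisj : Disjoint J'' O := disjoint_iff.2 (le_bot_iff.1 fun x hx =>
      CfsgLib.Fusion.eq_one_of_pGroup_of_coprime hJ''p hx.1
        ((CfsgLib.Fusion.not_dvd_card_iff_forall_coprime_orderOf O).1 hOc x hx.2))
    have hOker : O ≤ (π.comp M1.subtype).ker := by
      intro o ho
      refine (QuotientGroup.eq_one_iff (o : N)).2 (hC1ker (mem_centralizer_iff.2 fun j hj => ?_))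
      have hjM : j ∈ M1 := hTM (hJS hj)
      exact congrArg Subtype.val (Subgroup.commute_of_normal_of_disjoint J'' O inferInstance
        inferInstance hdisj ⟨j, hjM⟩ o hj ho).eq
    -- the quotient is constrained
    set TM := TN.subtype hTM with hTMd
    have hcon : centralizer ((Cfsg.pCore 2 (M1 ⧸ O) : Subgroup (M1 ⧸ O)) : Set (M1 ⧸ O)) ≤
        Cfsg.pCore 2 (M1 ⧸ O) := by
      refine CfsgLib.CFun.centralizer_pCore_le_of_inf_le
        (CfsgLib.Coprime.pPrimeCore_quotient_eq_bot Nat.prime_two) (TM.mapSurjective hψ) ?_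
      rintro y ⟨hyT, hyc⟩
      obtain ⟨t, ht, rfl⟩ : y ∈ (TM : Subgroup M1).map ψ := hyT
      have hJc : ∀ j ∈ J'', j * t = t * j := by
        intro j hj
        have hJm : J''.map ψ ≤ Cfsg.pCore 2 (M1 ⧸ O) := by
          haveI : (J''.map ψ).Normal := Normal.map inferInstance _ hψ
          exact CfsgLib.Coprime.le_pCore (hJ''p.map ψ)
        have h1 := mem_centralizer_iff.1 hyc _ (hJm (mem_map_of_mem ψ hj))
        have hjT : j ∈ (TM : Subgroup M1) := hJS hj
        refine mul_inv_eq_one.1 (CfsgLib.Fusion.eq_one_of_pGroup_of_coprime TM.2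
          (mul_mem (mul_mem hjT ht) (inv_mem (mul_mem ht hjT))) ?_)
        refine (CfsgLib.Fusion.not_dvd_card_iff_forall_coprime_orderOf O).1 hOc _ ?_
        rw [← QuotientGroup.eq_one_iff, ← QuotientGroup.mk'_apply, ← hψdef, map_mul, map_inv,
          map_mul, map_mul, mul_inv_eq_one, h1]
      have htR : (t : N) ∈ R1 := ⟨ht, mem_centralizer_iff.2 fun j hj =>
        congrArg Subtype.val (hJc ⟨j, hTM (hJS hj)⟩ hj)⟩
      haveI : ((R1.subgroupOf M1).map ψ).Normal :=
        Normal.map Subgroup.normal_in_normalizer _ hψ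
      refine CfsgLib.Coprime.le_pCore ?_ (mem_map_of_mem ψ (show t ∈ R1.subgroupOf M1 from htR))
      exact ((TN.2.to_le inf_le_left).comap_of_injective M1.subtype M1.subtype_injective).map ψ
    have hY : KS (M1 ⧸ O) := hsec _
      (CfsgLib.Fusion.involves_of_injective (N.subtype.comp M1.subtype)
        (N.subtype_injective.comp M1.subtype_injective)
        (CfsgLib.Fusion.involves_of_surjective ψ hψ (CfsgLib.CFun.involves_self _))) hcon
    exact hY.of_surjective (QuotientGroup.lift O _ hOker) fun y => by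
      obtain ⟨m, hm⟩ := hsurj y
      exact ⟨ψ m, hm⟩
  have hHG : HG (N ⧸ σ.ker) := hg_of_not_involves
    (fun h => hfree (CfsgLib.Fusion.involves_of_injective N.subtype N.subtype_injective h))
    π hπ (MonoidHom.id A0) Function.surjective_id hρ hA0n
    (fun g e => Subtype.ext (hact g e))
    (fun a ha b hb => congrArg Subtype.val (mul_comm (⟨a, ha⟩ : A0) ⟨b, hb⟩)) hA02
  -- the bound
  intro R hR hR2
  set Rb := (R.subgroupOf N).map π with hRb
  have hRb2 : ∀ x ∈ Rb, x * x = 1 := by
    rintro _ ⟨r, hr, rfl⟩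
    rw [← map_mul]
    refine (QuotientGroup.eq_one_iff _).2 ?_
    rw [hker, mem_comap]
    exact hR2 _ hr
  obtain ⟨h1, -⟩ := quadratic_bound ρ hρ hA02 hcore hHG hKS _ Rb rfl hRb2
  have e1 : (centralizer (A : Set G)).relIndex R = Nat.card Rb := by
    rw [hRb, ← relIndex_ker, hπdef, QuotientGroup.ker_mk', hker, relIndex_comap,
      map_subgroupOf_eq_of_le (hR.trans hSN)]
  have e2 : Nat.card (A ⊓ centralizer (R : Set G) : Subgroup G) ≤ Nat.card (fixOf ρ Rb) := by
    rw [← Subgroup.card_map_of_injective (K := fixOf ρ Rb)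
      (f := N.subtype.comp A0.subtype) (N.subtype_injective.comp A0.subtype_injective)]
    refine card_le_of_le fun a ha => ⟨⟨⟨a, hAN ha.1⟩, (hA0mem _).2 ha.1⟩, mem_fixOf.2 ?_, rfl⟩
    rintro _ ⟨r, hr, rfl⟩
    refine Subtype.ext ?_
    rw [hact]
    refine Subtype.ext ?_
    push_cast
    exact mul_inv_eq_iff_eq_mul.2 (mem_centralizer_iff.1 ha.2 _ hr)
  have e3 : Nat.card A0 = Nat.card A := by
    rw [hA, Subgroup.card_map_of_injective N.subtype_injective]
  calc (centralizer (A : Set G)).relIndex R ^ 2 *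
        Nat.card (A ⊓ centralizer (R : Set G) : Subgroup G)
      ≤ Nat.card Rb ^ 2 * Nat.card (fixOf ρ Rb) := by rw [e1]; exact Nat.mul_le_mul_left _ e2
    _ ≤ Nat.card A0 := h1
    _ = Nat.card A := e3

end CfsgLib.FourFree
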