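import Cfsg.Agent.Lib.FourFree.K.Modules
import Cfsg.Agent.Lib.FourFree.K.Generation

/-!
# No offenders when `O₂` has none with exponent two

Let `G` act faithfully on the elementary `2`-group `M`, with listed simple sections and no inverted
element of order three.  If `|X|² |C_M(X)| ≤ |M|` for every elementary `X ≤ O₂(G)`, then no
nontrivial elementary `2`-subgroup `B` has `|M| ≤ |B| |C_M(B)|`.
-/

set_option autoImplicit false
set_option linter.style.haveILetI false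

open Subgroup
open CfsgLib.CFun (delt fixOf mem_fixOf card_mul_relIndex' IsOff)
open CfsgLib.Fusion (conjBy mem_conjBy conj_mem_conjBy conjBy_le_iff card_conjBy)

namespace CfsgLib.FourFree

universe u v

section Generation

variable {X : Type u} [Group X] [Finite X]

/-- No `2`-group normalized by one of `E` and a suitable conjugate meets the other. -/
theorem exists_conj_meet_both (h2 : Cfsg.pCore 2 X = ⊥) (hG : HG X) (hKS : KS X)
    {E : Subgroup X} (hE : ∀ e ∈ E, e * e = 1) :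
    ∃ h : X, ∀ O : Subgroup X, IsPGroup 2 O →
      ((∀ f ∈ conjBy h E, ∀ o ∈ O, f * o * f⁻¹ ∈ O) → O ⊓ E = ⊥) ∧
      ((∀ f ∈ E, ∀ o ∈ O, f * o * f⁻¹ ∈ O) → O ⊓ conjBy h E = ⊥) := by
  obtain ⟨h, hh⟩ := gen_exists h2 hG hKS hE
  have key : ∀ O : Subgroup X, IsPGroup 2 O → ∀ e ∈ E, e ≠ 1 →
      (e * h * e⁻¹ * h⁻¹) ^ 2 ∈ O → False := by
    intro O hO e he he1 hsq
    obtain ⟨k, hk⟩ := hO ⟨_, hsq⟩
    refine hh e he he1 (k + 1) ?_
    rw [pow_succ', pow_mul]
    exact congrArg Subtype.val hk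
  have hsq : ∀ e ∈ E, (e * h * e⁻¹ * h⁻¹) ^ 2 =
      e * (h * e * h⁻¹ * e * (h * e * h⁻¹)⁻¹) := by
    intro e he
    rw [pow_two, elem_inv hE he, mul_inv_rev, mul_inv_rev, inv_inv, elem_inv hE he]
    group
  refine ⟨h, fun O hO => ⟨fun hn => (Subgroup.eq_bot_iff_forall _).2 fun e he => ?_,
    fun hn => (Subgroup.eq_bot_iff_forall _).2 fun f hf => ?_⟩⟩
  · by_contra he1
    refine key O hO e he.2 he1 ?_
    rw [hsq e he.2]
    exact mul_mem he.1 (hn _ (conj_mem_conjBy (g := h) he.2) e he.1)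
  · by_contra hf1
    obtain ⟨e, he, rfl⟩ : ∃ e ∈ E, h * e * h⁻¹ = f :=
      ⟨h⁻¹ * f * h, mem_conjBy.1 hf.2, by group⟩
    refine key O hO e he (fun e1 => hf1 (by rw [e1]; group)) ?_
    rw [hsq e he]
    have h1 := mul_mem (hn e he _ hf.1) hf.1
    rw [elem_inv hE he] at h1
    have e1 : (h * e * h⁻¹)⁻¹ = h * e * h⁻¹ := by
      rw [mul_inv_rev, mul_inv_rev, inv_inv, elem_inv hE he]; group
    convert h1 using 1
    rw [e1]
    group

end Generation

variable {G : Type u} {M : Type v} [Group G] [CommGroup M] [Finite G] [Finite M]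

/-- An element centralizing the `2`-group `Z` and its fixed points acts as a `2`-element. -/
theorem exists_pow_eq_one_of_fix (ρ : G →* MulAut M) (hρ : Function.Injective ρ)
    (h2 : ∀ x : M, x * x = 1) {Z : Subgroup G} (hZ : IsPGroup 2 Z) {y : G}
    (hyZ : ∀ z ∈ Z, y * z = z * y) (hy : y ∈ ptFix ρ (fixOf ρ Z)) :
    ∃ k : ℕ, y ^ 2 ^ k = 1 := by
  obtain ⟨e, m, hm, hem⟩ := Nat.exists_eq_two_pow_mul_odd (orderOf_pos y).ne'
  refine ⟨e, ?_⟩
  set w := y ^ 2 ^ e with hw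
  have hwm : w ^ m = 1 := by rw [hw, ← pow_mul, ← hem, pow_orderOf_eq_one]
  have hwfix : ∀ v ∈ fixOf ρ Z, ρ w v = v := pow_mem hy _
  have hwZ : ∀ z ∈ Z, Commute z w := fun z hz => (Commute.pow_right (hyZ z hz).symm _)
  -- the norm of `⟨w⟩`
  let Nm : M →* M :=
    { toFun := fun v => ∏ i ∈ Finset.range m, ρ (w ^ i) v
      map_one' := by simp
      map_mul' := fun a b => by simp [Finset.prod_mul_distrib] }
  have hker : Nm.ker = ⊥ := by
    by_contra hne
    have hinv : Z ≤ setFix ρ Nm.ker := le_setFix fun z hz v hv => by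
      show ∏ i ∈ Finset.range m, ρ (w ^ i) (ρ z v) = 1
      have : ∀ i : ℕ, ρ (w ^ i) (ρ z v) = ρ z (ρ (w ^ i) v) := fun i => by
        rw [← MulAut.mul_apply, ← map_mul, ← ((hwZ z hz).pow_right i).eq, map_mul,
          MulAut.mul_apply]
      rw [Finset.prod_congr rfl fun i _ => this i, ← map_prod,
        show ∏ i ∈ Finset.range m, ρ (w ^ i) v = 1 from hv, map_one]
    obtain ⟨d, hd, hd1, hdfix⟩ := exists_fixed (ρ := ρ) h2 hZ hne hinv
    refine hd1 ?_
    have h1 : ∏ i ∈ Finset.range m, ρ (w ^ i) d = 1 := hd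
    have h3 : ∀ i : ℕ, ρ (w ^ i) d = d := by
      intro i
      induction i with
      | zero => simp
      | succ i ih => rw [pow_succ', map_mul, MulAut.mul_apply, ih, hwfix d hdfix]
    rw [Finset.prod_congr rfl fun i _ => h3 i, Finset.prod_const, Finset.card_range] at h1
    obtain ⟨j, rfl⟩ := hm
    rwa [pow_succ, pow_mul, pow_two, h2, one_pow, one_mul] at h1
  refine hρ (MulEquiv.ext fun v => ?_)
  rw [map_one, MulAut.one_apply]
  refine div_eq_one.1 (mem_bot.1 (hker ▸ ?_))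
  show ∏ i ∈ Finset.range m, ρ (w ^ i) (ρ w v / v) = 1
  have : ∀ i : ℕ, ρ (w ^ i) (ρ w v / v) = ρ (w ^ (i + 1)) v / ρ (w ^ i) v := fun i => by
    rw [map_div, ← MulAut.mul_apply, ← map_mul, pow_succ]
  rw [Finset.prod_congr rfl fun i _ => this i, Finset.prod_range_div (fun i => ρ (w ^ i) v), hwm,
    pow_zero, div_self']

/-- The involutions in the centre of a subgroup, with the trivial element. -/
def centerInvol (Q : Subgroup G) : Subgroup G where
  carrier := {z | z ∈ Q ∧ (∀ q ∈ Q, z * q = q * z) ∧ z * z = 1}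
  one_mem' := ⟨one_mem Q, fun q _ => by simp, one_mul 1⟩
  mul_mem' := fun {a b} ha hb => ⟨mul_mem ha.1 hb.1, fun q hq => by
    rw [mul_assoc, hb.2.1 q hq, ← mul_assoc, ha.2.1 q hq, mul_assoc], by
    rw [mul_assoc, ← mul_assoc b a b, ← ha.2.1 b hb.1, mul_assoc, hb.2.2, mul_one, ha.2.2]⟩
  inv_mem' := fun {a} ha => by
    rw [show a⁻¹ = a from inv_eq_of_mul_eq_one_right ha.2.2]; exact ha

/-- A quadratic elementary subgroup for which both bounds are attained. -/
structure IsTight (ρ : G →* MulAut M) (B : Subgroup G) (a : ℕ) : Prop where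
  elem : ∀ x ∈ B, x * x = 1
  quad : IsQuad ρ B
  card_inf : Nat.card (B ⊓ Cfsg.pCore 2 G : Subgroup G) = a
  relIndex : (Cfsg.pCore 2 G).relIndex B = a
  index_fix : (fixOf ρ B).index = a ^ 2
  fix_inf : fixOf ρ (B ⊓ Cfsg.pCore 2 G) = fixOf ρ B

variable {ρ : G →* MulAut M}

/-- Every quadratic offender is tight. -/
theorem isTight_of_offender (hρ : Function.Injective ρ) (h2 : ∀ x : M, x * x = 1) (hG : HG G)
    (hKS : KS G) (hhyp : ∀ X : Subgroup G, X ≤ Cfsg.pCore 2 G → (∀ x ∈ X, x * x = 1) →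
      Nat.card X ^ 2 * Nat.card (fixOf ρ X) ≤ Nat.card M)
    {B : Subgroup G} (hB : ∀ x ∈ B, x * x = 1) (hquad : IsQuad ρ B) (hoff : IsOff ρ B) :
    ∃ a, IsTight ρ B a := by
  haveI : Fact (Nat.Prime 2) := ⟨Nat.prime_two⟩
  set P := Cfsg.pCore 2 G with hP
  haveI hPn : P.Normal := CfsgLib.Coprime.pCore_normal' 2
  set a := P.relIndex B with ha
  set b := Nat.card (B ⊓ P : Subgroup G) with hb
  set k := (fixOf ρ B).index with hk
  have hC : Nat.card (fixOf ρ B) * k = Nat.card M := Subgroup.card_mul_index _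
  have hCpos : 0 < Nat.card (fixOf ρ B) := Nat.card_pos
  have hab : b * a = Nat.card B := by
    rw [ha, ← Subgroup.inf_relIndex_right P B, hb, inf_comm B P, card_mul_relIndex' inf_le_right]
  have h1 : k ≤ b * a := by
    refine Nat.le_of_mul_le_mul_left ?_ hCpos
    rw [hC, hab, mul_comm]
    exact hoff
  obtain ⟨K, hKn, hKp, hKb⟩ := exists_kernel_bounds ρ h2 hG hKS ⊤ fun _ _ _ => mem_top _
  have hKP : K ≤ P := by
    haveI := hKn
    refine CfsgLib.Coprime.le_pCore fun x => ?_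
    obtain ⟨j, hj⟩ := hKp x x.2
    rw [ptFix_top hρ, mem_bot] at hj
    exact ⟨j, Subtype.ext (by simpa using hj)⟩
  have h3 : a ^ 2 ≤ k := by
    refine Nat.le_of_mul_le_mul_left ?_ hCpos
    rw [hC]
    refine le_trans ?_ ((hKb B hB).1.trans_eq Subgroup.card_top)
    rw [top_inf_eq, mul_comm]
    exact Nat.mul_le_mul (Nat.pow_le_pow_left
      (Subgroup.relIndex_le_of_le_left hKP index_ne_zero_of_finite) 2) le_rfl
  set C0 := fixOf ρ (B ⊓ P) with hC0
  have hCC0 : fixOf ρ B ≤ C0 := fun v hv => mem_fixOf.2 fun x hx => mem_fixOf.1 hv x hx.1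
  have h4 : b ^ 2 ≤ C0.index := by
    refine Nat.le_of_mul_le_mul_left ?_ (Nat.card_pos (α := C0))
    rw [Subgroup.card_mul_index, mul_comm]
    exact hhyp _ inf_le_right fun x hx => hB x hx.1
  have h5 : C0.index ≤ k := Nat.le_of_dvd (Nat.pos_of_ne_zero index_ne_zero_of_finite)
    (Subgroup.index_dvd_of_le hCC0)
  have hapos : 0 < a := Nat.pos_of_ne_zero index_ne_zero_of_finite
  have hbpos : 0 < b := Nat.card_pos
  have hba : b = a := by
    refine le_antisymm ?_ ?_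
    · exact Nat.le_of_mul_le_mul_left (by nlinarith : b * b ≤ b * a) hbpos
    · exact Nat.le_of_mul_le_mul_right (by nlinarith : a * a ≤ b * a) hapos
  have hka : k = a ^ 2 := le_antisymm (by rw [pow_two]; rw [hba] at h1; exact h1) h3
  refine ⟨a, hB, hquad, hba, rfl, hka, ?_⟩
  have hidx : C0.index = k := le_antisymm h5 (by rw [hba] at h4; rw [hka]; exact h4)
  refine (eq_of_le_of_card_ge hCC0 ?_).symm
  refine Nat.le_of_mul_le_mul_right ?_ (Nat.pos_of_ne_zero (index_ne_zero_of_finite (H := C0)))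
  rw [Subgroup.card_mul_index, hidx, Subgroup.card_mul_index]

/-- The involutions of `Z(⟨B, B'⟩ ∩ O₂(G))` commute with `B`. -/
theorem IsTight.commute_centerInvol (hρ : Function.Injective ρ) (h2 : ∀ x : M, x * x = 1)
    (hG : HG G) (hKS : KS G) (hhyp : ∀ X : Subgroup G, X ≤ Cfsg.pCore 2 G → (∀ x ∈ X, x * x = 1) →
      Nat.card X ^ 2 * Nat.card (fixOf ρ X) ≤ Nat.card M)
    {B L : Subgroup G} {a : ℕ} (hT : IsTight ρ B a) (hBL : B ≤ L)
    (hmeet : ∀ O : Subgroup G, O ≤ L → IsPGroup 2 O →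
      (∀ l ∈ L, ∀ o ∈ O, l * o * l⁻¹ ∈ O) → O ⊓ B ≤ Cfsg.pCore 2 G) :
    ∀ z ∈ centerInvol (L ⊓ Cfsg.pCore 2 G), ∀ x ∈ B, x * z = z * x := by
  haveI : Fact (Nat.Prime 2) := ⟨Nat.prime_two⟩
  set P := Cfsg.pCore 2 G with hP
  haveI hPn : P.Normal := CfsgLib.Coprime.pCore_normal' 2
  set Z := centerInvol (L ⊓ P) with hZ
  set B0 := B ⊓ P with hB0
  set C := fixOf ρ B with hC
  have hZP : Z ≤ P := fun z hz => hz.1.2
  have hZL : Z ≤ L := fun z hz => hz.1.1
  have hZB0 : ∀ z ∈ Z, ∀ x ∈ B0, z * x = x * z := fun z hz x hx => hz.2.1 x ⟨hBL hx.1, hx.2⟩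
  have hZconj : ∀ l ∈ L, ∀ z ∈ Z, l * z * l⁻¹ ∈ Z := fun l hl z hz =>
    ⟨⟨L.mul_mem (L.mul_mem hl hz.1.1) (L.inv_mem hl), hPn.conj_mem z hz.1.2 l⟩, fun q hq => by
      have := hz.2.1 (l⁻¹ * q * l) ⟨L.mul_mem (L.mul_mem (L.inv_mem hl) hq.1) hl,
        by simpa using hPn.conj_mem q hq.2 l⁻¹⟩
      calc l * z * l⁻¹ * q = l * (z * (l⁻¹ * q * l)) * l⁻¹ := by group
        _ = q * (l * z * l⁻¹) := by rw [this]; group, by
      calc l * z * l⁻¹ * (l * z * l⁻¹) = l * (z * z) * l⁻¹ := by group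
        _ = 1 := by rw [hz.2.2]; group⟩
  have hZC : ∀ z ∈ Z, ∀ v ∈ C, ρ z v ∈ C := by
    intro z hz v hv
    rw [hC, ← hT.fix_inf]
    refine mem_fixOf.2 fun x hx => ?_
    rw [← MulAut.mul_apply, ← map_mul, ← hZB0 z hz x hx, map_mul, MulAut.mul_apply,
      mem_fixOf.1 hv x hx.1]
  -- the elements of `Z` fixing `C` lie in `B₀`
  set I := Z ⊓ ptFix ρ C with hI
  have hIB : I ≤ B0 := by
    set X := I ⊔ B0 with hX
    have hnorm : B0 ≤ normalizer (I : Set G) := fun x hx => centralizer_le_normalizer _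
      (mem_centralizer_iff.2 fun z hz => hZB0 z hz.1 x hx)
    have hXel : ∀ x ∈ X, x * x = 1 := by
      intro x hx
      rw [hX, ← SetLike.mem_coe, Subgroup.coe_mul_of_right_le_normalizer_left _ _ hnorm] at hx
      obtain ⟨i, hi, y, hy, rfl⟩ := hx
      have hiy : Commute i y := hZB0 i hi.1 y hy
      rw [hiy.symm.mul_mul_mul_comm, hi.1.2.2, hT.elem y hy.1, one_mul]
    have hXle : fixOf ρ B ≤ fixOf ρ X := le_ptFix_iff.1 (sup_le (fun i hi => hi.2)
      (fun x hx v hv => mem_fixOf.1 hv x hx.1))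
    have h1 := hhyp X (sup_le (inf_le_left.trans hZP) inf_le_right) hXel
    have h3 : Nat.card X ^ 2 * Nat.card C ≤ Nat.card M :=
      (Nat.mul_le_mul le_rfl (card_le_of_le hXle)).trans h1
    rw [← Subgroup.card_mul_index C, mul_comm, hC, hT.index_fix] at h3
    have h4 : Nat.card X ≤ a :=
      (Nat.pow_le_pow_iff_left two_ne_zero).1 (Nat.le_of_mul_le_mul_left h3 Nat.card_pos)
    rw [eq_of_le_of_card_ge (le_sup_right : B0 ≤ X) (hT.card_inf.symm ▸ h4)]
    exact le_sup_left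
  have hcom : ∀ z ∈ Z, ∀ x ∈ B, x * z * x⁻¹ * z⁻¹ ∈ I := by
    refine fun z hz x hx => ⟨Z.mul_mem (hZconj x (hBL hx) z hz) (Z.inv_mem hz), fun v hv => ?_⟩
    have h1 : ρ z⁻¹ v ∈ C := hZC _ (inv_mem hz) v hv
    have hxi : x⁻¹ = x := inv_eq_of_mul_eq_one_right (hT.elem x hx)
    rw [hxi]
    simp only [map_mul, MulAut.mul_apply]
    rw [mem_fixOf.1 h1 x hx, apply_apply_inv, mem_fixOf.1 hv x hx]
  suffices hI1 : I = ⊥ by
    intro z hz x hx
    have := mem_bot.1 (hI1 ▸ hcom z hz x hx)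
    exact mul_inv_eq_iff_eq_mul.1 (mul_inv_eq_one.1 this)
  -- work inside `L`
  set ρL := ρ.comp L.subtype with hρL
  set Z' := Z.subgroupOf L with hZ'
  haveI hZ'n : Z'.Normal := ⟨fun z hz l => hZconj l l.2 z hz⟩
  letI : CommGroup Z' := { mul_comm := fun s t => Subtype.ext (Subtype.ext
    (s.2.2.1 _ t.2.1)) }
  set σ : L →* MulAut Z' := MulAut.conjNormal with hσ
  have hZ'2 : ∀ z : Z', z * z = 1 := fun z => Subtype.ext (Subtype.ext z.2.2.2)
  set EL := B.subgroupOf L with hEL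
  have hEL2 : ∀ e ∈ EL, e * e = 1 := fun e he => Subtype.ext (hT.elem e he)
  obtain ⟨K1, hK1n, hK1p, hK1b⟩ := exists_kernel_bounds σ hZ'2 (hG.subgroup L) (hKS.subgroup L) ⊤
    fun _ _ _ => mem_top _
  set U := fixOf ρ Z with hU
  have hUinv : ∀ l : L, ∀ v ∈ U, ρL l v ∈ U := fun l v hv => mem_fixOf.2 fun z hz => by
    have h := mem_fixOf.1 hv _ (hZconj (l : G)⁻¹ (inv_mem l.2) z hz)
    rw [inv_inv] at h
    calc ρ z (ρ (l : G) v) = ρ (l : G) (ρ ((l : G)⁻¹ * z * l) v) := by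
          simp only [← MulAut.mul_apply, ← map_mul]; congr 1; group
      _ = ρ (l : G) v := by rw [h]
  obtain ⟨K2, hK2n, hK2p, hK2b⟩ := exists_kernel_bounds ρL h2 (hG.subgroup L) (hKS.subgroup L) U
    hUinv
  haveI := hK1n
  haveI := hK2n
  set K3 := (K2 ⊓ K1).map L.subtype with hK3
  have hK3p : IsPGroup 2 K3 := by
    rintro ⟨_, x, ⟨hx2, hx1⟩, rfl⟩
    obtain ⟨i, hi⟩ := hK2p x hx2
    obtain ⟨j, hj⟩ := hK1p x hx1
    set y := x ^ 2 ^ (i + j) with hy
    have hy1 : y ∈ ptFix ρL U := by rw [hy, pow_add, pow_mul]; exact pow_mem hi _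
    have hy2 : y ∈ ptFix σ (⊤ : Subgroup Z') := by
      rw [hy, add_comm, pow_add, pow_mul]; exact pow_mem hj _
    obtain ⟨k, hk⟩ := exists_pow_eq_one_of_fix ρ hρ h2 (Z := Z)
      ((CfsgLib.Coprime.pCore_isPGroup 2).to_le hZP) (y := (y : G))
      (fun z hz => by
        have h := congrArg (fun w : Z' => ((w : L) : G))
          (hy2 ⟨⟨z, hZL hz⟩, hz⟩ (mem_top _))
        simp only [hσ, MulAut.conjNormal_apply] at h
        exact mul_inv_eq_iff_eq_mul.1 h) (fun v hv => hy1 v hv)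
    refine ⟨i + j + k, Subtype.ext ?_⟩
    show ((x : L) : G) ^ 2 ^ (i + j + k) = 1
    rw [pow_add, pow_mul, ← hk, hy]
    rfl
  have hK3n : ∀ l ∈ L, ∀ o ∈ K3, l * o * l⁻¹ ∈ K3 := by
    rintro l hl _ ⟨x, hx, rfl⟩
    exact ⟨⟨l, hl⟩ * x * ⟨l, hl⟩⁻¹, (inferInstance : (K2 ⊓ K1).Normal).conj_mem x hx _, rfl⟩
  have hK3B : P.relIndex B ≤ K3.relIndex B := by
    rw [← Subgroup.inf_relIndex_right K3 B]
    exact Subgroup.relIndex_le_of_le_left
      (hmeet K3 (map_subtype_le _) hK3p hK3n) index_ne_zero_of_finite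
  set r := K1.relIndex EL with hr
  set e := K2.relIndex (K1 ⊓ EL) with he
  have hre : K3.relIndex B = e * r := by
    rw [he, hr, relIndex_inf_mul_relIndex, hK3]
    conv_lhs => rw [← map_subgroupOf_eq_of_le hBL]
    exact relIndex_map_map_of_injective _ _ L.subtype_injective
  have har : a ≤ e * r := by rw [← hre, ← hT.relIndex]; exact hK3B
  -- the first bound
  have hr2 : r ^ 2 ≤ Nat.card I := by
    refine (hK1b EL hEL2).2.1.trans ?_
    have hle : (((comIn σ ⊤ EL).map Z'.subtype).map L.subtype) ≤ I := by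
      rw [map_le_iff_le_comap, map_le_iff_le_comap, comIn, closure_le]
      rintro _ ⟨x, hx, w, -, rfl⟩
      show (((delt σ x w : Z') : L) : G) ∈ I
      have := hcom (w : L) w.2 (x : L) hx
      simpa [delt, hσ, div_eq_mul_inv] using this
    rw [← Subgroup.card_map_of_injective (K := comIn σ ⊤ EL) Z'.subtype_injective,
      ← Subgroup.card_map_of_injective (K := (comIn σ ⊤ EL).map Z'.subtype) L.subtype_injective]
    exact card_le_of_le hle
  -- the second bound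
  have he2 : e ^ 2 * Nat.card (U ⊓ C : Subgroup M) ≤ Nat.card U := by
    refine le_trans ?_ (hK2b (K1 ⊓ EL) fun x hx => hEL2 x hx.2).1
    refine Nat.mul_le_mul le_rfl (card_le_of_le (inf_le_inf_left _ fun v hv => ?_))
    exact mem_fixOf.2 fun x hx => mem_fixOf.1 hv (x : G) hx.2
  have hI2 : Nat.card I ^ 2 * Nat.card (C ⊔ U : Subgroup M) ≤ Nat.card M := by
    refine (Nat.mul_le_mul le_rfl (card_le_of_le ?_)).trans
      (hhyp I (hIB.trans inf_le_right) fun x hx => hx.1.2.2)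
    exact sup_le (le_ptFix_iff.1 fun i hi => hi.2) (le_ptFix_iff.1 fun i hi v hv =>
      mem_fixOf.1 hv i hi.1)
  have hsum := card_sup_mul_inf C U
  have hmain : Nat.card I ^ 2 * e ^ 2 ≤ a ^ 2 := by
    refine Nat.le_of_mul_le_mul_left ?_
      (Nat.mul_pos (Nat.card_pos (α := C)) (Nat.card_pos (α := U)))
    calc Nat.card C * Nat.card U * (Nat.card I ^ 2 * e ^ 2)
        = Nat.card I ^ 2 * Nat.card (C ⊔ U : Subgroup M) *
            (e ^ 2 * Nat.card (C ⊓ U : Subgroup M)) := by rw [← hsum]; ring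
      _ ≤ Nat.card M * Nat.card U := Nat.mul_le_mul hI2 (by rw [inf_comm]; exact he2)
      _ = Nat.card C * Nat.card U * a ^ 2 := by
        rw [← Subgroup.card_mul_index C, hC, hT.index_fix]; ring
  refine Subgroup.card_eq_one.1 (le_antisymm ?_ Nat.card_pos)
  have hepos : 0 < e ^ 2 := pow_pos (Nat.pos_of_ne_zero index_ne_zero_of_finite) 2
  have h6 : Nat.card I ^ 2 ≤ r ^ 2 := by
    refine Nat.le_of_mul_le_mul_right ?_ hepos
    calc Nat.card I ^ 2 * e ^ 2 ≤ a ^ 2 := hmain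
      _ ≤ (e * r) ^ 2 := Nat.pow_le_pow_left har 2
      _ = r ^ 2 * e ^ 2 := by ring
  nlinarith [h6.trans hr2]

/-- No nontrivial elementary offenders. -/
theorem tight_offender_eq_bot (hρ : Function.Injective ρ) (h2 : ∀ x : M, x * x = 1) (hG : HG G)
    (hKS : KS G) (hhyp : ∀ X : Subgroup G, X ≤ Cfsg.pCore 2 G → (∀ x ∈ X, x * x = 1) →
      Nat.card X ^ 2 * Nat.card (fixOf ρ X) ≤ Nat.card M)
    {A : Subgroup G} (hA : ∀ x ∈ A, x * x = 1) (hoffA : IsOff ρ A) : A = ⊥ := by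
  classical
  haveI : Fact (Nat.Prime 2) := ⟨Nat.prime_two⟩
  by_contra hA1
  -- the best offenders, minimal by inclusion
  set μ : Subgroup G → ℕ := fun X => Nat.card X * Nat.card (fixOf ρ X) with hμ
  set S : Set (Subgroup G) := {X | (∀ x ∈ X, x * x = 1) ∧ X ≠ ⊥} with hS
  obtain ⟨B1, hB1, hmax⟩ := Set.exists_max_image S μ (Set.toFinite S) ⟨A, hA, hA1⟩
  obtain ⟨B, ⟨⟨hB, hBne⟩, hBμ⟩, hmin⟩ := (Set.toFinite {X | X ∈ S ∧ μ X = μ B1}).exists_minimal
    ⟨B1, hB1, rfl⟩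
  have hoff : IsOff ρ B := le_trans hoffA ((hmax A ⟨hA, hA1⟩).trans_eq hBμ.symm)
  have hquad : IsQuad ρ B := by
    refine CfsgLib.CFun.quadratic_of_minimal (fun x => ⟨1, by rw [pow_one, pow_two, h2]⟩)
      (fun x hx y hy => elem_comm hB hx hy) hBne hoff fun B' hlt hne => ?_
    have hB'S : B' ∈ S := ⟨fun x hx => hB x (hlt.le hx), hne⟩
    refine lt_of_le_of_ne ((hmax B' hB'S).trans_eq hBμ.symm) fun e => ?_
    exact hlt.not_ge (hmin ⟨hB'S, e.trans hBμ⟩ hlt.le)
  obtain ⟨a, hT⟩ := isTight_of_offender hρ h2 hG hKS hhyp hB hquad hoff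
  set P := Cfsg.pCore 2 G with hP
  haveI hPn : P.Normal := CfsgLib.Coprime.pCore_normal' 2
  have ha2 : 2 ≤ a := by
    by_contra ha
    have h1 : Nat.card B = a * a := by
      rw [← card_mul_relIndex' (inf_le_left : B ⊓ P ≤ B), Subgroup.inf_relIndex_left,
        hT.card_inf, hT.relIndex]
    refine hBne (Subgroup.card_eq_one.1 (le_antisymm ?_ Nat.card_pos))
    rw [h1]; nlinarith
  -- a conjugate
  set π := QuotientGroup.mk' P
  have hπ : Function.Surjective π := QuotientGroup.mk'_surjective P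
  obtain ⟨h, hh⟩ := exists_conj_meet_both (CfsgLib.Coprime.pCore_quotient_eq_bot 2)
    (hG.quotient π hπ) (hKS.quotient P) (E := B.map π) (elem_map hB π)
  obtain ⟨g, rfl⟩ := hπ h
  set B' := conjBy g B with hB'
  set L := B ⊔ B' with hL
  have hB'el : ∀ x ∈ B', x * x = 1 := fun x hx => by
    have h1 : g⁻¹ * x * g ∈ B := mem_conjBy.1 hx
    calc x * x = g * ((g⁻¹ * x * g) * (g⁻¹ * x * g)) * g⁻¹ := by group
      _ = 1 := by rw [hB _ h1]; group
  have hB'quad : IsQuad ρ B' := by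
    intro x hx y hy v
    have hconj : ∀ z v, delt ρ z v = ρ g (delt ρ (g⁻¹ * z * g) (ρ g⁻¹ v)) := fun z v => by
      simp only [delt, map_div, ← MulAut.mul_apply, ← map_mul]
      congr 1
      · congr 1; group
      · rw [mul_inv_cancel]; simp
    rw [hconj x, hconj y, apply_inv_apply, hquad _ (mem_conjBy.1 hx) _ (mem_conjBy.1 hy),
      map_one]
  obtain ⟨a', hT'⟩ := isTight_of_offender hρ h2 hG hKS hhyp hB'el hB'quad (by
    unfold IsOff
    rw [hB', card_conjBy, card_fixOf_conjBy]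
    exact hoff)
  have haa : a' = a := by
    refine Nat.pow_left_injective two_ne_zero ?_
    show a' ^ 2 = a ^ 2
    rw [← hT'.index_fix, ← hT.index_fix]
    refine Nat.eq_of_mul_eq_mul_left (Nat.card_pos (α := fixOf ρ B)) ?_
    rw [Subgroup.card_mul_index, ← card_fixOf_conjBy g B, ← hB', Subgroup.card_mul_index]
  subst haa
  have hmeet : ∀ O : Subgroup G, O ≤ L → IsPGroup 2 O →
      (∀ l ∈ L, ∀ o ∈ O, l * o * l⁻¹ ∈ O) → O ⊓ B ≤ P ∧ O ⊓ B' ≤ P := by
    intro O hOL hO hn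
    have hn' : ∀ F : Subgroup G, F ≤ L → ∀ f ∈ F.map π, ∀ o ∈ O.map π,
        f * o * f⁻¹ ∈ O.map π := by
      rintro F hF _ ⟨f, hf, rfl⟩ _ ⟨o, ho, rfl⟩
      rw [← map_inv, ← map_mul, ← map_mul]
      exact mem_map_of_mem π (hn f (hF hf) o ho)
    obtain ⟨i1, i2⟩ := hh (O.map π) (hO.map π)
    rw [← map_conjBy] at i1 i2
    constructor
    · intro x hx
      rw [← QuotientGroup.ker_mk' P, MonoidHom.mem_ker]
      exact mem_bot.1 (i1 (hn' B' le_sup_right) ▸
        mem_inf.2 ⟨mem_map_of_mem π hx.1, mem_map_of_mem π hx.2⟩)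
    · intro x hx
      rw [← QuotientGroup.ker_mk' P, MonoidHom.mem_ker]
      exact mem_bot.1 (i2 (hn' B le_sup_left) ▸
        mem_inf.2 ⟨mem_map_of_mem π hx.1, mem_map_of_mem π hx.2⟩)
  set Z := centerInvol (L ⊓ P) with hZ
  have hZc : ∀ l ∈ L, ∀ z ∈ Z, l * z = z * l := by
    intro l hl z hz
    have hle : L ≤ centralizer ({z} : Set G) := sup_le
      (fun x hx => mem_centralizer_singleton_iff.2 (hT.commute_centerInvol hρ h2 hG hKS hhyp
        le_sup_left (fun O h1 h2 h3 => (hmeet O h1 h2 h3).1) z hz x hx))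
      (fun x hx => mem_centralizer_singleton_iff.2 (hT'.commute_centerInvol hρ h2 hG hKS hhyp
        le_sup_right (fun O h1 h2 h3 => (hmeet O h1 h2 h3).2) z hz x hx))
    exact mem_centralizer_singleton_iff.1 (hle hl)
  -- `Z` is not trivial
  have hZne : Z ≠ ⊥ := by
    set Q := L ⊓ P with hQ
    have hQne : Q ≠ ⊥ := by
      intro e
      have h1 : B ⊓ P ≤ Q := inf_le_inf_right _ le_sup_left
      rw [e, le_bot_iff] at h1
      have := hT.card_inf
      rw [h1, Subgroup.card_bot] at this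
      omega
    have hQp : IsPGroup 2 Q := (CfsgLib.Coprime.pCore_isPGroup 2).to_le inf_le_right
    haveI : Nontrivial Q := (Subgroup.nontrivial_iff_ne_bot _).2 hQne
    haveI := hQp.center_nontrivial
    obtain ⟨n, hn⟩ := (hQp.to_subgroup (center Q)).exists_card_eq
    obtain ⟨c, hc⟩ := exists_prime_orderOf_dvd_card' (G := center Q) 2 (by
      rcases n with _ | n
      · exact absurd hn (by rw [pow_zero]; exact (Finite.one_lt_card (α := center Q)).ne')
      · exact hn ▸ dvd_pow_self 2 n.succ_ne_zero)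
    intro e
    have hcZ : ((c : Q) : G) ∈ Z := by
      refine ⟨(c : Q).2, fun q hq => congrArg Subtype.val
        ((Subgroup.mem_center_iff.1 c.2 ⟨q, hq⟩).symm), ?_⟩
      have h := pow_orderOf_eq_one c
      rw [hc, pow_two] at h
      exact congrArg (fun w : center Q => ((w : Q) : G)) h
    rw [e, mem_bot] at hcZ
    have : c = 1 := Subtype.ext (Subtype.ext hcZ)
    rw [this, orderOf_one] at hc
    omega
  refine hZne (le_bot_iff.1 ?_)
  rw [← ptFix_top hρ]
  refine le_ptFix_iff.2 (le_of_eq ?_)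
  -- `M = C₀ U`
  set U := fixOf ρ Z with hU
  set ρL := ρ.comp L.subtype with hρL
  obtain ⟨K2, hK2n, hK2p, hK2b⟩ := exists_kernel_bounds ρL h2 (hG.subgroup L) (hKS.subgroup L) U
    (fun l v hv => mem_fixOf.2 fun z hz => by
      show ρ z (ρ (l : G) v) = ρ (l : G) v
      rw [← MulAut.mul_apply, ← map_mul, ← hZc l l.2 z hz, map_mul, MulAut.mul_apply,
        mem_fixOf.1 hv z hz])
  haveI := hK2n
  set K3 := K2.map L.subtype with hK3
  have hK3p : IsPGroup 2 K3 := by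
    rintro ⟨_, x, hx, rfl⟩
    obtain ⟨i, hi⟩ := hK2p x hx
    obtain ⟨k, hk⟩ := exists_pow_eq_one_of_fix ρ hρ h2 (Z := Z)
      ((CfsgLib.Coprime.pCore_isPGroup 2).to_le fun z hz => hz.1.2)
      (y := ((x ^ 2 ^ i : L) : G)) (fun z hz => hZc _ (SetLike.coe_mem _) z hz)
      (fun v hv => hi v hv)
    refine ⟨i + k, Subtype.ext ?_⟩
    show ((x : L) : G) ^ 2 ^ (i + k) = 1
    rw [pow_add, pow_mul, ← hk]
    rfl
  have hK3n : ∀ l ∈ L, ∀ o ∈ K3, l * o * l⁻¹ ∈ K3 := by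
    rintro l hl _ ⟨x, hx, rfl⟩
    exact ⟨⟨l, hl⟩ * x * ⟨l, hl⟩⁻¹, hK2n.conj_mem x hx _, rfl⟩
  obtain ⟨m1, m2⟩ := hmeet K3 (map_subtype_le _) hK3p hK3n
  have hidx : ∀ F : Subgroup G, F ≤ L → K3 ⊓ F ≤ P → P.relIndex F ≤
      K2.relIndex (F.subgroupOf L) := by
    intro F hF hle
    rw [← relIndex_map_map_of_injective _ _ L.subtype_injective, map_subgroupOf_eq_of_le hF,
      ← hK3, ← Subgroup.inf_relIndex_right K3 F]
    exact Subgroup.relIndex_le_of_le_left hle index_ne_zero_of_finite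
  have h4 : a' ^ 2 * a' ^ 2 * Nat.card (U ⊓ fixOf ρL ⊤ : Subgroup M) ≤ Nat.card U := by
    refine le_trans ?_ ((hK2b (B.subgroupOf L) (fun e he => Subtype.ext (hB _ he))).2.2.1
      (B'.subgroupOf L) (fun e he => Subtype.ext (hB'el _ he))
      (fun x hx y hy => hquad _ hx _ hy) (fun x hx y hy => hB'quad _ hx _ hy)
      (by rw [← Subgroup.subgroupOf_sup le_sup_left le_sup_right, Subgroup.subgroupOf_self]))
    refine Nat.mul_le_mul (Nat.mul_le_mul (Nat.pow_le_pow_left ?_ 2) (Nat.pow_le_pow_left ?_ 2))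
      le_rfl
    · exact hT.relIndex.ge.trans (hidx B le_sup_left m1)
    · exact hT'.relIndex.ge.trans (hidx B' le_sup_right m2)
  set C0 := fixOf ρ B ⊓ fixOf ρ B' with hC0
  have hC0L : C0 ≤ fixOf ρL ⊤ := by
    intro v hv
    refine mem_fixOf.2 fun l _ => ?_
    have hle : L ≤ ptFix ρ C0 := sup_le (le_ptFix_iff.2 inf_le_left) (le_ptFix_iff.2 inf_le_right)
    exact hle l.2 v hv
  have h5 : Nat.card M ≤ a' ^ 2 * a' ^ 2 * Nat.card C0 := by
    have hs := card_sup_mul_inf (fixOf ρ B) (fixOf ρ B')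
    have hle := Subgroup.card_le_card_group (fixOf ρ B ⊔ fixOf ρ B')
    have e1 := Subgroup.card_mul_index (fixOf ρ B)
    have e2 := Subgroup.card_mul_index (fixOf ρ B')
    rw [hT.index_fix] at e1
    rw [hT'.index_fix] at e2
    refine Nat.le_of_mul_le_mul_left ?_ (Nat.card_pos (α := M))
    calc Nat.card M * Nat.card M
        = a' ^ 2 * a' ^ 2 * (Nat.card (fixOf ρ B) * Nat.card (fixOf ρ B')) := by
          conv_lhs => arg 1; rw [← e1]
          conv_lhs => arg 2; rw [← e2]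
          ring
      _ = a' ^ 2 * a' ^ 2 *
          (Nat.card (fixOf ρ B ⊔ fixOf ρ B' : Subgroup M) * Nat.card C0) := by rw [hs]
      _ ≤ a' ^ 2 * a' ^ 2 * (Nat.card M * Nat.card C0) := by
          exact Nat.mul_le_mul le_rfl (Nat.mul_le_mul hle le_rfl)
      _ = _ := by ring
  have htop : U ⊔ C0 = ⊤ := by
    refine Subgroup.eq_top_of_le_card _ ?_
    refine Nat.le_of_mul_le_mul_right ?_ (Nat.card_pos (α := (U ⊓ C0 : Subgroup M)))
    rw [card_sup_mul_inf]
    calc Nat.card M * Nat.card (U ⊓ C0 : Subgroup M)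
        ≤ a' ^ 2 * a' ^ 2 * Nat.card C0 * Nat.card (U ⊓ fixOf ρL ⊤ : Subgroup M) :=
          Nat.mul_le_mul h5 (card_le_of_le (inf_le_inf_left _ hC0L))
      _ = Nat.card C0 * (a' ^ 2 * a' ^ 2 * Nat.card (U ⊓ fixOf ρL ⊤ : Subgroup M)) := by ring
      _ ≤ Nat.card C0 * Nat.card U := Nat.mul_le_mul le_rfl h4
      _ = _ := by ring
  refine (eq_top_iff.2 ?_).symm
  rw [← htop]
  refine sup_le le_rfl fun v hv => mem_fixOf.2 fun z hz => ?_
  exact mem_fixOf.1 (hC0L hv) ⟨z, hz.1.1⟩ (mem_top _)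

end CfsgLib.FourFree
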